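import Groth.Agent.FMBase.HyperSupport
import Groth.Agent.LimMod.Crit
import Groth.Agent.OmegaLib.IdealMod
import Groth.Agent.PPSheaf.GrCoh
import Groth.Agent.H23.TensorDesc
import Groth.Agent.AmpleVan.Tw
import Groth.Agent.AmpleVan.Mul
import Groth.Agent.KFlatLib.Scheme.QCohTensor
import Groth.Agent.Lib.CurveTensor
import Groth.Agent.FlatStrat.Sheaf
import Groth.Prelude.Def_ClSub2

/-!
# The product map `I ⊗ J ⟶ IJ` of ideal sheaves

It is an epimorphism, and a monomorphism away from the zero locus of `J`.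
-/

noncomputable section

set_option autoImplicit false
set_option backward.isDefEq.respectTransparency false
set_option backward.isDefEq.respectTransparency.types false
set_option linter.style.haveILetI false
set_option maxHeartbeats 1000000
set_option synthInstance.maxHeartbeats 400000

universe u

open CategoryTheory CategoryTheory.Limits AlgebraicGeometry TopologicalSpace Opposite
open scoped TensorProduct

attribute [-instance] CategoryTheory.catToReflQuiver

namespace Groth.Agent.FMBase

open Groth.Agent.InvX Groth.Agent.AmpleVan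

variable {X : Scheme.{u}}

/-- tensors killing the left factor vanish -/
theorem support_tensor_subset_left {E F : X.Modules} :
    CohB1.support ((AmpleVan.tw F).obj E) ⊆ CohB1.support E := by
  intro x hx
  by_contra h
  haveI hs : Subsingleton (E.presheaf.stalk x) := not_not.1 h
  haveI hT : Subsingleton (E.presheaf.stalk x ⊗[X.presheaf.stalk x] F.presheaf.stalk x) :=
    subsingleton_of_forall_eq 0 fun t => by
      induction t using TensorProduct.induction_on with
      | zero => rfl
      | tmul a b => rw [Subsingleton.elim a 0, TensorProduct.zero_tmul]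
      | add a b ha hb => rw [ha, hb, add_zero]
  exact hx (@Equiv.subsingleton _ _ (KFlatLib.stalkTensorIso x E F).symm.toLinearEquiv.toEquiv hT)

/-- every stalk element of `M ⊗ T` is a section of `M` times a frame of `T` -/
theorem exists_tmul_frame {M T : X.Modules} {U : X.Opens} {e : Γ(T, U)} (he : IsFrame e) {z : X} (hz : z ∈ U)
    (m : (CohB1.tensorMod M T).presheaf.stalk z) :
    ∃ (W : X.Opens) (hW : W ≤ U) (hzW : z ∈ W) (a : Γ(M, W)),
      (CohB1.tensorMod M T).presheaf.germ W z hzW (tmul a (AModX.res T hW e)) = m := by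
  let P := CohB1.toPMod M
  let Q := CohB1.toPMod T
  haveI hi := KFlatLib.isIso_stalk_unitShP (x := z) (MonoidalCategory.tensorObj P Q)
  let u : KFlatLib.stalkMod z (MonoidalCategory.tensorObj P Q) →ₗ[X.presheaf.stalk z]
      KFlatLib.stalkMod z (DCoh.toP.obj (DCoh.shP.obj (MonoidalCategory.tensorObj P Q))) :=
    ((KFlatLib.stalkP z).map (KFlatLib.unitShP (MonoidalCategory.tensorObj P Q))).hom
  let ψ := u ∘ₗ (KFlatLib.tensorStalkEquiv P Q).toLinearMap
  have hψ : Function.Surjective ψ :=
    (ConcreteCategory.bijective_of_isIso ((KFlatLib.stalkP z).map (KFlatLib.unitShP (MonoidalCategory.tensorObj P Q)))).2.comp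
      (KFlatLib.tensorStalkEquiv P Q).surjective
  have key : ∀ (W : X.Opens) (hzW : z ∈ W) (a : Γ(M, W)) (b : Γ(T, W)),
      ψ (KFlatLib.germP P W hzW a ⊗ₜ KFlatLib.germP Q W hzW b) =
      (CohB1.tensorMod M T).presheaf.germ W z hzW (InvX.tmul a b) := fun W hzW a b =>
    (congrArg u (KFlatLib.ofTensor_germ W hzW _ _)).trans (KFlatLib.stalkModMap_germ _ W hzW _)
  obtain ⟨w, rfl⟩ := hψ m
  induction w using TensorProduct.induction_on with
  | zero =>
    refine ⟨U, le_rfl, hz, 0, ?_⟩
    rw [map_zero, ← key, map_zero, TensorProduct.zero_tmul, map_zero]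
  | add a b ha hb =>
    obtain ⟨W₁, h₁, hz₁, a₁, e₁⟩ := ha
    obtain ⟨W₂, h₂, hz₂, a₂, e₂⟩ := hb
    refine ⟨W₁ ⊓ W₂, inf_le_left.trans h₁, ⟨hz₁, hz₂⟩,
      AModX.res M inf_le_left a₁ + AModX.res M inf_le_right a₂, ?_⟩
    rw [map_add, ← e₁, ← e₂, ← key, map_add, TensorProduct.add_tmul, map_add, key, key]
    congr 1
    · rw [← AModX.res_res h₁ (inf_le_left : W₁ ⊓ W₂ ≤ W₁), ← res_tmul]
      exact germ_res' _ _ _
    · rw [← AModX.res_res h₂ (inf_le_right : W₁ ⊓ W₂ ≤ W₂), ← res_tmul]
      exact germ_res' _ _ _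
  | tmul x y =>
    obtain ⟨c, rfl⟩ := (he.germ_bijective hz).2 y
    obtain ⟨W, hzW, a, ha⟩ := TopCat.Presheaf.exists_germ_eq M.presheaf (x := z) (c • x : KFlatLib.stalkMod z P)
    refine ⟨W ⊓ U, inf_le_right, ⟨hzW, hz⟩, AModX.res M inf_le_left a, ?_⟩
    rw [← key]
    show ψ _ = ψ (x ⊗ₜ (c • KFlatLib.germP Q U hz e))
    rw [← TensorProduct.smul_tmul]
    congr 1
    congr 1
    · exact (germ_res' (inf_le_left : W ⊓ U ≤ W) ⟨hzW, hz⟩ a).trans ha
    · exact germ_res' (inf_le_right : W ⊓ U ≤ U) ⟨hzW, hz⟩ e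

/-- a function that lies in an ideal on every affine open dies on the closed subscheme -/
theorem subschemeι_app_eq_zero (K : X.IdealSheafData) (U : X.Opens) (x : Γ(X, U))
    (h : ∀ (W : X.affineOpens) (hW : W.1 ≤ U), X.presheaf.map (homOfLE hW).op x ∈ K.ideal W) :
    K.subschemeι.app U x = 0 := by
  refine TopCat.Presheaf.section_ext K.subscheme.sheaf _ _ _ fun y hy => ?_
  obtain ⟨W, hW, hyW, hWU⟩ := exists_isAffineOpen_mem_and_subset (x := K.subschemeι y) (U := U) hy
  have e : K.subschemeι.app W (X.presheaf.map (homOfLE (hWU : W ≤ U)).op x) = 0 := by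
    rw [← RingHom.mem_ker, K.ker_subschemeι_app ⟨W, hW⟩]
    exact h ⟨W, hW⟩ hWU
  rw [← CommRingCat.comp_apply, K.subschemeι.naturality, CommRingCat.comp_apply] at e
  rw [map_zero]
  refine (TopCat.Presheaf.germ_res_apply K.subscheme.presheaf
    ((Opens.map K.subschemeι.base).map (homOfLE (hWU : W ≤ U)).op.unop) y
    (show y ∈ K.subschemeι ⁻¹ᵁ W from hyW) _).symm.trans ?_
  exact (congrArg _ e).trans (map_zero _)

variable (I J : X.IdealSheafData)

/-- the product of local sections, in `O_X` -/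
def prodBilin : H23.TensorDesc.Bilin (ClSub.idealMod I) (ClSub.idealMod J) (Coh.structureModule X) where
  b U a c := OmegaSh.idealSect I U a • (ClSub.idealModι J).app U c
  add_left U a a' c := by rw [map_add, add_smul]
  smul_left U r a c := by rw [OmegaLib.idealSect_smul, mul_smul]
  add_right U a c c' := by rw [map_add, smul_add]
  smul_right U r a c := by rw [Scheme.Modules.Hom.app_smul, smul_comm]
  res {U V} h a c := by
    show AModX.res (Coh.structureModule X) h _ = _
    rw [AModX.res_smul, OmegaSh.idealModι_app_map, OmegaLib.idealSect_map]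
    rfl

theorem fnSect_prod (U : X.Opens) (a : Γ(ClSub.idealMod I, U)) (c : Γ(ClSub.idealMod J, U)) :
    OmegaSh.fnSect X U ((prodBilin I J).b U a c) = OmegaSh.idealSect I U a * OmegaSh.idealSect J U c := rfl

/-- the product of two local sections, in the product ideal -/
def mulIdeal : CohB1.tensorMod (ClSub.idealMod I) (ClSub.idealMod J) ⟶ ClSub.idealMod (I * J) :=
  kernel.lift _ (H23.TensorDesc.desc (prodBilin I J)) (by
    refine hom_ext_tmul (N := ClSub.idealMod J) fun U a c => ?_
    show (ClSub.toSubscheme (I * J)).app U ((H23.TensorDesc.desc (prodBilin I J)).app U (tmul a c)) = _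
    rw [show (H23.TensorDesc.desc (prodBilin I J)).app U (tmul a c) = (prodBilin I J).b U a c from
      H23.TensorDesc.desc_tmul (prodBilin I J) U a c]
    show (I * J).subschemeι.app U (OmegaSh.idealSect I U a * OmegaSh.idealSect J U c) = 0
    refine subschemeι_app_eq_zero _ U _ fun W hW => ?_
    rw [map_mul, ← OmegaLib.idealSect_map, ← OmegaLib.idealSect_map, Scheme.IdealSheafData.ideal_mul, Pi.mul_apply]
    exact Ideal.mul_mem_mul (OmegaLib.idealSect_mem I W _) (OmegaLib.idealSect_mem J W _))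

theorem idealSect_mulIdeal (U : X.Opens) (a : Γ(ClSub.idealMod I, U)) (c : Γ(ClSub.idealMod J, U)) :
    OmegaSh.idealSect (I * J) U ((mulIdeal I J).app U (tmul a c)) =
      OmegaSh.idealSect I U a * OmegaSh.idealSect J U c := by
  rw [← fnSect_prod, OmegaSh.idealSect_apply]
  congr 1
  refine Eq.trans ?_ (H23.TensorDesc.desc_tmul (prodBilin I J) U a c)
  have h : mulIdeal I J ≫ ClSub.idealModι (I * J) = H23.TensorDesc.desc (prodBilin I J) := kernel.lift_ι _ _ _
  exact congr(($h).app U (tmul a c))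

theorem epi_mulIdeal : Epi (mulIdeal I J) := by
  refine LimMod.epi_of_surjective _ (fun V : X.affineOpens => V.1) (fun V => V.2) (fun x => ?_)
    (KFlatLib.isQCoh_tensor (PPSheaf.GrCoh.isQCoh_idealMod I) (PPSheaf.GrCoh.isQCoh_idealMod J))
    (PPSheaf.GrCoh.isQCoh_idealMod _) fun V s => ?_
  · obtain ⟨_, ⟨W, hW, rfl⟩, hxW, -⟩ := X.isBasis_affineOpens.exists_subset_of_mem_open (Set.mem_univ x) isOpen_univ
    exact ⟨⟨W, hW⟩, hxW⟩
  · suffices H : ∀ t ∈ I.ideal V * J.ideal V, ∃ w, OmegaSh.idealSect (I * J) V.1 ((mulIdeal I J).app V.1 w) = t by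
      have hs := OmegaLib.idealSect_mem (I * J) V s
      rw [Scheme.IdealSheafData.ideal_mul, Pi.mul_apply] at hs
      obtain ⟨w, hw⟩ := H _ hs
      exact ⟨w, OmegaLib.idealSect_injective _ V.1 hw⟩
    intro t ht
    induction ht using Submodule.mul_induction_on' with
    | mem_mul_mem a ha b hb =>
      obtain ⟨a', rfl⟩ := OmegaLib.exists_of_mem I V a ha
      obtain ⟨b', rfl⟩ := OmegaLib.exists_of_mem J V b hb
      exact ⟨tmul a' b', idealSect_mulIdeal I J V.1 a' b'⟩
    | add a _ b _ ha hb =>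
      obtain ⟨w, hw⟩ := ha
      obtain ⟨w', hw'⟩ := hb
      exact ⟨w + w', by rw [map_add, map_add, hw, hw']⟩

theorem mono_stalk_mulIdeal {x : X} (hx : x ∉ J.support) :
    Mono ((DerSch.stalkFunctor X x).map (mulIdeal I J)) := by
  obtain ⟨U, hU, hxU, hUJ⟩ := exists_isAffineOpen_mem_and_subset (x := x)
    (U := ⟨(J.support : Set X)ᶜ, J.support.isClosed.isOpen_compl⟩) hx
  have htop : J.ideal ⟨U, hU⟩ = ⊤ := by
    exact FlatStrat.ideal_eq_top_of_disjoint J ⟨U, hU⟩ fun y hy => hUJ hy
  obtain ⟨e, he⟩ := OmegaLib.exists_of_mem J ⟨U, hU⟩ (1 : Γ(X, U)) (htop ▸ Submodule.mem_top)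
  have hframe : IsFrame e := fun V hV => by
    have he' : OmegaSh.idealSect J V (AModX.res _ hV e) = 1 := by
      refine (OmegaLib.idealSect_map J hV e).trans ?_
      rw [he, map_one]
    refine ⟨fun r r' h => ?_, fun c => ⟨OmegaSh.idealSect J V c, OmegaLib.idealSect_injective J V ?_⟩⟩
    · have h' := congrArg (OmegaSh.idealSect J V) h
      simp only [OmegaLib.idealSect_smul, he', mul_one] at h'
      exact h'
    · rw [OmegaLib.idealSect_smul, he', mul_one]
  refine (ModuleCat.mono_iff_injective _).2 ((injective_iff_map_eq_zero _).2 fun m hm => ?_)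
  obtain ⟨W, hW, hxW, a, rfl⟩ := exists_tmul_frame hframe hxU m
  have hm' : (ClSub.idealMod (I * J)).presheaf.germ W x hxW ((mulIdeal I J).app W (tmul a (AModX.res _ hW e))) =
      (ClSub.idealMod (I * J)).presheaf.germ W x hxW 0 :=
    ((DerSch.stalkFunctor_map_germ x (mulIdeal I J) W hxW _).symm.trans hm).trans (map_zero _).symm
  obtain ⟨W', hxW', i₁, i₂, h⟩ := TopCat.Presheaf.germ_eq _ x hxW hxW _ _ hm'
  have hle : W' ≤ W := leOfHom i₁
  have h2 := congrArg (OmegaSh.idealSect (I * J) W') h
  rw [map_zero, map_zero, show i₁ = homOfLE hle from rfl, OmegaLib.idealSect_map, idealSect_mulIdeal] at h2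
  have he1 : OmegaSh.idealSect J W (AModX.res _ hW e) = 1 := by
    refine (OmegaLib.idealSect_map J hW e).trans ?_
    rw [he, map_one]
  rw [he1, mul_one, ← OmegaLib.idealSect_map] at h2
  have h3 : AModX.res (ClSub.idealMod I) hle a = 0 :=
    OmegaLib.idealSect_injective I W' (h2.trans (map_zero _).symm)
  refine (germ_res' hle hxW' _).symm.trans ?_
  rw [res_tmul, h3, tmul_zero_left]
  exact map_zero _

theorem support_kernel_mulIdeal :
    CohB1.support (kernel (mulIdeal I J)) ⊆ (J.support : Set X) := fun x hx => by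
  by_contra h
  exact Snapper.notMem_support_kernel _ (mono_stalk_mulIdeal I J h) hx

end Groth.Agent.FMBase

end
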