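import Groth.Agent.FMBase.Single
import Groth.Agent.KFlatLib.Scheme.AffinePush
import Groth.Agent.KFlatLib.Scheme.RpushQCoh

/-!
# Direct images of modules in degree zero

Along affine maps they are the direct images of modules; derived direct images commute with shifts naturally;
objects with cohomology in one degree are shifts of modules.
-/

noncomputable section

set_option autoImplicit false
set_option backward.isDefEq.respectTransparency false
set_option backward.isDefEq.respectTransparency.types false
set_option linter.style.haveILetI false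
set_option maxHeartbeats 1000000
set_option synthInstance.maxHeartbeats 400000

universe u

open CategoryTheory CategoryTheory.Limits AlgebraicGeometry

attribute [-instance] CategoryTheory.catToReflQuiver

namespace Groth.Agent.FMBase

open Groth.Agent.KFlatLib Groth.Agent.DQGen Groth.Agent.RBC Groth.Agent.GBC

attribute [local instance] hasLpull hasRpush_scheme hasLTensorMod hasLTensorCx HasDerivedCategory.standard

variable {X Y : Scheme.{u}} (f : X ⟶ Y) [DCoh.HasRpush f]

/-- derived direct image along an affine map of a quasi-coherent module -/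
theorem nonempty_rpush_inD_affine [IsAffineHom f] {M : X.Modules} (hM : Coh.IsQCoh M) :
    Nonempty ((DCoh.Rpush f).obj (DCoh.inD X M) ≅ DCoh.inD Y ((Scheme.Modules.pushforward f).obj M)) := by
  let S := (HomologicalComplex.single X.Modules (ComplexShape.up ℤ) 0).obj M
  haveI := isIso_unit_of_isAffineHom f S (fun n => by
    by_cases h : n = 0
    · subst h
      exact KFlatLib.isQCoh_of_iso (HomologicalComplex.singleObjXSelf (ComplexShape.up ℤ) 0 M).symm hM
    · exact isQCoh_of_isZero (HomologicalComplex.isZero_single_obj_X _ _ _ _ h))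
  let α := (DCoh.pushKh f).totalRightDerivedUnit DerivedCategory.Qh
    (HomotopyCategory.quasiIso X.Modules (ComplexShape.up ℤ))
  let q := HomotopyCategory.quotient X.Modules (ComplexShape.up ℤ)
  exact ⟨(DCoh.Rpush f).mapIso ((DerivedCategory.singleFunctorIsoCompQ X.Modules 0).app M ≪≫
      ((DerivedCategory.quotientCompQhIso X.Modules).app S).symm) ≪≫
    (asIso (α.app (q.obj S))).symm ≪≫
    DerivedCategory.Qh.mapIso (((Scheme.Modules.pushforward f).mapHomotopyCategoryFactors
      (ComplexShape.up ℤ)).app S) ≪≫ (DerivedCategory.quotientCompQhIso Y.Modules).app _ ≪≫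
    DerivedCategory.Q.mapIso ((HomologicalComplex.singleMapHomologicalComplex
      (Scheme.Modules.pushforward f) (ComplexShape.up ℤ) 0).app M) ≪≫
    ((DerivedCategory.singleFunctorIsoCompQ Y.Modules 0).app _).symm⟩

/-- derived direct images commute with shifts, naturally -/
theorem nonempty_rpush_shift_nat (n : ℤ) :
    Nonempty (shiftFunctor (DCoh.D X) n ⋙ DCoh.Rpush f ≅ DCoh.Rpush f ⋙ shiftFunctor (DCoh.D Y) n) := by
  haveI := TriCat.qh_isLeftAdjoint_of_exists_resolution (A := X.Modules) exists_kInjective_res
  let adjQ := Adjunction.ofIsLeftAdjoint (DerivedCategory.Qh (C := X.Modules))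
  let ρ := (DerivedCategory.Qh (C := X.Modules)).rightAdjoint
  let W := HomotopyCategory.quasiIso X.Modules (ComplexShape.up ℤ)
  haveI : (ρ ⋙ DCoh.pushKh f).IsRightDerivedFunctor
      (Functor.whiskerRight adjQ.unit (DCoh.pushKh f)) W :=
    TriCat.isRightDerivedFunctor_of_adjunction adjQ W (DCoh.pushKh f)
  let e : ρ ⋙ DCoh.pushKh f ≅ DCoh.Rpush f :=
    Functor.rightDerivedUnique _ _ (Functor.whiskerRight adjQ.unit (DCoh.pushKh f))
      ((DCoh.pushKh f).totalRightDerivedUnit DerivedCategory.Qh W) W
  letI := adjQ.rightAdjointCommShift ℤ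
  exact ⟨(Functor.isoWhiskerLeft _ e).symm ≪≫ (ρ ⋙ DCoh.pushKh f).commShiftIso n ≪≫
    Functor.isoWhiskerRight e _⟩

omit [DCoh.HasRpush f] in
/-- an object with cohomology in a single degree is a shifted module -/
theorem nonempty_iso_inD_shift (K : DCoh.D X) (a : ℤ) (h : ∀ i, i ≠ a → IsZero (DCoh.HD K i)) :
    Nonempty (K ≅ (DCoh.inD X (DCoh.HD K a))⟦-a⟧) := by
  haveI : K.IsGE a := (DerivedCategory.isGE_iff K a).2 fun i hi => h i (ne_of_lt hi)
  haveI : K.IsLE a := (DerivedCategory.isLE_iff K a).2 fun i hi => h i (ne_of_gt hi)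
  obtain ⟨M, ⟨e⟩⟩ := DerivedCategory.exists_iso_singleFunctor_obj_of_isGE_of_isLE K a
  let eM : DCoh.HD K a ≅ M := (DerivedCategory.homologyFunctor X.Modules a).mapIso e ≪≫
    (DerivedCategory.singleFunctorCompHomologyFunctorIso X.Modules a).app M
  exact ⟨e ≪≫ (((DerivedCategory.singleFunctors X.Modules).shiftIso (-a) a 0 (by omega)).app M).symm ≪≫
    (shiftFunctor (DCoh.D X) (-a)).mapIso ((DerivedCategory.singleFunctor X.Modules 0).mapIso eM.symm)⟩

end Groth.Agent.FMBase

end
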