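import Groth.Agent.FMBase.Translate
import Groth.Agent.RBC.Apps

/-!
# Integral transforms and transposes

Functor-level base change along flat maps, composition of derived direct images and the exchange of
direct image along a homomorphism with pullback along its transpose.
-/

noncomputable section

set_option autoImplicit false
set_option backward.isDefEq.respectTransparency false
set_option backward.isDefEq.respectTransparency.types false
set_option linter.style.haveILetI false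
set_option linter.unusedSectionVars false
set_option maxHeartbeats 1000000
set_option synthInstance.maxHeartbeats 400000

universe u

open CategoryTheory CategoryTheory.Limits MonoidalCategory CartesianMonoidalCategory MonObj AlgebraicGeometry

attribute [-instance] CategoryTheory.catToReflQuiver

namespace Groth.Agent.FMBase

open Groth.Agent.H23 Groth.Agent.H23.TrivBasic Groth.Agent.H23.CubeAb Groth.Agent.AbDualBase
open Groth.Agent.KFlatLib Groth.Agent.DQGen Groth.Agent.RBC Groth.Agent.GBC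
open scoped Groth.Agent.H23.PicMul CategoryTheory.Obj

attribute [local instance] hasLpull hasRpush_scheme hasLTensorMod hasLTensorCx HasDerivedCategory.standard

/-- derived direct images compose -/
theorem nonempty_rpush_comp {X Y Z : Scheme.{u}} (f : X ⟶ Y) (g : Y ⟶ Z) [DCoh.HasRpush f] [DCoh.HasRpush g]
    {h : X ⟶ Z} (hfg : f ≫ g = h) [DCoh.HasRpush h] :
    Nonempty (DCoh.Rpush f ⋙ DCoh.Rpush g ≅ DCoh.Rpush h) := by
  subst hfg
  obtain ⟨a⟩ := nonempty_lpull_rpush_adj f
  obtain ⟨b⟩ := nonempty_lpull_rpush_adj g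
  obtain ⟨c⟩ := nonempty_lpull_rpush_adj (f ≫ g)
  obtain ⟨e⟩ := nonempty_lpull_comp f g
  exact ⟨((b.comp a).ofNatIsoLeft e).rightAdjointUniq c⟩

/-- base change along a flat map, naturally on objects with quasi-coherent cohomology -/
theorem nonempty_baseChange_flat {X S X' S' : Scheme.{u}} {f : X ⟶ S} [QuasiCompact f] [QuasiSeparated f]
    {g : S' ⟶ S} [Flat g] {f' : X' ⟶ S'} {g' : X' ⟶ X} (H : IsPullback g' f' f g) [DCoh.HasRpush f]
    [DCoh.HasLpull g] [DCoh.HasRpush f'] [DCoh.HasLpull g'] :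
    Nonempty (ObjectProperty.ι (DCoh.IsQCohD (X := X)) ⋙ DCoh.Rpush f ⋙ DCoh.Lpull g ≅
      ObjectProperty.ι (DCoh.IsQCohD (X := X)) ⋙ DCoh.Lpull g' ⋙ DCoh.Rpush f') := by
  obtain ⟨a⟩ := nonempty_lpull_rpush_adj f
  obtain ⟨a'⟩ := nonempty_lpull_rpush_adj f'
  obtain ⟨α⟩ := nonempty_sq_iso f g f' g' H.w
  let Θ := Functor.whiskerLeft (ObjectProperty.ι (DCoh.IsQCohD (X := X))) (bcM a a' α.hom)
  haveI : ∀ E, IsIso (Θ.app E) := fun E =>
    bc_of_flat_right H _ E.2 _ _ _ _ _ _ (Iso.refl _) (Iso.refl _) (Iso.refl _) (Iso.refl _) a a' α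
  haveI := NatIso.isIso_of_isIso_app Θ
  exact ⟨asIso Θ⟩

variable {k : Type u} [Field k] {A At B Bt : Over (Spec (CommRingCat.of k))}
  [GrpObj A] [IsProper A.hom] [Smooth A.hom] [GeometricallyConnected A.hom]
  [GrpObj At] [IsProper At.hom] [Smooth At.hom] [GeometricallyConnected At.hom]
  [GrpObj B] [IsProper B.hom] [Smooth B.hom] [GeometricallyConnected B.hom]
  [GrpObj Bt] [IsProper Bt.hom] [Smooth Bt.hom] [GeometricallyConnected Bt.hom]
  {φA : ∀ T : Over (Spec (CommRingCat.of k)), PicF.Cl (PicF.XT A.hom T) → (T ⟶ At)}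
  (hφA : AbDual.IsDualAV Scheme.fppfPrecoverage A At φA)
  {φB : ∀ T : Over (Spec (CommRingCat.of k)), PicF.Cl (PicF.XT B.hom T) → (T ⟶ Bt)}
  (hφB : AbDual.IsDualAV Scheme.fppfPrecoverage B Bt φB)
  {PA : (pullback A.hom At.hom).Modules} (hPA : PicF.IsInvertible PA)
  (hPAξ : AbDual.IsPoincareCl A At φA (PicF.cl PA))
  {PB : (pullback B.hom Bt.hom).Modules} (hPB : PicF.IsInvertible PB)
  (hPBξ : AbDual.IsPoincareCl B Bt φB (PicF.cl PB))
include hφA hφB hPA hPAξ hPB hPBξ

/-- direct image along a homomorphism becomes pullback along its transpose -/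
theorem nonempty_push_transform (f : A ⟶ B) [IsMonHom f] (ft : Bt ⟶ At) (hft : AbDual.IsTranspose f φA φB ft)
    [DCoh.HasLpull (pullback.fst A.hom At.hom)] [DCoh.HasLTensorMod PA] [DCoh.HasRpush (pullback.snd A.hom At.hom)]
    [DCoh.HasLpull (pullback.fst B.hom Bt.hom)] [DCoh.HasLTensorMod PB] [DCoh.HasRpush (pullback.snd B.hom Bt.hom)]
    [DCoh.HasRpush f.left] [DCoh.HasLpull ft.left] :
    Nonempty (ObjectProperty.ι (DCoh.IsQCohD (X := A.left)) ⋙ DCoh.Rpush f.left ⋙
        (DCoh.Lpull (pullback.fst B.hom Bt.hom) ⋙ DCoh.LTensorMod PB ⋙ DCoh.Rpush (pullback.snd B.hom Bt.hom)) ≅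
      ObjectProperty.ι (DCoh.IsQCohD (X := A.left)) ⋙ (DCoh.Lpull (pullback.fst A.hom At.hom) ⋙
        DCoh.LTensorMod PA ⋙ DCoh.Rpush (pullback.snd A.hom At.hom)) ⋙ DCoh.Lpull ft.left) := by
  haveI : GeometricallyIntegral A.hom := AVDual.geometricallyIntegral_of_smooth A
  haveI : IsCommMonObj A := isCommMonObj_of_isProper_of_geometricallyIntegral A
  haveI : IsProper (f.left ≫ B.hom) := by rw [Over.w f]; infer_instance
  haveI : IsProper f.left := IsProper.of_comp f.left B.hom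
  let a₁ : pullback A.hom Bt.hom ⟶ A.left := pullback.fst A.hom Bt.hom
  let a₂ : pullback A.hom Bt.hom ⟶ Bt.left := pullback.snd A.hom Bt.hom
  let q₁ : pullback B.hom Bt.hom ⟶ B.left := pullback.fst B.hom Bt.hom
  let q₂ : pullback B.hom Bt.hom ⟶ Bt.left := pullback.snd B.hom Bt.hom
  let p₂ : pullback A.hom At.hom ⟶ At.left := pullback.snd A.hom At.hom
  let τ : pullback A.hom Bt.hom ⟶ pullback A.hom At.hom := (A ◁ ft).left
  let σ : pullback A.hom Bt.hom ⟶ pullback B.hom Bt.hom := (f ▷ Bt).left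
  haveI : Flat q₁ := inferInstanceAs (Flat (pullback.fst B.hom Bt.hom))
  have H₁ : IsPullback a₁ σ f.left q₁ :=
    ((FpqcDescLib.isPullback_whiskerRight f Bt).map (Over.forget _)).flip
  have H₂ : IsPullback τ a₂ p₂ ft.left := by
    have := FinDesc.isPullback_proj A.hom ft
    rwa [PicZeroPrim.xtMap_eq] at this
  have hσ : σ ≫ q₂ = a₂ := congrArg (fun m => m.left) (whiskerRight_snd f Bt)
  have hτ : τ ≫ pullback.fst A.hom At.hom = a₁ := congrArg (fun m => m.left) (whiskerLeft_fst A ft)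
  obtain ⟨e⟩ : Nonempty ((Scheme.Modules.pullback σ).obj PB ≅ (Scheme.Modules.pullback τ).obj PA) := by
    refine (PicGrp.cl_eq_cl_iff _ _).1 ?_
    have := FinDesc.transpose_poincare hφA hφB hft hPAξ hPBξ
    rwa [PicZeroPrim.bcMap_eq, PicZeroPrim.xtMap_eq] at this
  obtain ⟨β₁⟩ := nonempty_baseChange_flat H₁
  obtain ⟨π⟩ := nonempty_projection_invertible σ hPB
  obtain ⟨c⟩ := nonempty_rpush_comp σ q₂ hσ
  obtain ⟨cg⟩ := nonempty_ltensorMod_congr e
  obtain ⟨β₂⟩ := nonempty_transform_baseChange H₂ (pullback.fst A.hom At.hom) (ProjUPX.isQCoh_of_isInvertible hPA)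
    (Seesaw.isFlatOver_of_isInvertible _ hPA)
  obtain ⟨δ⟩ := nonempty_lpull_congr hτ
  exact ⟨Functor.isoWhiskerLeft _ (Functor.associator _ _ _).symm ≪≫ (Functor.associator _ _ _).symm ≪≫
    Functor.isoWhiskerRight β₁ _ ≪≫ Functor.associator _ _ _ ≪≫
    Functor.isoWhiskerLeft _ (Functor.associator _ _ _ ≪≫ Functor.isoWhiskerLeft _
      ((Functor.associator _ _ _).symm ≪≫ Functor.isoWhiskerRight π.symm _ ≪≫ Functor.associator _ _ _ ≪≫
        Functor.isoWhiskerLeft _ c ≪≫ Functor.isoWhiskerRight cg _) ≪≫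
      Functor.isoWhiskerRight δ.symm _) ≪≫ β₂.symm⟩

end Groth.Agent.FMBase

end
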