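import Groth.Agent.FMBase.FirstFibre
import Groth.Agent.FMBase.AffineSingle
import Groth.Agent.FMBase.Transpose
import Groth.Agent.AVPoinc.Dim

/-!
# The Poincaré bundle along the first projection: direct image

It is the skyscraper at the unit, shifted by the dimension.
-/

noncomputable section

set_option autoImplicit false
set_option backward.isDefEq.respectTransparency false
set_option backward.isDefEq.respectTransparency.types false
set_option linter.style.haveILetI false
set_option linter.unusedSectionVars false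
set_option maxHeartbeats 2000000
set_option synthInstance.maxHeartbeats 400000

universe u

open CategoryTheory CategoryTheory.Limits MonoidalCategory CartesianMonoidalCategory MonObj AlgebraicGeometry TopologicalSpace Opposite

attribute [-instance] CategoryTheory.catToReflQuiver

namespace Groth.Agent.FMBase

open Groth.Agent.H23 Groth.Agent.H23.TrivBasic Groth.Agent.H23.CubeAb Groth.Agent.AbDualBase
open Groth.Agent.KFlatLib Groth.Agent.DQGen Groth.Agent.RBC Groth.Agent.GBC
open scoped Groth.Agent.H23.PicMul CategoryTheory.Obj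

attribute [local instance] hasLpull hasRpush_scheme hasLTensorMod hasLTensorCx HasDerivedCategory.standard

/-- direct images supported in finitely many points vanish in the degrees where the cohomology does -/
theorem isZero_Rpush_of_finite_single {X Y : Scheme.{u}} [HasInjectiveResolutions X.Modules] (f : X ⟶ Y)
    [QuasiCompact f] [QuasiSeparated f] (M : X.Modules) {Z : Set Y} (hfin : Z.Finite)
    (hcl : ∀ z ∈ Z, IsClosed ({z} : Set Y))
    (hloc : ∀ q, ∀ y ∉ Z, ∃ U : Y.Opens, y ∈ U ∧ IsZero (((Coh.Rpush f q).obj M).restrict U.ι))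
    (q : ℕ) (hH : Subsingleton (Coh.HH X M q)) : IsZero ((Coh.Rpush f q).obj M) := by
  have hloc' : ∀ q, ∀ y ∉ Z, ∃ U : Opens Y, y ∈ U ∧
      ∀ V ≤ U, Subsingleton (((CohTop.Rpush f.base q).obj (Coh.toAb M)).obj.obj (op V)) := by
    intro q y hy
    obtain ⟨U, hyU, hU⟩ := hloc q y hy
    obtain ⟨e⟩ := AVVanish.nonempty_toAb_Rpush f M q
    refine ⟨U, hyU, fun V hV => ?_⟩
    have hs : Subsingleton Γ((Coh.Rpush f q).obj M, V) := by
      have := QCoh.subsingleton_Γ_of_isZero hU (U.ι ⁻¹ᵁ V)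
      have hVeq : U.ι ''ᵁ (U.ι ⁻¹ᵁ V) = V := by
        rw [Scheme.Hom.image_preimage_eq_opensRange_inf, Scheme.Opens.opensRange_ι]
        exact inf_eq_right.2 hV
      rw [← hVeq]
      exact this
    exact @Equiv.subsingleton _ _ (((sheafToPresheaf _ _).mapIso e).app (op V)).addCommGroupIsoToAddEquiv.toEquiv hs
  haveI hfl : ∀ q, TopCat.Sheaf.IsFlasque ((CohTop.Rpush f.base q).obj (Coh.toAb M)) := fun q =>
    AVVanish.isFlasque_of_finite _ hfin hcl (hloc' q)
  obtain ⟨e⟩ := S0494.result f.base (Coh.toAb M) (fun p q => SiteBase.subsingleton_H_of_isFlasque _ p) q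
  haveI := hH
  haveI : Subsingleton (((CohTop.Rpush f.base q).obj (Coh.toAb M)).obj.obj (op ⊤)) := e.symm.toEquiv.subsingleton
  obtain ⟨e'⟩ := AVVanish.nonempty_toAb_Rpush f M q
  rw [IsZero.iff_id_eq_zero]
  refine Scheme.Modules.hom_ext _ _ fun V => ?_
  haveI : Subsingleton (((CohTop.Rpush f.base q).obj (Coh.toAb M)).obj.obj (op V)) :=
    (AVVanish.surjective_res _ hfin hcl (hloc' q) V).subsingleton
  haveI : Subsingleton Γ((Coh.Rpush f q).obj M, V) :=
    @Equiv.subsingleton _ _ (((sheafToPresheaf _ _).mapIso e').app (op V)).addCommGroupIsoToAddEquiv.symm.toEquiv this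
  ext z
  exact Subsingleton.elim _ _

/-- the derived direct image of a module concentrated in one degree -/
theorem nonempty_rpush_inD_concentrated {X Y : Scheme.{u}} (f : X ⟶ Y) [DCoh.HasRpush f] [QuasiCompact f]
    [QuasiSeparated f] [HasInjectiveResolutions X.Modules] (M : X.Modules) (g : ℕ)
    (h : ∀ i : ℕ, i ≠ g → IsZero ((Coh.Rpush f i).obj M)) :
    Nonempty ((DCoh.Rpush f).obj (DCoh.inD X M) ≅ (DCoh.inD Y ((Coh.Rpush f g).obj M))⟦-(g : ℤ)⟧) := by
  obtain ⟨e⟩ := nonempty_iso_inD_shift ((DCoh.Rpush f).obj (DCoh.inD X M)) (g : ℤ) (fun i hi => by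
    rcases lt_or_ge i 0 with hn | hn
    · exact isZero_hd_rpush_of_lt f _ 0 i hn
    · obtain ⟨n, rfl⟩ := Int.eq_ofNat_of_zero_le hn
      exact (h n (fun e => hi (by rw [e]))).of_iso (nonempty_hd_rpush_single f M n).some)
  exact ⟨e ≪≫ (shiftFunctor (DCoh.D Y) (-(g : ℤ))).mapIso
    ((DerivedCategory.singleFunctor Y.Modules 0).mapIso (nonempty_hd_rpush_single f M g).some)⟩

variable {k : Type u} [Field k] {A At : Over (Spec (CommRingCat.of k))}
  [GrpObj A] [IsProper A.hom] [Smooth A.hom] [GeometricallyConnected A.hom]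
  [GrpObj At] [IsProper At.hom] [Smooth At.hom] [GeometricallyConnected At.hom]
  {φ : ∀ T : Over (Spec (CommRingCat.of k)), PicF.Cl (PicF.XT A.hom T) → (T ⟶ At)}
  (hφ : AbDual.IsDualAV Scheme.fppfPrecoverage A At φ) {P : (pullback A.hom At.hom).Modules}
  (hP : PicF.IsInvertible P) (hξ : AbDual.IsPoincareCl A At φ (PicF.cl P))
include hφ hP hξ

/-- the slice at the unit of the variety carries a trivial bundle -/
theorem triv_slice_fst : Triv ((Scheme.Modules.pullback (lift (toUnit At ≫ η[A]) (𝟙 At)).left).obj P) := by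
  refine (PicGrp.cl_eq_cl_iff _ _).1 ?_
  have h := hξ.2.2
  rw [PicZeroPrim.secT_eq] at h
  exact h

/-- the direct images along the first projection do not all vanish at the unit -/
theorem not_isZero_near_unit (U : A.left.Opens) (hU : η[A].left (IsLocalRing.closedPoint k) ∈ U)
    [HasInjectiveResolutions (pullback A.hom At.hom).Modules] :
    ¬ ∀ q, ∀ y ∈ U, ∃ V : A.left.Opens, y ∈ V ∧
      IsZero (((Coh.Rpush (pullback.fst A.hom At.hom) q).obj P).restrict V.ι) := by
  intro hW
  haveI : GeometricallyIntegral At.hom := AVDual.geometricallyIntegral_of_smooth At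
  haveI : IsLocallyNoetherian A.left := LocallyOfFiniteType.isLocallyNoetherian A.hom
  haveI : IsLocallyNoetherian (pullback A.hom At.hom) :=
    LocallyOfFiniteType.isLocallyNoetherian (pullback.fst A.hom At.hom)
  let f := pullback.fst A.hom At.hom
  let j := (f ⁻¹ᵁ U).ι
  let f' := f ∣_ U
  have sq : IsPullback j f' f U.ι := (isPullback_morphismRestrict f U).flip
  haveI := PPSheaf.preservesFiniteLimits_pullback j
  haveI : HasInjectiveResolutions (f ⁻¹ᵁ U : Scheme.{u}).Modules := KFlatLib.hasInjectiveResolutions_modules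
  have hM : Coh.IsQCoh P := ProjUPX.isQCoh_of_isInvertible hP
  have hz : ∀ q, IsZero ((Coh.Rpush f' q).obj ((Scheme.Modules.pullback j).obj P)) := fun q => by
    haveI := CohBC.isIso_bcQ f U.ι j f' sq P hM q
    refine IsZero.of_iso ?_ (asIso (CohBC.bcQ f U.ι f' j sq.w q P)).symm
    exact (FComplLib.isZero_restrict_of_subsingleton_stalk ((Coh.Rpush f q).obj P) U fun y hy =>
      AVPoinc.subsingleton_stalk_of_locally (hW q y hy)).of_iso ((Scheme.Modules.restrictFunctorIsoPullback U.ι).app _).symm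
  have hjP : PicF.IsInvertible ((Scheme.Modules.pullback j).obj P) := PicClLib.isInvertible_pullback _ hP
  haveI : Subsingleton ↥(Spec (CommRingCat.of k)) := inferInstanceAs (Subsingleton (PrimeSpectrum k))
  have hr : Set.range η[A].left ⊆ Set.range U.ι := by
    rw [Scheme.Opens.range_ι]
    rintro _ ⟨z, rfl⟩
    rwa [show z = IsLocalRing.closedPoint k from
      (inferInstance : Subsingleton (PrimeSpectrum k)).elim _ _]
  let u' := IsOpenImmersion.lift U.ι η[A].left hr
  have hu' : u' ≫ U.ι = η[A].left := IsOpenImmersion.lift_fac _ _ _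
  let s : At.left ⟶ pullback A.hom At.hom := (lift (toUnit At ≫ η[A]) (𝟙 At)).left
  have hs1 : s ≫ f = At.hom ≫ η[A].left := by
    refine (congrArg CommaMorphism.left (lift_fst (toUnit At ≫ η[A]) (𝟙 At))).trans ?_
    show (toUnit At).left ≫ η[A].left = _
    rw [Over.toUnit_left]
    try rfl
  have hs2 : s ≫ pullback.snd A.hom At.hom = 𝟙 At.left :=
    congrArg CommaMorphism.left (lift_snd (toUnit At ≫ η[A]) (𝟙 At))
  have hη : η[A].left ≫ A.hom = 𝟙 (Spec (CommRingCat.of k)) := Over.w η[A]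
  have hsq : IsPullback s At.hom f η[A].left := by
    refine IsPullback.of_right ?_ hs1 (IsPullback.of_hasPullback A.hom At.hom).flip
    rw [hs2, hη]
    exact IsPullback.id_horiz _
  let s' := sq.lift s (At.hom ≫ u') (by rw [Category.assoc, hu']; exact hs1)
  have hs' : s' ≫ j = s := sq.lift_fst _ _ _
  have hsq' : IsPullback s' At.hom f' u' :=
    IsPullback.of_right (by rw [hs', hu']; exact hsq) (sq.lift_snd _ _ _) sq
  have h0 := AVVanish.subsingleton_fiberH_zero f' (AmpleVan.isCoh_invertible hjP)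
    (AVEuler.isFlatOver_of_finLocFree _ (ParaFX.FlatDesc.isFinLocFree_of_invertible hjP)) hz
    (u' (IsLocalRing.closedPoint k))
  replace h0 := (AVVanish.subsingleton_fiberH_iff hsq' (U.ι ≫ A.hom) (by rw [← Category.assoc, hu', hη])
    (AmpleVan.isCoh_invertible hjP).1 0).1 h0
  refine AVVanish.not_subsingleton_HH_zero At (QCoh.subsingleton_HH_of_iso ?_ 0 h0)
  exact (Scheme.Modules.pullbackComp s' j).app P ≪≫ (Scheme.Modules.pullbackCongr hs').app P ≪≫
    (triv_slice_fst hφ hP hξ).some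

/-- the derived direct image of the Poincaré bundle along the first projection -/
theorem nonempty_rpush_fst_poincare {g : ℕ} (hg : topologicalKrullDim A.left = g)
    [DCoh.HasRpush (pullback.fst A.hom At.hom)] [DCoh.HasRpush η[A].left] :
    Nonempty ((DCoh.Rpush (pullback.fst A.hom At.hom)).obj (DCoh.inD (pullback A.hom At.hom) P) ≅
      ((DCoh.Rpush η[A].left).obj (DCoh.inD _ (Coh.structureModule (Spec (CommRingCat.of k)))))⟦-(g : ℤ)⟧) := by
  classical
  haveI : HasInjectiveResolutions (pullback A.hom At.hom).Modules := KFlatLib.hasInjectiveResolutions_modules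
  haveI : IsLocallyNoetherian A.left := LocallyOfFiniteType.isLocallyNoetherian A.hom
  haveI : IsLocallyNoetherian At.left := LocallyOfFiniteType.isLocallyNoetherian At.hom
  haveI : IsLocallyNoetherian (pullback A.hom At.hom) :=
    LocallyOfFiniteType.isLocallyNoetherian (pullback.fst A.hom At.hom)
  let S := Spec (CommRingCat.of k)
  let p₁ := pullback.fst A.hom At.hom
  let p₂ := pullback.snd A.hom At.hom
  have hg' : topologicalKrullDim At.left = g := AVPoinc.dim_eq hφ hP hξ hg
  obtain ⟨hvan, -, hlt, ⟨eTop⟩⟩ := AVPoinc.main hφ hP hξ hg hg'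
  obtain ⟨Z, hfin, hcl, -, hloc⟩ := exists_finite_support hφ hP hξ
  have hzero : ∀ i, i ≠ g → IsZero ((Coh.Rpush p₁ i).obj P) := fun i hi =>
    isZero_Rpush_of_finite_single p₁ P hfin hcl hloc i (hvan i hi)
  have hzero₂ : ∀ i, i ≠ g → IsZero ((Coh.Rpush p₂ i).obj P) := fun i hi => by
    rcases lt_or_gt_of_ne hi with h | h
    · exact hlt i h
    · exact AVPoinc.isZero_Rpush_gt hφ hP hξ hg h
  let F := (Coh.Rpush p₁ g).obj P
  have hF : Coh.IsCoh F := QCoh.isCoh_Rpush_of_finiteness (f := p₁) (AmpleVan.isCoh_invertible hP) g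
    fun A _ _ Z _ _ N hN j => S0002.result A Z N hN j
  obtain ⟨k₁⟩ := nonempty_rpush_inD_concentrated p₁ P g hzero
  obtain ⟨k₂⟩ := nonempty_rpush_inD_concentrated p₂ P g hzero₂
  haveI : IsClosedImmersion η[At].left := AVPoinc.isClosedImmersion_unit
  haveI : IsClosedImmersion η[A].left := AVPoinc.isClosedImmersion_unit
  have hO : Coh.IsQCoh (Coh.structureModule S) := QCoh.isQCoh_structureModule
  obtain ⟨a₂⟩ := nonempty_rpush_inD_affine η[At].left hO
  obtain ⟨a₀⟩ := nonempty_rpush_inD_affine (𝟙 S) hO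
  obtain ⟨c₁⟩ := nonempty_rpush_comp p₁ A.hom (h := p₁ ≫ A.hom) rfl
  obtain ⟨c₂⟩ := nonempty_rpush_comp p₂ At.hom (h := p₁ ≫ A.hom) pullback.condition.symm
  obtain ⟨c₀⟩ := nonempty_rpush_comp η[At].left At.hom (h := 𝟙 S) (Over.w η[At])
  obtain ⟨s₁⟩ := nonempty_rpush_shift_nat A.hom (-(g : ℤ))
  obtain ⟨s₂⟩ := nonempty_rpush_shift_nat At.hom (-(g : ℤ))
  let eShift : ((DCoh.Rpush A.hom).obj (DCoh.inD A.left F))⟦-(g : ℤ)⟧ ≅
      (DCoh.inD S ((Scheme.Modules.pushforward (𝟙 S)).obj (Coh.structureModule S)))⟦-(g : ℤ)⟧ :=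
    (s₁.app _).symm ≪≫ (DCoh.Rpush A.hom).mapIso k₁.symm ≪≫ c₁.app _ ≪≫ (c₂.app _).symm ≪≫
      (DCoh.Rpush At.hom).mapIso k₂ ≪≫ s₂.app _ ≪≫ (shiftFunctor (DCoh.D S) (-(g : ℤ))).mapIso
        ((DCoh.Rpush At.hom).mapIso ((DerivedCategory.singleFunctor At.left.Modules 0).mapIso eTop ≪≫ a₂.symm) ≪≫
          c₀.app _ ≪≫ a₀)
  let e₀ := (shiftFunctor (DCoh.D S) (-(g : ℤ))).preimageIso eShift
  haveI : HasInjectiveResolutions A.left.Modules := KFlatLib.hasInjectiveResolutions_modules
  haveI := SpObjSS.enoughInjectives_of_hasInjectiveResolutions (C := A.left.Modules)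
  haveI := QCoh.preservesFiniteLimits_push A.hom
  let j : (Scheme.Modules.pushforward A.hom).obj F ≅ (Scheme.Modules.pushforward (𝟙 S)).obj (Coh.structureModule S) :=
    ((Scheme.Modules.pushforward A.hom).rightDerivedZeroIsoSelf.app F).symm ≪≫
      (nonempty_hd_rpush_single A.hom F 0).some.symm ≪≫
      (DerivedCategory.homologyFunctor S.Modules 0).mapIso e₀ ≪≫
      (DerivedCategory.singleFunctorCompHomologyFunctorIso S.Modules 0).app _
  let x₀ : Γ(F, ⊤) := j.inv.app ⊤ (1 : Γ(S, ⊤))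
  let τ : k → Γ(A.left, ⊤) := fun a => Coh.toGlobal A.hom a
  have hall : ∀ s : Γ(F, ⊤), ∃ a : k, s = τ a • x₀ := fun s => by
    let r : Γ(S, ⊤) := j.hom.app ⊤ s
    refine ⟨(Scheme.ΓSpecIso (CommRingCat.of k)).hom r, ?_⟩
    have hr : τ ((Scheme.ΓSpecIso (CommRingCat.of k)).hom r) = A.hom.appTop r :=
      congrArg A.hom.appTop (congr($((Scheme.ΓSpecIso (CommRingCat.of k)).hom_inv_id) r))
    rw [hr]
    have h1 : s = j.inv.app ⊤ (r • (1 : Γ(S, ⊤))) := by
      rw [smul_eq_mul, _root_.mul_one]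
      exact (congr($(congrArg (fun m => Scheme.Modules.Hom.app m ⊤) j.hom_inv_id) s)).symm
    exact h1.trans (Scheme.Modules.Hom.app_smul j.inv r (1 : Γ(S, ⊤)))
  -- the support
  let pt := η[A].left (IsLocalRing.closedPoint k)
  have hoffZ : ∀ y ∉ Z, Subsingleton (F.presheaf.stalk y) := fun y hy =>
    AVPoinc.subsingleton_stalk_of_locally (hloc g y hy)
  have hsupp : ∀ x ∈ CohB1.support F, IsClosed ({x} : Set A.left) := fun x hx =>
    hcl x (not_not.1 fun h => hx (hoffZ x h))
  haveI : CompactSpace A.left := QuasiCompact.compactSpace_of_compactSpace A.hom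
  haveI : IsNoetherian A.left := {}
  have hgerm : ∀ (a : k) (y : A.left), F.presheaf.germ ⊤ y trivial (τ a • x₀) =
      @Curv2.stalkMap k _ A.left ⟨A.hom⟩ y a • F.presheaf.germ ⊤ y trivial x₀ := fun a y => by
    refine (QCoh.germ_smul' F (U := ⊤) trivial _ x₀).trans ?_
    rfl
  have hpt : ¬ Subsingleton (F.presheaf.stalk pt) := by
    intro hs
    let C : Set A.left := Z \ {pt}
    have hC : IsClosed C := by
      rw [← Set.biUnion_of_singleton C]
      exact (hfin.subset Set.sdiff_subset).isClosed_biUnion fun z hz => hcl z hz.1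
    let U : A.left.Opens := ⟨Cᶜ, hC.isOpen_compl⟩
    refine not_isZero_near_unit hφ hP hξ U (fun h => h.2 rfl) fun q y hy => ?_
    by_cases hq : q = g
    · subst hq
      refine ⟨U, hy, FComplLib.isZero_restrict_of_subsingleton_stalk F U fun z hz => ?_⟩
      by_cases hzp : z = pt
      · subst hzp; exact hs
      · exact hoffZ z fun h => hz ⟨h, hzp⟩
    · exact ⟨U, hy, (Scheme.Modules.restrictFunctor U.ι).map_isZero (hzero q hq)⟩
  have hx0 : F.presheaf.germ ⊤ pt trivial x₀ ≠ 0 := fun h0 => hpt (subsingleton_of_forall_eq 0 fun m => by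
    obtain ⟨s, hs, -⟩ := CurveCohLib.exists_section_single hF hsupp (x := pt) hpt m
    obtain ⟨a, rfl⟩ := hall s
    rw [← hs, hgerm, h0, smul_zero])
  letI : A.left.Over (Spec (CommRingCat.of k)) := ⟨A.hom⟩
  have hoff : ∀ y, y ≠ AVPoinc.unitPt (At := A) → Subsingleton (F.presheaf.stalk y) := fun y hy => by
    by_contra hs
    refine hs (subsingleton_of_forall_eq 0 fun m => ?_)
    obtain ⟨s, hsy, hso⟩ := CurveCohLib.exists_section_single hF hsupp (x := y) hs m
    obtain ⟨a, rfl⟩ := hall s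
    have h1 := (hgerm a pt).symm.trans (hso pt (Ne.symm hy))
    by_cases ha : a = 0
    · rw [← hsy, hgerm, ha, map_zero, zero_smul]
    · exact absurd (((Ne.isUnit ha).map (@Curv2.stalkMap k _ A.left ⟨A.hom⟩ pt)).smul_eq_zero.1 h1) hx0
  have hgen : ∀ v, ∃ a : k, v = @Curv2.stalkMap k _ A.left ⟨A.hom⟩ pt a • F.presheaf.germ ⊤ pt trivial x₀ :=
    fun v => by
      obtain ⟨s, hs, -⟩ := CurveCohLib.exists_section_single hF hsupp (x := pt) hpt v
      obtain ⟨a, rfl⟩ := hall s
      exact ⟨a, hs.symm.trans (hgerm a pt)⟩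
  have hkill : ∀ c ∈ IsLocalRing.maximalIdeal (A.left.presheaf.stalk pt), ∀ v : F.presheaf.stalk pt, c • v = 0 := by
    intro c hc v
    obtain ⟨a, ha⟩ := hgen (c • F.presheaf.germ ⊤ pt trivial x₀)
    by_cases h0 : a = 0
    · obtain ⟨b, rfl⟩ := hgen v
      rw [h0, map_zero, zero_smul] at ha
      rw [smul_comm, ha, smul_zero]
    · exfalso
      have hu : IsUnit (c - @Curv2.stalkMap k _ A.left ⟨A.hom⟩ pt a) := by
        by_contra hn
        have hm := (IsLocalRing.mem_maximalIdeal _).2 hn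
        exact (IsLocalRing.mem_maximalIdeal _).1
          (by simpa using sub_mem hc hm : @Curv2.stalkMap k _ A.left ⟨A.hom⟩ pt a ∈ _)
          ((Ne.isUnit h0).map _)
      refine hx0 (hu.smul_eq_zero.1 ?_)
      rw [sub_smul, ha, sub_self]
  obtain ⟨eF⟩ := AVPoinc.nonempty_iso_push (At := A) hF hoff _ hx0 hgen hkill
  obtain ⟨a₁⟩ := nonempty_rpush_inD_affine η[A].left hO
  exact ⟨k₁ ≪≫ (shiftFunctor (DCoh.D A.left) (-(g : ℤ))).mapIso
    ((DerivedCategory.singleFunctor A.left.Modules 0).mapIso eF ≪≫ a₁.symm)⟩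

end Groth.Agent.FMBase

end
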