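import Groth.Agent.FMBase.Single
import Groth.Agent.FMBase.FirstKernel
import Groth.Agent.KFlatLib.Scheme.RGammaPush
import Groth.Agent.KFlatLib.Scheme.RpushTriangle

/-!
# Hypercohomology over a field

For `a : X ⟶ Spec k` the hypercohomology `H^i(RΓ K)` is the group of global sections of the `i`-th
cohomology sheaf of `Ra_* K`, global sections being exact on the one-point scheme `Spec k`.
-/

noncomputable section

set_option autoImplicit false
set_option backward.isDefEq.respectTransparency false
set_option backward.isDefEq.respectTransparency.types false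
set_option linter.style.haveILetI false
set_option maxHeartbeats 1000000
set_option synthInstance.maxHeartbeats 400000

universe u

open CategoryTheory CategoryTheory.Limits AlgebraicGeometry TopologicalSpace Opposite

attribute [-instance] CategoryTheory.catToReflQuiver

namespace Groth.Agent.FMBase

open Groth.Agent.KFlatLib Groth.Agent.DQGen

attribute [local instance] hasRpush_scheme HasDerivedCategory.standard

variable {k : Type u} [Field k]

theorem eq_top_of_mem_spec_field {V : (Spec (CommRingCat.of k)).Opens} {x : Spec (CommRingCat.of k)}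
    (h : x ∈ V) : V = ⊤ :=
  eq_top_iff.2 fun y _ => (inferInstance : Subsingleton (PrimeSpectrum k)).elim x y ▸ h

/-- over a field, sections over the whole space are the stalk at the point -/
theorem bijective_germ_spec_field (M : (Spec (CommRingCat.of k)).Modules) :
    Function.Bijective (M.presheaf.germ ⊤ (IsLocalRing.closedPoint k) trivial) := by
  refine ⟨fun a b h => ?_, fun m => ?_⟩
  · obtain ⟨W, hxW, i₁, i₂, e⟩ := M.presheaf.germ_eq (IsLocalRing.closedPoint k)
      (show IsLocalRing.closedPoint k ∈ (⊤ : (Spec (CommRingCat.of k)).Opens) from trivial)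
      (show IsLocalRing.closedPoint k ∈ (⊤ : (Spec (CommRingCat.of k)).Opens) from trivial) a b h
    obtain rfl : W = ⊤ := eq_top_of_mem_spec_field hxW
    rw [show i₁.op = 𝟙 _ from Subsingleton.elim _ _, show i₂.op = 𝟙 _ from Subsingleton.elim _ _,
      CategoryTheory.Functor.map_id] at e
    exact e
  · obtain ⟨W, hxW, s, rfl⟩ := TopCat.Presheaf.exists_germ_eq M.presheaf m
    obtain rfl : W = ⊤ := eq_top_of_mem_spec_field hxW
    exact ⟨s, rfl⟩

/-- global sections over a field as a stalk -/
def gammaIsoStalk : DCoh.gammaAb (Spec (CommRingCat.of k)) ≅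
    DerSch.stalkFunctor (Spec (CommRingCat.of k)) (IsLocalRing.closedPoint k) ⋙ forget₂ _ AddCommGrpCat :=
  NatIso.ofComponents (fun M =>
    haveI : IsIso (M.presheaf.germ ⊤ (IsLocalRing.closedPoint k) trivial) :=
      (ConcreteCategory.isIso_iff_bijective _).2 (bijective_germ_spec_field M)
    asIso (M.presheaf.germ ⊤ (IsLocalRing.closedPoint k) trivial))
    (fun {M N} f => by
      ext s
      exact (DerSch.stalkFunctor_map_germ _ f ⊤ trivial s).symm)

theorem preservesFiniteLimits_gammaAb_spec :
    PreservesFiniteLimits (DCoh.gammaAb (Spec (CommRingCat.of k))) :=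
  preservesFiniteLimits_of_natIso gammaIsoStalk.symm

theorem preservesFiniteColimits_gammaAb_spec :
    PreservesFiniteColimits (DCoh.gammaAb (Spec (CommRingCat.of k))) :=
  preservesFiniteColimits_of_natIso gammaIsoStalk.symm

theorem isInvertedBy_gammaKh_spec :
    (HomotopyCategory.quasiIso (Spec (CommRingCat.of k)).Modules (ComplexShape.up ℤ)).IsInvertedBy
      (DCoh.gammaKh (Spec (CommRingCat.of k))) := by
  haveI := preservesFiniteLimits_gammaAb_spec (k := k)
  haveI := preservesFiniteColimits_gammaAb_spec (k := k)
  exact (MorphismProperty.IsInvertedBy.iff_of_iso _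
    (DCoh.gammaAb (Spec (CommRingCat.of k))).mapDerivedCategoryFactorsh).1
      (MorphismProperty.IsInvertedBy.of_comp _ _ (Localization.inverts DerivedCategory.Qh _) _)

theorem hasRΓ_spec_field : DCoh.HasRΓ (Spec (CommRingCat.of k)) :=
  haveI := Functor.isRightDerivedFunctor_of_inverts (L := DerivedCategory.Qh)
    (HomotopyCategory.quasiIso (Spec (CommRingCat.of k)).Modules (ComplexShape.up ℤ))
    (Localization.lift _ isInvertedBy_gammaKh_spec DerivedCategory.Qh)
    (Localization.fac _ isInvertedBy_gammaKh_spec DerivedCategory.Qh)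
  Functor.HasRightDerivedFunctor.mk' (α := (Localization.fac _ isInvertedBy_gammaKh_spec DerivedCategory.Qh).inv)

/-- cohomology of global sections of a complex over a field -/
theorem nonempty_homology_RΓ_spec [DCoh.HasRΓ (Spec (CommRingCat.of k))] (K : DCoh.D (Spec (CommRingCat.of k))) (i : ℤ) :
    Nonempty ((DerivedCategory.homologyFunctor AddCommGrpCat.{u} i).obj
        ((DCoh.RΓ (Spec (CommRingCat.of k))).obj K) ≅
      (DCoh.gammaAb (Spec (CommRingCat.of k))).obj (DCoh.HD K i)) := by
  haveI := preservesFiniteLimits_gammaAb_spec (k := k)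
  haveI := preservesFiniteColimits_gammaAb_spec (k := k)
  let G := DCoh.gammaAb (Spec (CommRingCat.of k))
  let W := HomotopyCategory.quasiIso (Spec (CommRingCat.of k)).Modules (ComplexShape.up ℤ)
  haveI : G.mapDerivedCategory.IsRightDerivedFunctor G.mapDerivedCategoryFactorsh.inv W :=
    Functor.isRightDerivedFunctor_of_inverts W _ G.mapDerivedCategoryFactorsh
  let e : G.mapDerivedCategory ≅ DCoh.RΓ (Spec (CommRingCat.of k)) :=
    Functor.rightDerivedUnique _ _ G.mapDerivedCategoryFactorsh.inv
      ((DCoh.gammaKh _).totalRightDerivedUnit DerivedCategory.Qh W) W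
  let C := DerivedCategory.Q.objPreimage K
  let eC : DerivedCategory.Q.obj C ≅ K := DerivedCategory.Q.objObjPreimageIso K
  exact ⟨(DerivedCategory.homologyFunctor AddCommGrpCat.{u} i).mapIso
      ((e.app K).symm ≪≫ G.mapDerivedCategory.mapIso eC.symm ≪≫ G.mapDerivedCategoryFactors.app C) ≪≫
    (DerivedCategory.homologyFunctorFactors AddCommGrpCat.{u} i).app _ ≪≫
    (C.sc i).mapHomologyIso G ≪≫
    G.mapIso (((DerivedCategory.homologyFunctorFactors _ i).app C).symm ≪≫
      (DerivedCategory.homologyFunctor _ i).mapIso eC)⟩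

theorem isZero_of_isZero_gammaAb (M : (Spec (CommRingCat.of k)).Modules)
    (h : IsZero ((DCoh.gammaAb (Spec (CommRingCat.of k))).obj M)) : IsZero M :=
  isZero_of_stalk _ fun x => by
    obtain rfl : x = IsLocalRing.closedPoint k := (inferInstance : Subsingleton (PrimeSpectrum k)).elim _ _
    haveI : Subsingleton Γ(M, ⊤) := AddCommGrpCat.subsingleton_of_isZero h
    exact @ModuleCat.isZero_of_subsingleton _ _ _
      (bijective_germ_spec_field M).2.subsingleton

/-- hypercohomology vanishes exactly when the cohomology sheaf of the direct image to the point does -/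
theorem isZero_hypercohomology_iff {X : Scheme.{u}} (a : X ⟶ Spec (CommRingCat.of k)) [DCoh.HasRpush a]
    [DCoh.HasRΓ X] (K : DCoh.D X) (i : ℤ) :
    IsZero ((DerivedCategory.homologyFunctor AddCommGrpCat.{u} i).obj ((DCoh.RΓ X).obj K)) ↔
      IsZero (DCoh.HD ((DCoh.Rpush a).obj K) i) := by
  haveI := hasRΓ_spec_field (k := k)
  obtain ⟨e⟩ := nonempty_rpush_RΓ_iso a
  obtain ⟨d⟩ := nonempty_homology_RΓ_spec ((DCoh.Rpush a).obj K) i
  let f := (DerivedCategory.homologyFunctor AddCommGrpCat.{u} i).mapIso (e.app K).symm ≪≫ d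
  haveI := preservesFiniteLimits_gammaAb_spec (k := k)
  exact ⟨fun h => isZero_of_isZero_gammaAb _ (h.of_iso f.symm), fun h => ((DCoh.gammaAb _).map_isZero h).of_iso f⟩

end Groth.Agent.FMBase

end
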