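import Groth.Agent.FMBase.Twist

/-!
# Derived functors on modules placed in degree zero
-/

noncomputable section

set_option autoImplicit false
set_option backward.isDefEq.respectTransparency false
set_option backward.isDefEq.respectTransparency.types false
set_option linter.style.haveILetI false
set_option maxHeartbeats 1000000
set_option synthInstance.maxHeartbeats 400000

universe u

open CategoryTheory CategoryTheory.Limits AlgebraicGeometry

attribute [-instance] CategoryTheory.catToReflQuiver

namespace Groth.Agent.FMBase

open Groth.Agent.KFlatLib Groth.Agent.DQGen Groth.Agent.RBC Groth.Agent.GBC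

attribute [local instance] hasLpull hasRpush_scheme hasLTensorMod hasLTensorCx HasDerivedCategory.standard

variable {X Y : Scheme.{u}}

theorem isKFlat_single {M : X.Modules} (hM : FlatMod.IsFlat M) :
    DCoh.IsKFlat ((CochainComplex.singleFunctor X.Modules 0).obj M) :=
  isKFlat_of_isStrictlyLE _ 0 (isFlat_single 0 hM)

/-- a quasi-coherent module in degree zero has quasi-coherent cohomology -/
theorem isQCohD_inD {M : X.Modules} (hM : Coh.IsQCoh M) : DCoh.IsQCohD (DCoh.inD X M) := fun i => by
  by_cases h : i = 0
  · subst h
    exact KFlatLib.isQCoh_of_iso ((DerivedCategory.singleFunctorCompHomologyFunctorIso X.Modules 0).app M).symm hM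
  · rcases lt_or_gt_of_ne h with h | h
    · exact isQCoh_of_isZero (DerivedCategory.isZero_of_isGE _ 0 i h)
    · exact isQCoh_of_isZero (DerivedCategory.isZero_of_isLE _ 0 i h)

/-- derived pullback of a flat module is the module pullback -/
theorem nonempty_lpull_inD (g : X ⟶ Y) {M : Y.Modules} (hM : FlatMod.IsFlat M) [DCoh.HasLpull g] :
    Nonempty ((DCoh.Lpull g).obj (DCoh.inD Y M) ≅ DCoh.inD X ((Scheme.Modules.pullback g).obj M)) := by
  haveI := isIso_lpullComparison g (isKFlat_single hM)
  exact ⟨(DCoh.Lpull g).mapIso ((DerivedCategory.singleFunctorIsoCompQ Y.Modules 0).app M) ≪≫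
    asIso ((lpullComparison g).app ((CochainComplex.singleFunctor Y.Modules 0).obj M)) ≪≫
    DerivedCategory.Q.mapIso ((HomologicalComplex.singleMapHomologicalComplex
      (Scheme.Modules.pullback g) (ComplexShape.up ℤ) 0).app M) ≪≫
    ((DerivedCategory.singleFunctorIsoCompQ X.Modules 0).app _).symm⟩

/-- the derived twist of a flat module is the tensor product -/
theorem nonempty_ltensorMod_inD {M : X.Modules} (hM : FlatMod.IsFlat M) (N : X.Modules) [DCoh.HasLTensorMod N] :
    Nonempty ((DCoh.LTensorMod N).obj (DCoh.inD X M) ≅ DCoh.inD X (CohB1.tensorMod M N)) := by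
  haveI := isIso_ltensorModComparison N (isKFlat_single hM)
  exact ⟨(DCoh.LTensorMod N).mapIso ((DerivedCategory.singleFunctorIsoCompQ X.Modules 0).app M) ≪≫
    asIso ((ltensorModComparison N).app ((CochainComplex.singleFunctor X.Modules 0).obj M)) ≪≫
    DerivedCategory.Q.mapIso ((HomologicalComplex.singleMapHomologicalComplex
      (DCoh.tensorRightMod N) (ComplexShape.up ℤ) 0).app M) ≪≫
    ((DerivedCategory.singleFunctorIsoCompQ X.Modules 0).app _).symm⟩

end Groth.Agent.FMBase

end
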