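import Groth.Agent.FMBase.Inversion
import Groth.Agent.KFlatLib.Scheme.RpushUnbounded

/-!
# The transform with the Poincaré kernel is an equivalence
-/

noncomputable section

set_option autoImplicit false
set_option backward.isDefEq.respectTransparency false
set_option backward.isDefEq.respectTransparency.types false
set_option linter.style.haveILetI false
set_option linter.unusedSectionVars false
set_option maxHeartbeats 2000000
set_option synthInstance.maxHeartbeats 400000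

universe u

open CategoryTheory CategoryTheory.Limits MonoidalCategory CartesianMonoidalCategory MonObj AlgebraicGeometry

attribute [-instance] CategoryTheory.catToReflQuiver

namespace Groth.Agent.FMBase

open Groth.Agent.H23 Groth.Agent.H23.TrivBasic Groth.Agent.H23.CubeAb Groth.Agent.AbDualBase
open Groth.Agent.KFlatLib Groth.Agent.DQGen Groth.Agent.RBC Groth.Agent.GBC
open scoped Groth.Agent.H23.PicMul CategoryTheory.Obj

attribute [local instance] hasLpull hasRpush_scheme hasLTensorMod hasLTensorCx HasDerivedCategory.standard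

variable {k : Type u} [Field k]

/-- the inversion is an involution -/
theorem inv_left_involution (B : Over (Spec (CommRingCat.of k))) [GrpObj B] :
    ((𝟙 B)⁻¹).left ≫ ((𝟙 B)⁻¹).left = 𝟙 B.left := by
  show ((𝟙 B)⁻¹ ≫ (𝟙 B)⁻¹).left = _
  rw [GrpObj.comp_inv, Category.comp_id, _root_.inv_inv]
  rfl

/-- pullback along an involution is an autoequivalence -/
theorem isEquivalence_lpull_involution {X : Scheme.{u}} (i : X ⟶ X) (hi : i ≫ i = 𝟙 X) [DCoh.HasLpull i] :
    (DCoh.Lpull i).IsEquivalence := by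
  obtain ⟨c⟩ := nonempty_lpull_comp i i
  obtain ⟨d⟩ := nonempty_lpull_id (i ≫ i) hi
  exact (CategoryTheory.Equivalence.mk (DCoh.Lpull i) (DCoh.Lpull i) (c ≪≫ d).symm (c ≪≫ d)).isEquivalence_functor

variable {A At : Over (Spec (CommRingCat.of k))}
  [GrpObj A] [IsProper A.hom] [Smooth A.hom] [GeometricallyConnected A.hom]
  [GrpObj At] [IsProper At.hom] [Smooth At.hom] [GeometricallyConnected At.hom]
  {φ : ∀ T : Over (Spec (CommRingCat.of k)), PicF.Cl (PicF.XT A.hom T) → (T ⟶ At)}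
  (hφ : AbDual.IsDualAV Scheme.fppfPrecoverage A At φ) {P : (pullback A.hom At.hom).Modules}
  (hP : PicF.IsInvertible P) (hξ : AbDual.IsPoincareCl A At φ (PicF.cl P))
include hφ hP hξ

/-- the transform is an equivalence on objects with quasi-coherent cohomology -/
theorem isEquivalence_transform
    [DCoh.HasLpull (pullback.fst A.hom At.hom)] [DCoh.HasLTensorMod P] [DCoh.HasRpush (pullback.snd A.hom At.hom)]
    (h : ∀ M : DCoh.D A.left, DCoh.IsQCohD M → DCoh.IsQCohD ((DCoh.Lpull (pullback.fst A.hom At.hom) ⋙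
      DCoh.LTensorMod P ⋙ DCoh.Rpush (pullback.snd A.hom At.hom)).obj M)) :
    (ObjectProperty.lift (DCoh.IsQCohD (X := At.left))
        (ObjectProperty.ι (DCoh.IsQCohD (X := A.left)) ⋙ (DCoh.Lpull (pullback.fst A.hom At.hom) ⋙
          DCoh.LTensorMod P ⋙ DCoh.Rpush (pullback.snd A.hom At.hom)))
        (fun M => h M.obj M.property)).IsEquivalence := by
  haveI : GeometricallyIntegral A.hom := AVDual.geometricallyIntegral_of_smooth A
  haveI : IsCommMonObj A := isCommMonObj_of_isProper_of_geometricallyIntegral A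
  obtain ⟨g, hg⟩ := AVDegPoly.exists_dim (A := A)
  let P' := (Scheme.Modules.pullback (pullbackSymmetry At.hom A.hom).hom).obj P
  have hP' : PicF.IsInvertible P' := PicClLib.isInvertible_pullback _ hP
  let q₂ : pullback At.hom A.hom ⟶ A.left := pullback.snd At.hom A.hom
  let Φ := ObjectProperty.lift (DCoh.IsQCohD (X := At.left))
    (ObjectProperty.ι (DCoh.IsQCohD (X := A.left)) ⋙ (DCoh.Lpull (pullback.fst A.hom At.hom) ⋙
      DCoh.LTensorMod P ⋙ DCoh.Rpush (pullback.snd A.hom At.hom))) (fun M => h M.obj M.property)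
  let Ψ₀ := DCoh.Lpull (pullback.fst At.hom A.hom) ⋙ DCoh.LTensorMod P' ⋙ DCoh.Rpush q₂
  let Ψ := ObjectProperty.lift (DCoh.IsQCohD (X := A.left)) (ObjectProperty.ι (DCoh.IsQCohD (X := At.left)) ⋙ Ψ₀)
    (fun M => isQCohD_rpush q₂ (isQCohD_ltensorMod (ProjUPX.isQCoh_of_isInvertible hP')
      (isQCohD_lpull (pullback.fst At.hom A.hom) M.property)))
  obtain ⟨e₁⟩ := nonempty_swap_comp hφ hP hξ hg
  obtain ⟨e₂⟩ := nonempty_swap_comp' hφ hP hξ hg
  let iA := ((𝟙 A)⁻¹).left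
  let iB := ((𝟙 At)⁻¹).left
  haveI := isEquivalence_lpull_involution iA (inv_left_involution A)
  haveI := isEquivalence_lpull_involution iB (inv_left_involution At)
  let R₁ := ObjectProperty.ι (DCoh.IsQCohD (X := A.left)) ⋙ DCoh.Lpull iA ⋙ shiftFunctor (DCoh.D A.left) (-(g : ℤ))
  let R₂ := ObjectProperty.ι (DCoh.IsQCohD (X := At.left)) ⋙ DCoh.Lpull iB ⋙ shiftFunctor (DCoh.D At.left) (-(g : ℤ))
  let f₁ : (Φ ⋙ Ψ) ⋙ ObjectProperty.ι (DCoh.IsQCohD (X := A.left)) ≅ R₁ := e₁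
  let f₂ : (Ψ ⋙ Φ) ⋙ ObjectProperty.ι (DCoh.IsQCohD (X := At.left)) ≅ R₂ := e₂
  haveI : ((Φ ⋙ Ψ) ⋙ ObjectProperty.ι (DCoh.IsQCohD (X := A.left))).Faithful := Functor.Faithful.of_iso f₁.symm
  haveI : ((Φ ⋙ Ψ) ⋙ ObjectProperty.ι (DCoh.IsQCohD (X := A.left))).Full := Functor.Full.of_iso f₁.symm
  haveI : ((Ψ ⋙ Φ) ⋙ ObjectProperty.ι (DCoh.IsQCohD (X := At.left))).Faithful := Functor.Faithful.of_iso f₂.symm
  haveI : (Φ ⋙ Ψ).Faithful := Functor.Faithful.of_comp (Φ ⋙ Ψ) (ObjectProperty.ι (DCoh.IsQCohD (X := A.left)))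
  haveI : (Φ ⋙ Ψ).Full := Functor.Full.of_comp_faithful (Φ ⋙ Ψ) (ObjectProperty.ι (DCoh.IsQCohD (X := A.left)))
  haveI : (Ψ ⋙ Φ).Faithful := Functor.Faithful.of_comp (Ψ ⋙ Φ) (ObjectProperty.ι (DCoh.IsQCohD (X := At.left)))
  haveI : Φ.Faithful := Functor.Faithful.of_comp Φ Ψ
  haveI : Ψ.Faithful := Functor.Faithful.of_comp Ψ Φ
  haveI : Φ.Full := Functor.Full.of_comp_faithful Φ Ψ
  haveI : Φ.EssSurj := ⟨fun N => by
    let M : ObjectProperty.FullSubcategory (DCoh.IsQCohD (X := At.left)) :=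
      ⟨(DCoh.Lpull iB).obj (N.obj⟦(g : ℤ)⟧), isQCohD_lpull iB (isQCohD_shift N.property _)⟩
    obtain ⟨c⟩ := nonempty_lpull_comp iB iB
    obtain ⟨d⟩ := nonempty_lpull_id (iB ≫ iB) (inv_left_involution At)
    exact ⟨Ψ.obj M, ⟨(ObjectProperty.fullyFaithfulι _).preimageIso (f₂.app M ≪≫
      (shiftFunctor (DCoh.D At.left) (-(g : ℤ))).mapIso ((c ≪≫ d).app _) ≪≫
      (shiftFunctorCompIsoId (DCoh.D At.left) (g : ℤ) (-(g : ℤ)) (by omega)).app N.obj)⟩⟩⟩
  exact {}

end Groth.Agent.FMBase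

end
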