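import Groth.Agent.PushAmp.TensorPerfect
import Groth.Agent.KFlatLib.Scheme.ProjPerfect
import Groth.Agent.KFlatLib.Scheme.TensorAssoc
import Groth.Agent.KFlatLib.Scheme.RGammaPush
import Groth.Agent.KFlatLib.Scheme.CoEvalPerfect
import Groth.Agent.KFlatLib.Scheme.PullTensorCx
import Groth.Agent.DQGen.Basic

/-!
# The exchange formula for integral functors

`RΓ(X, E ⊗ Rp_*(q^*F ⊗ P)) ≅ RΓ(Y, F ⊗ Rq_*(p^*E ⊗ P))` for perfect `E` and `F`.
-/

noncomputable section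

set_option autoImplicit false
set_option backward.isDefEq.respectTransparency false
set_option backward.isDefEq.respectTransparency.types false
set_option linter.style.haveILetI false
set_option maxHeartbeats 1000000
set_option synthInstance.maxHeartbeats 400000

universe u

open CategoryTheory CategoryTheory.Limits AlgebraicGeometry

attribute [-instance] CategoryTheory.catToReflQuiver

namespace Groth.Agent.FMBase

open Groth.Agent.KFlatLib

attribute [local instance] hasLpull hasRpush_scheme hasLTensorCx HasDerivedCategory.standard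

/-- derived global sections exist on every scheme -/
theorem hasRΓ_scheme (X : Scheme.{u}) : DCoh.HasRΓ X := by
  haveI := TriCat.qh_isLeftAdjoint_of_exists_resolution (A := X.Modules) exists_kInjective_res
  let adjQ := Adjunction.ofIsLeftAdjoint (DerivedCategory.Qh (C := X.Modules))
  let W := HomotopyCategory.quasiIso X.Modules (ComplexShape.up ℤ)
  have hd := TriCat.isRightDerivedFunctor_of_adjunction adjQ W (DCoh.gammaKh X)
  exact Functor.HasRightDerivedFunctor.mk' (L := DerivedCategory.Qh)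
    (DerivedCategory.Qh.rightAdjoint ⋙ DCoh.gammaKh X) (Functor.whiskerRight adjQ.unit (DCoh.gammaKh X)) (W := W)

variable {X Y Z : Scheme.{u}} (p : Z ⟶ X) (q : Z ⟶ Y)

/-- `(q^*F ⊗ P) ⊗ p^*E`, in reversed order -/
def reverse₃ (A B C : CochainComplex Z.Modules ℤ) :
    (DCoh.tensorCx.obj ((DCoh.tensorCx.obj A).obj B)).obj C ≅
      (DCoh.tensorCx.obj ((DCoh.tensorCx.obj C).obj B)).obj A :=
  braidCx _ C ≪≫ (DCoh.tensorCx.obj C).mapIso (braidCx A B) ≪≫ (tensorCxAssocIso C B A).symm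

/-- one side of the exchange, on the total space -/
theorem nonempty_exchange_side [DCoh.HasLpull q] (P : CochainComplex Z.Modules ℤ) [DCoh.HasLTensorCx P]
    [DCoh.HasRpush p] (E : CochainComplex X.Modules ℤ) (hE : DCoh.IsPerfect (DCoh.toD X E)) [DCoh.HasLTensorCx E]
    [DCoh.HasRΓ X] [DCoh.HasRΓ Z] (F : DCoh.D Y)
    {R : CochainComplex X.Modules ℤ} (hR : DCoh.IsKFlat R) (eR : DCoh.toD X R ≅ DCoh.toD X E)
    {R' : CochainComplex Y.Modules ℤ} (hR' : DCoh.IsKFlat R') (eR' : DCoh.toD Y R' ≅ F)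
    {R'' : CochainComplex Z.Modules ℤ} (hR'' : DCoh.IsKFlat R'') (eR'' : DCoh.toD Z R'' ≅ DCoh.toD Z P) :
    Nonempty ((DCoh.RΓ X).obj ((DCoh.LTensorCx E).obj
        ((DCoh.Lpull q ⋙ DCoh.LTensorCx P ⋙ DCoh.Rpush p).obj F)) ≅
      (DCoh.RΓ Z).obj (DCoh.toD Z ((DCoh.tensorCx.obj ((DCoh.tensorCx.obj ((pullCx q).obj R')).obj R'')).obj
        ((pullCx p).obj R)))) := by
  obtain ⟨cE⟩ := nonempty_LTensorCx_congr_D (P := E) (E := R) eR.symm
  obtain ⟨cP⟩ := nonempty_LTensorCx_congr_D (P := P) (E := R'') eR''.symm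
  have hA : DCoh.IsKFlat ((pullCx q).obj R') := isKFlat_pullback q hR'
  have hperf : DCoh.IsPerfect (DerivedCategory.Q.obj R) := DQGen.isPerfect_of_iso eR.symm hE
  obtain ⟨pr⟩ := nonempty_projection_perfect p R hR hperf
    (DCoh.toD Z ((DCoh.tensorCx.obj ((pullCx q).obj R')).obj R''))
  obtain ⟨g⟩ := nonempty_rpush_RΓ_iso p
  let M : (DCoh.LTensorCx P).obj ((DCoh.Lpull q).obj F) ≅
      DCoh.toD Z ((DCoh.tensorCx.obj ((pullCx q).obj R')).obj R'') :=
    cP.app _ ≪≫ (DCoh.LTensorCx R'').mapIso ((DCoh.Lpull q).mapIso eR'.symm ≪≫ lpullIso q hR') ≪≫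
      ltensorCxIso R'' hA
  exact ⟨(DCoh.RΓ X).mapIso (cE.app _ ≪≫ (DCoh.LTensorCx R).mapIso ((DCoh.Rpush p).mapIso M) ≪≫ pr ≪≫
      (DCoh.Rpush p).mapIso (ltensorCxIso ((pullCx p).obj R) (isKFlat_tensorCx hA hR''))) ≪≫ g.app _⟩

/-- the exchange formula -/
theorem nonempty_exchange [DCoh.HasLpull p] [DCoh.HasLpull q] (P : CochainComplex Z.Modules ℤ)
    [DCoh.HasLTensorCx P] [DCoh.HasRpush p] [DCoh.HasRpush q] [DCoh.HasRΓ X] [DCoh.HasRΓ Y]
    (E : CochainComplex X.Modules ℤ) (hE : DCoh.IsPerfect (DCoh.toD X E)) [DCoh.HasLTensorCx E]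
    (F : CochainComplex Y.Modules ℤ) (hF : DCoh.IsPerfect (DCoh.toD Y F)) [DCoh.HasLTensorCx F] :
    Nonempty ((DCoh.RΓ X).obj ((DCoh.LTensorCx E).obj
        ((DCoh.Lpull q ⋙ DCoh.LTensorCx P ⋙ DCoh.Rpush p).obj (DCoh.toD Y F))) ≅
      (DCoh.RΓ Y).obj ((DCoh.LTensorCx F).obj
        ((DCoh.Lpull p ⋙ DCoh.LTensorCx P ⋙ DCoh.Rpush q).obj (DCoh.toD X E)))) := by
  haveI := hasRΓ_scheme Z
  obtain ⟨R, hR, ⟨eR⟩⟩ := exists_kFlat_rep (DCoh.toD X E)
  obtain ⟨R', hR', ⟨eR'⟩⟩ := exists_kFlat_rep (DCoh.toD Y F)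
  obtain ⟨R'', hR'', ⟨eR''⟩⟩ := exists_kFlat_rep (DCoh.toD Z P)
  obtain ⟨l⟩ := nonempty_exchange_side p q P E hE (DCoh.toD Y F) hR eR hR' eR' hR'' eR''
  obtain ⟨r⟩ := nonempty_exchange_side q p P F hF (DCoh.toD X E) hR' eR' hR eR hR'' eR''
  exact ⟨l ≪≫ (DCoh.RΓ Z).mapIso (DerivedCategory.Q.mapIso (reverse₃ _ _ _)) ≪≫ r.symm⟩

end Groth.Agent.FMBase

end
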