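import Groth.Agent.FinDesc.Field
import Groth.Agent.FinDesc.Biduality
import Groth.Agent.AVPoinc.Main

/-!
# The Poincaré bundle along the first projection: fibres

Outside the kernel of a polarization, the fibres of the Poincaré bundle over the variety have no cohomology.
-/

noncomputable section

set_option autoImplicit false
set_option backward.isDefEq.respectTransparency false
set_option backward.isDefEq.respectTransparency.types false
set_option linter.style.haveILetI false
set_option linter.unusedSectionVars false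
set_option maxHeartbeats 1000000
set_option synthInstance.maxHeartbeats 400000

universe u

open CategoryTheory CategoryTheory.Limits MonoidalCategory CartesianMonoidalCategory MonObj AlgebraicGeometry TopologicalSpace

attribute [-instance] CategoryTheory.catToReflQuiver

namespace Groth.Agent.FMBase

open Groth.Agent.H23 Groth.Agent.H23.TrivBasic Groth.Agent.H23.CubeAb Groth.Agent.AbDualBase
open scoped Groth.Agent.H23.PicMul CategoryTheory.Obj

variable {k : Type u} [Field k] {A At : Over (Spec (CommRingCat.of k))}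
  [GrpObj A] [IsProper A.hom] [Smooth A.hom] [GeometricallyConnected A.hom]
  [GrpObj At] [IsProper At.hom] [Smooth At.hom] [GeometricallyConnected At.hom]
  {φ : ∀ T : Over (Spec (CommRingCat.of k)), PicF.Cl (PicF.XT A.hom T) → (T ⟶ At)}
  (hφ : AbDual.IsDualAV Scheme.fppfPrecoverage A At φ) {P : (pullback A.hom At.hom).Modules}
  (hP : PicF.IsInvertible P) (hξ : AbDual.IsPoincareCl A At φ (PicF.cl P))
include hφ hP hξ

/-- the Poincaré family over the variety with the dual as fibre, exchanged -/
theorem pz_symm : AbDual.IsPicZeroCl At.hom A (PicF.pullCl (pullbackSymmetry At.hom A.hom).hom (PicF.cl P)) := by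
  haveI : GeometricallyIntegral A.hom := AVDual.geometricallyIntegral_of_smooth A
  haveI : GeometricallyIntegral At.hom := AVDual.geometricallyIntegral_of_smooth At
  refine pz_of_slice (A := At) (B := A) η[A] (n := 1) (PicClLib.isInvertibleCl_pullCl _ ⟨P, rfl, hP⟩)
    ⟨_, rfl, InvX.isInvertible_structureModule⟩ ?_
  rw [pullCl_one']
  have h := FinDesc.symm_at_one hξ
  rw [PicZeroPrim.xtMap_eq] at h
  rw [show lift (𝟙 At) (toUnit At ≫ η[A]) = lift (𝟙 At) (toUnit At) ≫ (At ◁ η[A]) by ext <;> simp,
    Over.comp_left, ← PicClLib.pullCl_comp]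
  refine (congrArg (PicF.pullCl (lift (𝟙 At) (toUnit At)).left) h).trans ?_
  exact pullCl_one' _

/-- a point over which the Poincaré bundle is trivial lies in the kernel of every polarization map -/
theorem phi_eq_one_of_triv {cΛ : PicF.Cl (PicF.XT A.hom A)} (hΛ0 : AbDual.IsPicZeroCl A.hom A cΛ)
    (hsec : PicF.pullCl (PicF.secT A.hom η[A].left (Over.w η[A]) A) cΛ = 1)
    (hsym : PicF.pullCl (pullbackSymmetry A.hom A.hom).hom cΛ = cΛ)
    {T : Over (Spec (CommRingCat.of k))} (v : T ⟶ A)
    (h : PicF.pullCl (PicF.XTmap At.hom v) (PicF.pullCl (pullbackSymmetry At.hom A.hom).hom (PicF.cl P)) = 1) :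
    v ≫ φ A cΛ = 1 := by
  haveI : GeometricallyIntegral A.hom := AVDual.geometricallyIntegral_of_smooth A
  haveI : IsCommMonObj A := isCommMonObj_of_isProper_of_geometricallyIntegral A
  let f := φ A cΛ
  rw [← hφ.relPic.natural _ _ v _ hΛ0]
  have e : PicF.XTmap A.hom v ≫ (pullbackSymmetry A.hom A.hom).hom ≫ PicF.XTmap A.hom f =
      pullback.lift (pullback.fst A.hom T.hom ≫ f.left) (pullback.snd A.hom T.hom) (by
        rw [Category.assoc, Over.w f]; exact pullback.condition) ≫
        PicF.XTmap At.hom v ≫ (pullbackSymmetry At.hom A.hom).hom := by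
    apply pullback.hom_ext
    · simp [PicF.XTmap]
    · simp [PicF.XTmap]
  rw [← hsym, ← FinDesc.pull_poincare hφ hξ hΛ0 hsec, PicClLib.pullCl_comp, PicClLib.pullCl_comp, Category.assoc, e,
    ← PicClLib.pullCl_comp, ← PicClLib.pullCl_comp, h]
  rw [show PicF.pullCl _ (1 : PicF.Cl (PicF.XT At.hom T)) = (1 : PicF.Cl (PicF.XT A.hom T)) from pullCl_one' _]
  exact phi_one hφ T

set_option maxHeartbeats 3000000 in
/-- off the kernel of a polarization the fibres over the variety have no cohomology -/
theorem subsingleton_fiberH_fst {cΛ : PicF.Cl (PicF.XT A.hom A)} (hΛ0 : AbDual.IsPicZeroCl A.hom A cΛ)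
    (hsec : PicF.pullCl (PicF.secT A.hom η[A].left (Over.w η[A]) A) cΛ = 1)
    (hsym : PicF.pullCl (pullbackSymmetry A.hom A.hom).hom cΛ = cΛ)
    (y : A.left) (hy : (φ A cΛ).left y ≠ η[At].left (IsLocalRing.closedPoint k)) (n : ℕ) :
    Subsingleton (CohIII.fiberH (pullback.fst A.hom At.hom) P y n) := by
  haveI : GeometricallyIntegral At.hom := AVDual.geometricallyIntegral_of_smooth At
  let f := pullback.fst A.hom At.hom
  let κ : Type u := A.left.residueField y
  let Ω := AlgebraicClosure κ
  let alg : Spec (CommRingCat.of Ω) ⟶ Spec (CommRingCat.of κ) := Spec.map (CommRingCat.ofHom (algebraMap κ Ω))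
  let j : Spec (CommRingCat.of Ω) ⟶ A.left := alg ≫ A.left.fromSpecResidueField y
  let σ := j ≫ A.hom
  let v : Over.mk σ ⟶ A := Over.homMk j rfl
  let cA : PicF.Cl (PicF.XT At.hom A) := PicF.pullCl (pullbackSymmetry At.hom A.hom).hom (PicF.cl P)
  let c := PicF.pullCl (PicF.XTmap At.hom v) cA
  have hc : AbDual.IsPicZeroCl At.hom (Over.mk σ) c := pz_xtMap v (pz_symm hφ hP hξ)
  obtain ⟨L, hL, hcL, hz⟩ := algEquiv_of_pz σ hc
  let Z := (Over.pullback σ).obj At
  letI : GrpObj Z := Functor.grpObjObj
  haveI : IsProper Z.hom := inferInstanceAs (IsProper (pullback.snd At.hom σ))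
  haveI : GeometricallyIntegral Z.hom := geometricallyIntegral_fibre σ At
  have hne : ¬ Nonempty (L ≅ Coh.structureModule Z.left) := by
    intro hL1
    have hv := phi_eq_one_of_triv hφ hP hξ hΛ0 hsec hsym v (hcL.trans ((PicGrp.cl_eq_cl_iff _ _).2 hL1))
    have h3 := congrArg CommaMorphism.left hv
    rw [Hom.one_def] at h3
    refine hy ?_
    have h4 : (φ A cΛ).left (j (IsLocalRing.closedPoint Ω)) = η[At].left (σ (IsLocalRing.closedPoint Ω)) :=
      congr($h3 (IsLocalRing.closedPoint Ω))
    haveI : Subsingleton (Spec (CommRingCat.of k)) := inferInstanceAs (Subsingleton (PrimeSpectrum k))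
    rw [Subsingleton.elim (σ (IsLocalRing.closedPoint Ω)) (IsLocalRing.closedPoint k)] at h4
    rw [← h4]
    exact congrArg (φ A cΛ).left (A.left.fromSpecResidueField_apply y _).symm
  have hadd : Nonempty ((Scheme.Modules.pullback μ[Z].left).obj L ≅
      CohB1.tensorMod ((Scheme.Modules.pullback (fst Z Z).left).obj L) ((Scheme.Modules.pullback (snd Z Z).left).obj L)) := by
    refine PicMul.cl_eq_iff.1 ?_
    have h := AVDecomp.additive hL hz (fst Z Z) (snd Z Z)
    rw [show fst Z Z * snd Z Z = μ[Z] from by rw [Hom.mul_def, lift_fst_snd, Category.id_comp]] at h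
    exact h
  have hvan := (S7804.result Ω Z L hL hadd).1 hne n
  let g₀ : pullback At.hom σ ⟶ pullback A.hom At.hom :=
    PicF.XTmap At.hom v ≫ (pullbackSymmetry At.hom A.hom).hom
  have hsq : IsPullback g₀ (pullback.snd At.hom σ) f j := by
    have h2 : IsPullback (pullbackSymmetry At.hom A.hom).hom (pullback.snd At.hom A.hom) f (𝟙 A.left) :=
      IsPullback.of_horiz_isIso ⟨by simp [f]⟩
    have := (AVPoinc.isPullback_xtMap (A := At) (At := A) v).paste_horiz h2
    rwa [Category.comp_id] at this
  have hfib := IsPullback.of_hasPullback f (A.left.fromSpecResidueField y)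
  let θ : Z.left ⟶ f.fiber y :=
    hfib.lift g₀ (pullback.snd At.hom σ ≫ alg) (hsq.w.trans (Category.assoc _ _ _).symm)
  have hθ : θ ≫ f.fiberι y = g₀ := hfib.lift_fst _ _ _
  letI : (f.fiber y).Over (Spec (CommRingCat.of κ)) := ⟨f.fiberToSpecResidueField y⟩
  letI : Z.left.Over (Spec (CommRingCat.of Ω)) := ⟨pullback.snd At.hom σ⟩
  have hpb : IsPullback θ (Z.left ↘ Spec (CommRingCat.of Ω)) (f.fiber y ↘ Spec (CommRingCat.of κ)) alg :=
    IsPullback.of_right (h₁₂ := f.fiberι y) (h₂₂ := A.left.fromSpecResidueField y) (by rw [hθ]; exact hsq)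
      (hfib.lift_snd _ _ _) hfib
  haveI : IsProper (f.fiber y ↘ Spec (CommRingCat.of κ)) :=
    inferInstanceAs (IsProper (pullback.snd f (A.left.fromSpecResidueField y)))
  haveI : CompactSpace (f.fiber y) :=
    QuasiCompact.compactSpace_of_compactSpace (f.fiber y ↘ Spec (CommRingCat.of κ))
  haveI : (f.fiber y).IsSeparated := ⟨by
    rw [← Limits.terminal.comp_from (f.fiber y ↘ Spec (CommRingCat.of κ))]
    infer_instance⟩
  haveI : IsLocallyNoetherian A.left := LocallyOfFiniteType.isLocallyNoetherian A.hom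
  haveI : IsLocallyNoetherian (pullback A.hom At.hom) :=
    LocallyOfFiniteType.isLocallyNoetherian (pullback.fst A.hom At.hom)
  have hF : Coh.IsQCoh (CohIII.fiberMod f P y) := QCoh.isQCoh_pullback _ (AmpleVan.isCoh_invertible hP).1
  obtain ⟨e⟩ := QCoh.nonempty_HH_flat_bc (A := κ) (B := Ω) θ hpb hF n
  have hiso : Nonempty (L ≅ (Scheme.Modules.pullback θ).obj (CohIII.fiberMod f P y)) := by
    refine (PicGrp.cl_eq_cl_iff _ _).1 ?_
    refine hcL.symm.trans ?_
    show PicF.pullCl (PicF.XTmap At.hom v) (PicF.pullCl (pullbackSymmetry At.hom A.hom).hom (PicF.cl P)) =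
      PicF.pullCl θ (PicF.pullCl (f.fiberι y) (PicF.cl P))
    rw [PicClLib.pullCl_comp, PicClLib.pullCl_comp, hθ]
  have := QCoh.subsingleton_HH_of_iso hiso.some n hvan
  haveI : Subsingleton (TensorProduct κ Ω (Coh.HH (f.fiber y) (CohIII.fiberMod f P y) n)) :=
    e.symm.toEquiv.subsingleton
  exact (Module.FaithfullyFlat.subsingleton_tensorProduct_iff_right κ Ω).1 inferInstance

/-- the direct images along the first projection are supported in a finite set of closed points -/
theorem exists_finite_support : ∃ Z : Set A.left, Z.Finite ∧ (∀ z ∈ Z, IsClosed ({z} : Set A.left)) ∧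
    η[A].left (IsLocalRing.closedPoint k) ∈ Z ∧
    ∀ q, ∀ y ∉ Z, ∃ U : A.left.Opens, y ∈ U ∧
      IsZero (((Coh.Rpush (pullback.fst A.hom At.hom) q).obj P).restrict U.ι) := by
  haveI : HasInjectiveResolutions (pullback A.hom At.hom).Modules := KFlatLib.hasInjectiveResolutions_modules
  haveI : GeometricallyIntegral A.hom := AVDual.geometricallyIntegral_of_smooth A
  haveI : IsCommMonObj A := isCommMonObj_of_isProper_of_geometricallyIntegral A
  haveI : IsLocallyNoetherian A.left := LocallyOfFiniteType.isLocallyNoetherian A.hom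
  haveI : IsLocallyNoetherian (pullback A.hom At.hom) :=
    LocallyOfFiniteType.isLocallyNoetherian (pullback.fst A.hom At.hom)
  obtain ⟨W, cW', cΛ, d, hW, hW', hWW', hΛ, hΛ0, hhom, hcov, -⟩ := FinDesc.exists_cover hφ
  let f := φ A cΛ
  haveI := hhom
  haveI : IsFinite f.left := FinDesc.isFinite_phi hφ hW hW' hWW' hΛ hΛ0
  let l : PicF.Cl A.left := PicF.cl W
  have hΛ' : (cΛ : PicF.Cl (A ⊗ A).left) = F l μ[A] * F cW' (fst A A) * F cW' (snd A A) := hΛ
  have hsec : PicF.pullCl (PicF.secT A.hom η[A].left (Over.w η[A]) A) cΛ = 1 := by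
    rw [PicZeroPrim.secT_eq]
    show PicMul.pullHom (lift (toUnit A ≫ η[A]) (𝟙 A)).left (cΛ : PicF.Cl (A ⊗ A).left) = 1
    rw [hΛ', map_mul, map_mul, pull_F, pull_F, pull_F, lift_fst, lift_snd,
      show lift (toUnit A ≫ η[A]) (𝟙 A) ≫ μ[A] = 𝟙 A by
        rw [← Hom.mul_def, ← Hom.one_def, _root_.one_mul],
      show F cW' (toUnit A ≫ η[A]) = 1 from AVPair.pl_const hW' η[A], _root_.mul_one]
    show PicMul.pullHom (𝟙 A : A ⟶ A).left l * PicMul.pullHom (𝟙 A : A ⟶ A).left cW' = 1
    rw [← map_mul, hWW', map_one]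
  have hsym : PicF.pullCl (pullbackSymmetry A.hom A.hom).hom cΛ = cΛ := by
    have e : (pullbackSymmetry A.hom A.hom).hom = (lift (snd A A) (fst A A)).left := by
      refine pullback.hom_ext ?_ ?_
      · rw [pullbackSymmetry_hom_comp_fst]
        exact (congrArg CommaMorphism.left (lift_fst (snd A A) (fst A A))).symm
      · rw [pullbackSymmetry_hom_comp_snd]
        exact (congrArg CommaMorphism.left (lift_snd (snd A A) (fst A A))).symm
    rw [e]
    show PicMul.pullHom (lift (snd A A) (fst A A)).left (cΛ : PicF.Cl (A ⊗ A).left) = (cΛ : PicF.Cl (A ⊗ A).left)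
    rw [hΛ', map_mul, map_mul, pull_F, pull_F, pull_F, lift_fst, lift_snd,
      show lift (snd A A) (fst A A) ≫ μ[A] = μ[A] by
        rw [← Hom.mul_def, mul_comm, Hom.mul_def, lift_fst_snd, Category.id_comp],
      _root_.mul_right_comm]
  have hη : f.left (η[A].left (IsLocalRing.closedPoint k)) = η[At].left (IsLocalRing.closedPoint k) :=
    congr($(congrArg CommaMorphism.left (IsMonHom.one_hom f)) (IsLocalRing.closedPoint k))
  have hcl : IsClosed ({η[At].left (IsLocalRing.closedPoint k)} : Set At.left) := AVPoinc.isClosed_unitPt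
  refine ⟨f.left ⁻¹' {η[At].left (IsLocalRing.closedPoint k)}, f.left.finite_preimage_singleton _,
    fun z hz => ?_, hη, fun q y hy => ?_⟩
  · have hC : IsClosed (f.left ⁻¹' {η[At].left (IsLocalRing.closedPoint k)}) := hcl.preimage f.left.continuous
    haveI := isDiscrete_iff_discreteTopology.1 (f.left.isDiscrete_preimage_singleton (η[At].left (IsLocalRing.closedPoint k)))
    have := hC.isClosedEmbedding_subtypeVal.isClosedMap {⟨z, hz⟩} (isClosed_discrete _)
    rwa [Set.image_singleton] at this
  · exact S2385.result _ P (AmpleVan.isCoh_invertible hP)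
      (AVEuler.isFlatOver_of_finLocFree _ (ParaFX.FlatDesc.isFinLocFree_of_invertible hP)) y q
      (subsingleton_fiberH_fst hφ hP hξ hΛ0 hsec hsym y hy q)

end Groth.Agent.FMBase

end
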