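import Groth.Agent.FMBase.HyperSupport
import Groth.Agent.PushAmp.RelFlat
import Groth.Agent.PushAmp.TensorPerfect
import Groth.Agent.GBC.Perfect
import Groth.Agent.AmpleVan.Tw

/-!
# The top cohomology sheaf and the support of a derived tensor product
-/

noncomputable section

set_option autoImplicit false
set_option backward.isDefEq.respectTransparency false
set_option backward.isDefEq.respectTransparency.types false
set_option linter.style.haveILetI false
set_option maxHeartbeats 1000000
set_option synthInstance.maxHeartbeats 400000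

universe u

open CategoryTheory CategoryTheory.Limits AlgebraicGeometry TopologicalSpace CategoryTheory.Pretriangulated

attribute [-instance] CategoryTheory.catToReflQuiver

namespace Groth.Agent.FMBase

open Groth.Agent.KFlatLib Groth.Agent.DQGen Groth.Agent.GBC

attribute [local instance] hasLpull hasRpush_scheme hasLTensorMod hasLTensorCx HasDerivedCategory.standard

variable {X : Scheme.{u}}

/-- a derived tensor product with a module creates no higher cohomology -/
theorem isLE_ltensorMod (K : DCoh.D X) (n : ℤ) [K.IsLE n] (G : X.Modules) [DCoh.HasLTensorMod G] :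
    ((DCoh.LTensorMod G).obj K).IsLE n :=
  (DerivedCategory.isLE_iff _ _).2 fun i hi => PushAmp.isZero_hd_ltensorMod_of_gt K n G i hi

/-- right exact functors commute with homology in the top degree -/
def homologyTopIso {C D : Type*} [Category C] [Category D] [Abelian C] [Abelian D] (F : C ⥤ D) [F.Additive]
    [PreservesFiniteColimits F] (S : ShortComplex C) (hg : S.g = 0) : (S.map F).homology ≅ F.obj S.homology :=
  (ShortComplex.HomologyData.ofIsColimitCokernelCofork (S.map F)
    (by show F.map S.g = 0; rw [hg, F.map_zero]) _ (cokernelIsCokernel _)).left.homologyIso ≪≫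
  (PreservesCokernel.iso F S.f).symm ≪≫
  F.mapIso (ShortComplex.HomologyData.ofIsColimitCokernelCofork S hg _ (cokernelIsCokernel _)).left.homologyIso.symm

/-- the top cohomology sheaf of a derived tensor product -/
theorem nonempty_hd_zero_ltensorMod (K : DCoh.D X) [K.IsLE 0] (G : X.Modules) [DCoh.HasLTensorMod G] :
    Nonempty (DCoh.HD ((DCoh.LTensorMod G).obj K) 0 ≅ CohB1.tensorMod (DCoh.HD K 0) G) := by
  let C := DerivedCategory.Q.objPreimage K
  let eC : DerivedCategory.Q.obj C ≅ K := DerivedCategory.Q.objObjPreimageIso K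
  haveI : C.IsLE 0 := by
    rw [← DerivedCategory.isLE_Q_obj_iff]
    exact DerivedCategory.TStructure.t.isLE_of_iso eC.symm 0
  obtain ⟨R, ρ, hρ, hRle, hR⟩ := exists_flat_rep C 0
  haveI := hρ
  haveI := isIso_Q_map ρ hρ
  haveI := hRle
  let eR : DerivedCategory.Q.obj R ≅ K := asIso (DerivedCategory.Q.map ρ) ≪≫ eC
  haveI : PreservesFiniteColimits (DCoh.tensorRightMod G) :=
    haveI : PreservesColimitsOfSize.{u, u} (DCoh.tensorRightMod G) :=
      ⟨fun {J} _ => preservesColimitsOfShape_of_natIso (Exactness.flipTensorIso G)⟩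
    PreservesColimitsOfSize.preservesFiniteColimits _
  exact ⟨(DerivedCategory.homologyFunctor X.Modules 0).mapIso ((DCoh.LTensorMod G).mapIso eR.symm) ≪≫
    hdLTensorModIso G hR 0 ≪≫
    homologyTopIso (DCoh.tensorRightMod G) (R.sc 0)
      (((R.isZero_of_isStrictlyLE 0 ((ComplexShape.up ℤ).next 0) (by simp [CochainComplex.next]))).eq_of_tgt _ _) ≪≫
    (DCoh.tensorRightMod G).mapIso (((DerivedCategory.homologyFunctorFactors X.Modules 0).app R).symm ≪≫
      (DerivedCategory.homologyFunctor X.Modules 0).mapIso eR)⟩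

/-- the derived tensor product with a module restricts to opens -/
theorem nonempty_rho_ltensorMod (W : X.Opens) (K : DCoh.D X) (G : X.Modules) [DCoh.HasLTensorMod G] :
    Nonempty ((rho W.ι).obj ((DCoh.LTensorMod G).obj K) ≅
      (DCoh.LTensorMod ((Scheme.Modules.restrictFunctor W.ι).obj G)).obj ((rho W.ι).obj K)) := by
  obtain ⟨μ⟩ := nonempty_ltensorMod_iso_cx G
  let G' := (Scheme.Modules.restrictFunctor W.ι).obj G
  let L := (HomologicalComplex.single X.Modules (ComplexShape.up ℤ) 0).obj G
  let P := (HomologicalComplex.single (W : Scheme.{u}).Modules (ComplexShape.up ℤ) 0).obj G'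
  obtain ⟨t⟩ := PushAmp.nonempty_rho_ltensor W.ι L K P
    (DerivedCategory.Q.mapIso ((HomologicalComplex.singleMapHomologicalComplex
      (Scheme.Modules.restrictFunctor W.ι) (ComplexShape.up ℤ) 0).app G).symm ≪≫ ((rhoQ W.ι).app L).symm)
  obtain ⟨μ'⟩ := nonempty_ltensorMod_iso_cx G'
  exact ⟨(rho W.ι).mapIso (μ.app K) ≪≫ t ≪≫ (μ'.app _).symm⟩

/-- a derived tensor product vanishes where the complex does -/
theorem support_hd_ltensorMod_subset (K : DCoh.D X) (G : X.Modules) [DCoh.HasLTensorMod G] (C : Closeds X)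
    (h : ∀ i, CohB1.support (DCoh.HD K i) ⊆ C) (i : ℤ) :
    CohB1.support (DCoh.HD ((DCoh.LTensorMod G).obj K) i) ⊆ C := by
  let W : X.Opens := ⟨(C : Set X)ᶜ, C.isClosed.isOpen_compl⟩
  have hW : (W : Set X)ᶜ = C := compl_compl _
  have hK : IsZero ((rho W.ι).obj K) := (isZero_rho_iff_support W K).2 fun j => (h j).trans hW.ge
  obtain ⟨t⟩ := nonempty_rho_ltensorMod W K G
  have hz : IsZero ((rho W.ι).obj ((DCoh.LTensorMod G).obj K)) :=
    (isZero_ltensorMod_zero _).of_iso (t ≪≫ (DCoh.LTensorMod _).mapIso (hK.iso (isZero_zero _)))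
  exact ((isZero_rho_iff_support W _).1 hz i).trans hW.le

/-- twisting by an invertible module commutes with cohomology -/
theorem nonempty_hd_ltensorMod_twist {P : X.Modules} (hP : PicF.IsInvertible P) [DCoh.HasLTensorMod P]
    (K : DCoh.D X) (i : ℤ) :
    Nonempty (DCoh.HD ((DCoh.LTensorMod P).obj K) i ≅ CohB1.tensorMod (DCoh.HD K i) P) := by
  haveI : (DCoh.tensorRightMod P).IsEquivalence :=
    haveI := AmpleVan.isEquivalence_tw hP
    Functor.isEquivalence_of_iso (Exactness.flipTensorIso P)
  let R := repK K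
  exact ⟨(DerivedCategory.homologyFunctor X.Modules i).mapIso ((DCoh.LTensorMod P).mapIso (repKIso K).symm) ≪≫
    hdLTensorModIso P (isKFlat_repK K) i ≪≫
    (R.sc i).mapHomologyIso (DCoh.tensorRightMod P) ≪≫
    (DCoh.tensorRightMod P).mapIso (((DerivedCategory.homologyFunctorFactors X.Modules i).app R).symm ≪≫
      (DerivedCategory.homologyFunctor X.Modules i).mapIso (repKIso K))⟩

end Groth.Agent.FMBase

end
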