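import Groth.Agent.PushAmp.ExternalBounds
import Groth.Agent.PushAmp.RelFlat
import Groth.Agent.KFlatLib.Scheme.CoEvalPerfect
import Groth.Agent.GBC.Formal
import Groth.Agent.DQGen.Basic
import Groth.Agent.DQGen.RpushProperSupp
import Groth.Agent.FMBase.TopTensor
import Groth.Agent.S6498
import Groth.Agent.S0910
import Groth.Agent.S1039

/-!
# Fourier-Mukai transforms with a coherent kernel flat over the source
-/

set_option autoImplicit false
set_option linter.style.haveILetI false
set_option backward.isDefEq.respectTransparency false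
set_option backward.isDefEq.respectTransparency.types false
set_option maxHeartbeats 800000
set_option synthInstance.maxHeartbeats 400000

universe u

open CategoryTheory CategoryTheory.Limits AlgebraicGeometry TopologicalSpace CategoryTheory.Pretriangulated

attribute [-instance] CategoryTheory.catToReflQuiver

attribute [local instance] HasDerivedCategory.standard

noncomputable section

namespace Groth.Agent.FMBase

open Groth.Agent.KFlatLib Groth.Agent.DQGen

variable {X Z : Scheme.{u}}

/-- coherent cohomology of a module placed in degree zero -/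
theorem isCohD_toD_single [IsLocallyNoetherian X] {K : X.Modules} (hK : Coh.IsCoh K) :
    DCoh.IsCohD (DCoh.toD X ((HomologicalComplex.single X.Modules (ComplexShape.up ℤ) 0).obj K)) ∧
      ∀ i : ℤ, 0 < i → IsZero (DCoh.HD (DCoh.toD X
        ((HomologicalComplex.single X.Modules (ComplexShape.up ℤ) 0).obj K)) i) := by
  let E := (HomologicalComplex.single X.Modules (ComplexShape.up ℤ) 0).obj K
  have e : ∀ i, DCoh.HD (DCoh.toD X E) i ≅ E.homology i := fun i =>
    (DerivedCategory.homologyFunctorFactors X.Modules i).app E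
  have hz : ∀ i : ℤ, i ≠ 0 → IsZero (DCoh.HD (DCoh.toD X E) i) := fun i hi =>
    (ShortComplex.isZero_homology_of_isZero_X₂ _
      (HomologicalComplex.isZero_single_obj_X (ComplexShape.up ℤ) 0 K i hi)).of_iso (e i)
  refine ⟨fun i => ?_, fun i hi => hz i (ne_of_gt hi)⟩
  by_cases hi : i = 0
  · subst hi
    exact KFlatLib.isCoh_of_iso (e 0 ≪≫
      HomologicalComplex.singleObjHomologySelfIso (ComplexShape.up ℤ) 0 K).symm hK
  · exact KFlatLib.isCoh_of_isZero (hz i hi)

/-- the derived tensor product with the zero module vanishes -/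
theorem isZero_ltensorMod_of_isZero (G : X.Modules) [DCoh.HasLTensorMod G] (hG : IsZero G) (L : DCoh.D X) :
    IsZero ((DCoh.LTensorMod G).obj L) := by
  obtain ⟨R, hR, ⟨eR⟩⟩ := exists_kFlat_rep L
  haveI := isIso_ltensorModComparison G hR
  have hz : IsZero ((tensorModCx G).obj R) := by
    rw [IsZero.iff_id_eq_zero]
    ext i : 1
    exact (Functor.map_isZero ((DCoh.tensorBi (X := X)).obj (R.X i)) hG).eq_of_src _ _
  exact (Functor.map_isZero DerivedCategory.Q hz).of_iso
    ((DCoh.LTensorMod G).mapIso eR.symm ≪≫ asIso ((ltensorModComparison G).app R))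

/-- a derived tensor product vanishes where the module does -/
theorem support_hd_ltensorMod_subset_mod (G : X.Modules) [DCoh.HasLTensorMod G] (L : DCoh.D X)
    (C : Closeds X) (h : CohB1.support G ⊆ C) (i : ℤ) :
    CohB1.support (DCoh.HD ((DCoh.LTensorMod G).obj L) i) ⊆ C := by
  let W : X.Opens := ⟨(C : Set X)ᶜ, C.isClosed.isOpen_compl⟩
  have hW : (W : Set X)ᶜ = C := compl_compl _
  have hG : IsZero ((Scheme.Modules.restrictFunctor W.ι).obj G) := by
    have h' := isIso_restrict_of_stalk W (0 : G ⟶ G) fun x hx => by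
      haveI : Subsingleton (G.presheaf.stalk x) := not_not.1 fun hne => hx (h hne)
      exact (ConcreteCategory.isIso_iff_bijective _).2
        ⟨fun a b _ => Subsingleton.elim (α := G.presheaf.stalk x) a b,
          fun a => ⟨a, Subsingleton.elim (α := G.presheaf.stalk x) _ a⟩⟩
    rw [Functor.map_zero] at h'
    exact (IsZero.iff_id_eq_zero _).2 ((isIsoZeroEquiv _ _).toFun h').1
  haveI := hasLTensorMod ((Scheme.Modules.restrictFunctor W.ι).obj G)
  obtain ⟨t⟩ := nonempty_rho_ltensorMod W L G
  have hz : IsZero ((rho W.ι).obj ((DCoh.LTensorMod G).obj L)) :=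
    (isZero_ltensorMod_of_isZero _ hG _).of_iso t
  exact ((isZero_rho_iff_support W _).1 hz i).trans hW.le

/-- a closed subset of a set proper over the base is proper over it -/
theorem isProperOver_mono {S : Scheme.{u}} {f : Z ⟶ S} {C C' : Set Z} (h : ClSub.IsProperOver f C)
    (hC' : IsClosed C') (hsub : C' ⊆ C) : ClSub.IsProperOver f C' := by
  obtain ⟨hC, hP⟩ := h
  haveI : IsProper ((Scheme.IdealSheafData.vanishingIdeal ⟨C, hC⟩).subschemeι ≫ f) := hP
  exact QCoh.isProperOver_of_subset _ hC' (hsub.trans (QCoh.range_vanishing hC).ge)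

/-- coherent pullback -/
theorem isCohD_lpull [IsNoetherian X] [IsNoetherian Z] (p : Z ⟶ X) [DCoh.HasLpull p] {M : DCoh.D X}
    (hM : DCoh.IsCohD M) (n : ℤ) [M.IsLE n] :
    DCoh.IsCohD ((DCoh.Lpull p).obj M) ∧ ((DCoh.Lpull p).obj M).IsLE n := by
  have hle := isLE_lpull p M n
  refine ⟨fun i => ?_, hle⟩
  have hq : DCoh.IsQCohD M := fun j => (hM j).1
  have hpc : DCoh.IsPseudoCoherentD i M :=
    (Groth.Agent.S1039.result X M hq i).2 ⟨fun j _ => hM j, n, inferInstance⟩
  exact ((Groth.Agent.S1039.result Z _ (KFlatLib.isQCohD_lpull p hq) i).1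
    (Groth.Agent.S0910.result p i M hpc)).1 i le_rfl

/-- Fourier-Mukai with kernel a coherent module flat over the source, bounds -/
theorem bounds_ltensorMod_lpull (p : Z ⟶ X) [DCoh.HasLpull p] (K : Z.Modules) [DCoh.HasLTensorMod K]
    (hflat : FlatMod.IsFlatOver p K) (M : DCoh.D X) (m n : ℤ) [M.IsGE m] [M.IsLE n] :
    ((DCoh.LTensorMod K).obj ((DCoh.Lpull p).obj M)).IsGE m ∧
      ((DCoh.LTensorMod K).obj ((DCoh.Lpull p).obj M)).IsLE n := by
  let E := (HomologicalComplex.single Z.Modules (ComplexShape.up ℤ) 0).obj K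
  obtain ⟨μ⟩ := GBC.nonempty_ltensorMod_iso_cx K
  haveI := hasLTensorCx E
  obtain ⟨P, hP, ⟨eP⟩⟩ := exists_kFlat_rep M
  have hE : DerSch.HasTorAmplitude p 0 0 E := by
    refine PushAmp.hasTorAmplitude_of_flatOver p
      (fun i hi => HomologicalComplex.isZero_single_obj_X _ _ _ _ (by omega)) fun i x => ?_
    show Module.Flat (X.presheaf.stalk (p.base x)) ((DerSch.stalkOver p x).obj (E.X i))
    by_cases hi : i = 0
    · subst hi
      haveI : Module.Flat (X.presheaf.stalk (p.base x)) ((DerSch.stalkOver p x).obj K) := hflat x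
      exact Module.Flat.of_linearEquiv
        ((DerSch.stalkOver p x).mapIso (HomologicalComplex.singleObjXSelf (ComplexShape.up ℤ) 0 K)).toLinearEquiv
    · haveI := ModuleCat.subsingleton_of_isZero
        (Functor.map_isZero (DerSch.stalkOver p x)
          (HomologicalComplex.isZero_single_obj_X (ComplexShape.up ℤ) 0 K i hi))
      exact Module.Flat.of_free
  have hc : ∀ j : ℤ, j < m ∨ n < j → P.ExactAt j := fun j hj => by
    rw [HomologicalComplex.exactAt_iff_isZero_homology]
    refine IsZero.of_iso ?_ (((DerivedCategory.homologyFunctorFactors _ j).app P).symm ≪≫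
      (DerivedCategory.homologyFunctor _ j).mapIso eP)
    rcases hj with h | h
    · exact DerivedCategory.isZero_of_isGE M m j h
    · exact DerivedCategory.isZero_of_isLE M n j h
  let W := (DCoh.tensorCx.obj E).obj ((pullCx p).obj P)
  let eW : DCoh.toD Z W ≅ (DCoh.LTensorMod K).obj ((DCoh.Lpull p).obj M) :=
    DerivedCategory.Q.mapIso (braidCx E ((pullCx p).obj P)) ≪≫
      (ltensorCxIso E (isKFlat_pullback p hP)).symm ≪≫
      (DCoh.LTensorCx E).mapIso ((lpullIso p hP).symm ≪≫ (DCoh.Lpull p).mapIso eP) ≪≫ (μ.app _).symm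
  have hz : ∀ i : ℤ, i < 0 + m ∨ 0 + n < i →
      IsZero (DCoh.HD ((DCoh.LTensorMod K).obj ((DCoh.Lpull p).obj M)) i) := fun i hi =>
    ((HomologicalComplex.exactAt_iff_isZero_homology _ i).1
      (PushAmp.exactAt_tensor_pull_bounded p hE hP hc i hi)).of_iso
      (((DerivedCategory.homologyFunctor Z.Modules i).mapIso eW).symm ≪≫
        (DerivedCategory.homologyFunctorFactors _ i).app W)
  exact ⟨(DerivedCategory.isGE_iff _ _).2 fun i hi => hz i (Or.inl (by omega)),
    (DerivedCategory.isLE_iff _ _).2 fun i hi => hz i (Or.inr (by omega))⟩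

/-- Fourier-Mukai transforms with a coherent kernel flat over the source and proper over the target -/
theorem fourierMukai_flat_coh {Y : Scheme.{u}} [IsNoetherian X] [IsNoetherian Y] (p : Z ⟶ X) (q : Z ⟶ Y)
    [LocallyOfFiniteType q] [QuasiCompact q] (K : Z.Modules) (hK : Coh.IsCoh K)
    (hflat : FlatMod.IsFlatOver p K) (hsupp : ClSub.IsProperOver q (CohB1.support K))
    [DCoh.HasLpull p] [DCoh.HasLTensorMod K] [DCoh.HasRpush q] (M : DCoh.D X) (hM : DCoh.IsCohD M)
    (m n : ℤ) (hge : DerivedCategory.IsGE M m) (hle : DerivedCategory.IsLE M n) :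
    DCoh.IsCohD ((DCoh.Rpush q).obj ((DCoh.LTensorMod K).obj ((DCoh.Lpull p).obj M))) ∧
      ∃ m' n' : ℤ,
        DerivedCategory.IsGE ((DCoh.Rpush q).obj ((DCoh.LTensorMod K).obj ((DCoh.Lpull p).obj M))) m' ∧
        DerivedCategory.IsLE ((DCoh.Rpush q).obj ((DCoh.LTensorMod K).obj ((DCoh.Lpull p).obj M))) n' := by
  haveI := hge
  haveI := hle
  haveI : CompactSpace Z := QuasiCompact.compactSpace_of_compactSpace q
  haveI : IsLocallyNoetherian Z := LocallyOfFiniteType.isLocallyNoetherian q
  haveI : IsNoetherian Z := { }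
  haveI : HasInjectiveResolutions Z.Modules := hasInjectiveResolutions_modules
  obtain ⟨hL, hLle⟩ := isCohD_lpull p hM n
  obtain ⟨hWge, hWle⟩ := bounds_ltensorMod_lpull p K hflat M m n
  let L := (DCoh.Lpull p).obj M
  let E := (HomologicalComplex.single Z.Modules (ComplexShape.up ℤ) 0).obj K
  let W := (DCoh.LTensorMod K).obj L
  have hWc : DCoh.IsCohD W := fun i => by
    obtain ⟨μ⟩ := GBC.nonempty_ltensorMod_iso_cx K
    haveI := hasLTensorCx E
    haveI := hLle
    obtain ⟨hEc, hEb⟩ := isCohD_toD_single hK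
    exact KFlatLib.isCoh_of_iso ((DerivedCategory.homologyFunctor _ i).mapIso (μ.app L)).symm
      ((Groth.Agent.S6498.result Z E L hL ⟨n, fun j hj => DerivedCategory.isZero_of_isLE L n j hj⟩
        hEc ⟨0, hEb⟩).1 i)
  let C : Closeds Z := ⟨CohB1.support K, hsupp.1⟩
  have hq : ∀ i, GoodPush q (DCoh.HD W i) := fun i =>
    goodPush_of_properSupport q (hWc i) (isProperOver_mono hsupp
      (QCoh.isClosed_support_of_isFT (hWc i).1 (hWc i).2)
      (support_hd_ltensorMod_subset_mod K L C le_rfl i))
  haveI : W.IsGE m := hWge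
  haveI : W.IsLE n := hWle
  obtain ⟨n', hn'⟩ := exists_isLE_rpush q W m n hq
  exact ⟨isCohD_rpush_of_isGE q W m hq, m, n',
    (DerivedCategory.isGE_iff _ _).2 fun i hi => isZero_hd_rpush_of_lt q W m i hi, hn'⟩

end Groth.Agent.FMBase

end
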