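import Groth.Agent.GBC.Main
import Groth.Agent.H23.Seesaw

/-!
# Natural base change for integral transforms

Functor-level forms of derived pullback of identities, pullback of tensor products and base change for
integral transforms.
-/

noncomputable section

set_option autoImplicit false
set_option backward.isDefEq.respectTransparency false
set_option backward.isDefEq.respectTransparency.types false
set_option linter.style.haveILetI false
set_option maxHeartbeats 1000000
set_option synthInstance.maxHeartbeats 400000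

universe u

open CategoryTheory CategoryTheory.Limits AlgebraicGeometry

namespace Groth.Agent.FMBase

open Groth.Agent.KFlatLib Groth.Agent.DQGen Groth.Agent.RBC Groth.Agent.GBC

attribute [local instance] hasLpull hasRpush_scheme hasLTensorMod hasLTensorCx HasDerivedCategory.standard

variable {X S X' S' : Scheme.{u}}

/-- derived pullback along the identity is the identity -/
theorem nonempty_lpull_id (f : X ⟶ X) (hf : f = 𝟙 X) [DCoh.HasLpull f] :
    Nonempty (DCoh.Lpull f ≅ 𝟭 (DCoh.D X)) := by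
  subst hf
  let e : pullCx (𝟙 X) ≅ 𝟭 (CochainComplex X.Modules ℤ) :=
    NatIso.mapHomologicalComplex (Scheme.Modules.pullbackId X) (ComplexShape.up ℤ) ≪≫
      Functor.mapHomologicalComplexIdIso X.Modules (ComplexShape.up ℤ)
  obtain ⟨μ, -⟩ := exists_iso_lift_flat (F₁ := DCoh.Lpull (𝟙 X)) (F₂ := 𝟭 _) (H := DerivedCategory.Q)
    (lpullComparison (𝟙 X) ≫ Functor.whiskerRight e.hom _ ≫ (Functor.leftUnitor _).hom)
    (Functor.rightUnitor _).hom
    (fun C hC => by
      haveI := isIso_lpullComparison (𝟙 X) hC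
      simp only [NatTrans.comp_app, Functor.whiskerRight_app]
      infer_instance)
    (fun C _ => inferInstance)
  exact ⟨μ⟩

/-- pullback of complexes commutes with tensoring, naturally -/
def pullCxTensorNat (g : X' ⟶ X) (G : X.Modules) :
    tensorModCx G ⋙ pullCx g ≅ pullCx g ⋙ tensorModCx ((Scheme.Modules.pullback g).obj G) :=
  NatIso.mapHomologicalComplex (pullTensorModIso g G) (ComplexShape.up ℤ)

/-- `pullTensorD` is derived pullback followed by tensoring, naturally -/
theorem nonempty_pullTensorD_nat (g : X' ⟶ X) (G : X.Modules) [DCoh.HasLpull g]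
    [DCoh.HasLTensorMod ((Scheme.Modules.pullback g).obj G)] :
    Nonempty (pullTensorD g G ≅ DCoh.Lpull g ⋙ DCoh.LTensorMod ((Scheme.Modules.pullback g).obj G)) := by
  let G' := (Scheme.Modules.pullback g).obj G
  obtain ⟨μ, -⟩ := exists_iso_lift_flat (F₁ := pullTensorD g G)
    (F₂ := DCoh.Lpull g ⋙ DCoh.LTensorMod G') (H := (tensorModCx G ⋙ pullCx g) ⋙ DerivedCategory.Q)
    (kLiftε (kRespects_tensorPull g G))
    ((Functor.associator _ _ _).inv ≫ Functor.whiskerRight (lpullComparison g) _ ≫ (Functor.associator _ _ _).hom ≫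
      Functor.whiskerLeft (pullCx g) (ltensorModComparison G') ≫ (Functor.associator _ _ _).inv ≫
      Functor.whiskerRight (pullCxTensorNat g G).inv _)
    (fun C hC => isIso_kLiftε _ hC)
    (fun C hC => by
      haveI := isIso_lpullComparison g hC
      haveI := isIso_ltensorModComparison G' (isKFlat_pullback g hC)
      simp only [NatTrans.comp_app, Functor.whiskerRight_app, Functor.whiskerLeft_app]
      infer_instance)
  exact ⟨μ⟩

variable {Y : Scheme.{u}}

/-- base change for an integral transform, naturally on objects with quasi-coherent cohomology -/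
theorem nonempty_transform_baseChange {f : X ⟶ S} [QuasiCompact f] [QuasiSeparated f] {g : S' ⟶ S}
    {f' : X' ⟶ S'} {g' : X' ⟶ X} (H : IsPullback g' f' f g) (p : X ⟶ Y) {M : X.Modules} (hM : Coh.IsQCoh M)
    (hfl : FlatMod.IsFlatOver f M) [DCoh.HasLpull p] [DCoh.HasLTensorMod M] [DCoh.HasRpush f] [DCoh.HasLpull g]
    [DCoh.HasRpush f'] [DCoh.HasLpull g'] [DCoh.HasLpull (g' ≫ p)]
    [DCoh.HasLTensorMod ((Scheme.Modules.pullback g').obj M)] :
    Nonempty (ObjectProperty.ι (DCoh.IsQCohD (X := Y)) ⋙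
        (DCoh.Lpull p ⋙ DCoh.LTensorMod M ⋙ DCoh.Rpush f) ⋙ DCoh.Lpull g ≅
      ObjectProperty.ι (DCoh.IsQCohD (X := Y)) ⋙ DCoh.Lpull (g' ≫ p) ⋙
        DCoh.LTensorMod ((Scheme.Modules.pullback g').obj M) ⋙ DCoh.Rpush f') := by
  obtain ⟨a⟩ := nonempty_lpull_rpush_adj f
  obtain ⟨a'⟩ := nonempty_lpull_rpush_adj f'
  obtain ⟨α⟩ := nonempty_sq_iso f g f' g' H.w
  obtain ⟨q⟩ := nonempty_pullTensorD_nat g' M
  obtain ⟨c⟩ := nonempty_lpull_comp g' p
  let Θ : ObjectProperty.ι (DCoh.IsQCohD (X := Y)) ⋙ DCoh.Lpull p ⋙ DCoh.LTensorMod M ⋙ DCoh.Rpush f ⋙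
      DCoh.Lpull g ⟶ ObjectProperty.ι (DCoh.IsQCohD (X := Y)) ⋙ DCoh.Lpull p ⋙ pullTensorD g' M ⋙ DCoh.Rpush f' :=
    Functor.whiskerLeft _ (Functor.whiskerLeft _ (Functor.whiskerLeft _ (bcM a a' α.hom) ≫
      (Functor.associator _ _ _).inv ≫ Functor.whiskerRight (mu g' M) _))
  haveI : ∀ E, IsIso (Θ.app E) := fun E => by
    have h := gb_main H hM hfl _ (isQCohD_lpull p E.2) _ _ _ _ _ (Iso.refl _) (Iso.refl _) (Iso.refl _) a a' α
    simpa [Θ] using h
  haveI := NatIso.isIso_of_isIso_app Θ
  exact ⟨Functor.isoWhiskerLeft _ (Functor.associator _ _ _ ≪≫ Functor.isoWhiskerLeft _ (Functor.associator _ _ _)) ≪≫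
    asIso Θ ≪≫
    Functor.isoWhiskerLeft _ (Functor.isoWhiskerLeft _ (Functor.isoWhiskerRight q _ ≪≫ Functor.associator _ _ _) ≪≫
      (Functor.associator _ _ _).symm ≪≫ Functor.isoWhiskerRight c _)⟩

end Groth.Agent.FMBase

end
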