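import Groth.Agent.FMBase.HyperSupport
import Groth.Agent.AmpleX.Generated
import Groth.Agent.AmpleVan.Tw

/-!
# Hypercohomology of complexes with acyclic cohomology sheaves
-/

noncomputable section

set_option autoImplicit false
set_option backward.isDefEq.respectTransparency false
set_option backward.isDefEq.respectTransparency.types false
set_option linter.style.haveILetI false
set_option maxHeartbeats 1000000
set_option synthInstance.maxHeartbeats 400000

universe u

open CategoryTheory CategoryTheory.Limits AlgebraicGeometry TopologicalSpace CategoryTheory.Pretriangulated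

attribute [-instance] CategoryTheory.catToReflQuiver

namespace Groth.Agent.FMBase

open Groth.Agent.KFlatLib Groth.Agent.DQGen

attribute [local instance] hasRpush_scheme HasDerivedCategory.standard

variable {k : Type u} [Field k] (A : Over (Spec (CommRingCat.of k))) [IsProper A.hom]

/-- vanishing of hypercohomology from the vanishing of the cohomology of the cohomology sheaves -/
theorem isZero_hd_rpush_of_forall (K : DCoh.D A.left) (hK : DCoh.IsQCohD K) (b : ℤ) (hb : K.IsLE b) (j : ℤ)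
    (h : ∀ q, q ≤ b → q ≤ j → Subsingleton (Coh.HH A.left (DCoh.HD K q) (j - q).toNat)) :
    IsZero (DCoh.HD ((DCoh.Rpush A.hom).obj K) j) := by
  haveI : CompactSpace A.left := QuasiCompact.compactSpace_of_compactSpace A.hom
  haveI : HasInjectiveResolutions A.left.Modules := hasInjectiveResolutions_modules
  obtain ⟨N, hN⟩ := PushAmp.exists_hd_bound A.hom
  suffices H : ∀ (n : ℕ) (K : DCoh.D A.left), DCoh.IsQCohD K → ∀ b : ℤ, K.IsLE b → b + N ≤ j + n →
      (∀ q, q ≤ b → q ≤ j → Subsingleton (Coh.HH A.left (DCoh.HD K q) (j - q).toNat)) →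
        IsZero (DCoh.HD ((DCoh.Rpush A.hom).obj K) j) from
    H (b + N - j).toNat K hK b hb (by omega) h
  intro n
  induction n with
  | zero => exact fun K hK b hb h _ => hN K hK b hb j (by omega)
  | succ n ih =>
    intro K hK b hb hn hs
    haveI := hb
    obtain ⟨P, B, hP, hB, f, g, δ, hT⟩ :=
      DerivedCategory.TStructure.t.exists_triangle K (b - 1) (b - 1 + 1) rfl
    haveI : P.IsLE (b - 1) := ⟨hP⟩
    haveI : B.IsGE (b - 1 + 1) := ⟨hB⟩
    obtain ⟨hA, hB'⟩ := trunc_cases (b - 1) f g δ hT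
    obtain ⟨hqP, hqB⟩ := isQCohD_of_trunc hK (b - 1) ⟨hP⟩ ⟨hB⟩ f g δ hT
    have hPz := ih P hqP (b - 1) inferInstance (by omega) fun q hq hqj =>
      QCoh.subsingleton_HH_of_iso (hA q hq).some.symm _ (hs q (by omega) hqj)
    have hBb : ∀ q, q ≠ b → IsZero (DCoh.HD B q) := fun q hq => by
      by_cases hq' : q ≤ b - 1
      · exact DerivedCategory.isZero_of_isGE B (b - 1 + 1) q (by omega)
      · exact (DerivedCategory.isZero_of_isLE K b q (by omega)).of_iso (hB' q (by omega)).some.symm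
    obtain ⟨eB⟩ := nonempty_iso_inD_shift B b hBb
    obtain ⟨eb⟩ := hB' b (by omega)
    have hBz : IsZero (DCoh.HD ((DCoh.Rpush A.hom).obj B) j) := by
      obtain ⟨s⟩ := nonempty_rpush_shift A.hom (DCoh.inD A.left (DCoh.HD B b)) (-b)
      refine IsZero.of_iso ?_ ((DerivedCategory.homologyFunctor _ j).mapIso ((DCoh.Rpush A.hom).mapIso eB ≪≫ s) ≪≫
        ((DerivedCategory.homologyFunctor _ 0).shiftIso (-b) j (j - b) (by omega)).app _)
      by_cases hjb : j < b
      · exact isZero_hd_rpush_of_lt A.hom _ 0 (j - b) (by omega)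
      obtain ⟨m, hm⟩ : ∃ m : ℕ, (m : ℤ) = j - b := ⟨(j - b).toNat, by omega⟩
      rw [← hm]
      refine IsZero.of_iso ?_ (nonempty_hd_rpush_single A.hom _ m).some
      refine isZero_Rpush_point_of_subsingleton A.hom _ m ?_
      have h' := QCoh.subsingleton_HH_of_iso eb _ (hs b le_rfl (by omega))
      rwa [← hm, Int.toNat_natCast] at h'
    obtain ⟨c, hc⟩ := exists_rpush_triangle A.hom (Triangle.mk f g δ) hT
    exact (DerivedCategory.HomologySequence.exact₂ _ hc j).isZero_of_both_zeros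
      (hPz.eq_of_src _ _) (hBz.eq_of_tgt _ _)

/-- hypercohomology of a complex with acyclic cohomology sheaves -/
theorem nonempty_hd_rpush_of_acyclic [HasInjectiveResolutions A.left.Modules] (K : DCoh.D A.left)
    (hK : DCoh.IsQCohD K)
    (hac : ∀ (q : ℤ) (m : ℕ), 0 < m → Subsingleton (Coh.HH A.left (DCoh.HD K q) m)) (i : ℤ) :
    Nonempty (DCoh.HD ((DCoh.Rpush A.hom).obj K) i ≅ (Coh.Rpush A.hom 0).obj (DCoh.HD K i)) := by
  obtain ⟨P, B, hP, hB, f, g, δ, hT⟩ :=
    DerivedCategory.TStructure.t.exists_triangle K (i - 1) (i - 1 + 1) rfl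
  haveI : P.IsLE (i - 1) := ⟨hP⟩
  haveI : B.IsGE (i - 1 + 1) := ⟨hB⟩
  obtain ⟨hA, hB'⟩ := trunc_cases (i - 1) f g δ hT
  obtain ⟨hqP, hqB⟩ := isQCohD_of_trunc hK (i - 1) ⟨hP⟩ ⟨hB⟩ f g δ hT
  have hPz : ∀ j, i ≤ j → IsZero (DCoh.HD ((DCoh.Rpush A.hom).obj P) j) := fun j hj =>
    isZero_hd_rpush_of_forall A P hqP (i - 1) inferInstance j fun q hq hqj =>
      QCoh.subsingleton_HH_of_iso (hA q hq).some.symm _ (hac q _ (by omega))
  obtain ⟨c, hc⟩ := exists_rpush_triangle A.hom (Triangle.mk f g δ) hT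
  let H := DerivedCategory.homologyFunctor (Spec (CommRingCat.of k)).Modules i
  haveI : Mono (H.map ((DCoh.Rpush A.hom).map g)) :=
    (DerivedCategory.HomologySequence.exact₂ _ hc i).mono_g ((hPz i le_rfl).eq_of_src _ _)
  haveI : Epi (H.map ((DCoh.Rpush A.hom).map g)) :=
    (DerivedCategory.HomologySequence.epi_homologyMap_mor₂_iff _ hc i (i + 1) rfl).2
      ((hPz (i + 1) (by omega)).eq_of_tgt _ _)
  haveI := isIso_of_mono_of_epi (H.map ((DCoh.Rpush A.hom).map g))
  obtain ⟨Q, C, hQ, hC, f', g', δ', hT'⟩ := DerivedCategory.TStructure.t.exists_triangle B i (i + 1) rfl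
  haveI : Q.IsLE i := ⟨hQ⟩
  haveI : C.IsGE (i + 1) := ⟨hC⟩
  obtain ⟨hQ', -⟩ := trunc_cases i f' g' δ' hT'
  obtain ⟨c', hc'⟩ := exists_rpush_triangle A.hom (Triangle.mk f' g' δ') hT'
  haveI : Mono (H.map ((DCoh.Rpush A.hom).map f')) :=
    (DerivedCategory.HomologySequence.mono_homologyMap_mor₁_iff _ hc' (i - 1) i (by omega)).2
      ((isZero_hd_rpush_of_lt A.hom C (i + 1) (i - 1) (by omega)).eq_of_src _ _)
  haveI : Epi (H.map ((DCoh.Rpush A.hom).map f')) :=
    (DerivedCategory.HomologySequence.exact₂ _ hc' i).epi_f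
      ((isZero_hd_rpush_of_lt A.hom C (i + 1) i (by omega)).eq_of_tgt _ _)
  haveI := isIso_of_mono_of_epi (H.map ((DCoh.Rpush A.hom).map f'))
  have hQi : ∀ q, q ≠ i → IsZero (DCoh.HD Q q) := fun q hq => by
    by_cases hq' : q ≤ i
    · exact (DerivedCategory.isZero_of_isGE B (i - 1 + 1) q (by omega)).of_iso (hQ' q hq').some
    · exact DerivedCategory.isZero_of_isLE Q i q (by omega)
  obtain ⟨eQ⟩ := nonempty_iso_inD_shift Q i hQi
  obtain ⟨s⟩ := nonempty_rpush_shift A.hom (DCoh.inD A.left (DCoh.HD Q i)) (-i)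
  exact ⟨asIso (H.map ((DCoh.Rpush A.hom).map g)) ≪≫ (asIso (H.map ((DCoh.Rpush A.hom).map f'))).symm ≪≫
    H.mapIso ((DCoh.Rpush A.hom).mapIso eQ ≪≫ s) ≪≫
    ((DerivedCategory.homologyFunctor _ 0).shiftIso (-i) i 0 (by omega)).app _ ≪≫
    (nonempty_hd_rpush_single A.hom (DCoh.HD Q i) 0).some ≪≫
    (Coh.Rpush A.hom 0).mapIso ((hQ' i le_rfl).some ≪≫ (hB' i (by omega)).some.symm)⟩

/-- a globally generated module without sections is zero -/
theorem isZero_of_generated {X : Scheme.{u}} {G : X.Modules} {ι : Type u} {s : ι → Γ(G, ⊤)}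
    (hs : ProjUP.GeneratedBy G s) (h : Subsingleton Γ(G, ⊤)) : IsZero G :=
  isZero_of_stalk _ fun x => by
    have h1 := hs x
    refine @ModuleCat.isZero_of_subsingleton _ _ _ (subsingleton_of_forall_eq 0 fun z => ?_)
    have hz : z ∈ (⊤ : Submodule (X.presheaf.stalk x) (G.presheaf.stalk x)) := Submodule.mem_top
    rw [← h1] at hz
    refine (Submodule.mem_bot _).1 (Submodule.span_le.2 ?_ hz)
    rintro _ ⟨i, rfl⟩
    exact (Submodule.mem_bot _).2 ((congrArg _ (Subsingleton.elim (s i) 0)).trans (map_zero _))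

/-- large twists of a coherent module are acyclic and, unless it vanishes, have sections -/
theorem exists_serre_bound {L : A.left.Modules} (hL : CohB1.IsAmple L) {M : A.left.Modules} (hM : Coh.IsCoh M) :
    ∃ n₀ : ℕ, ∀ n, n₀ ≤ n →
      (∀ m, 0 < m → Subsingleton (Coh.HH A.left (CohB1.tensorMod M (CohB1.tensorPow L n)) m)) ∧
      (IsZero ((Coh.Rpush A.hom 0).obj (CohB1.tensorMod M (CohB1.tensorPow L n))) → IsZero M) := by
  letI : A.left.Over (Spec (CommRingCat.of k)) := ⟨A.hom⟩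
  haveI : IsProper (A.left ↘ Spec (CommRingCat.of k)) := inferInstanceAs (IsProper A.hom)
  haveI : CompactSpace A.left := AmpleVan.compactSpace_of_proper (A := k) (X := A.left)
  haveI : A.left.IsSeparated := AmpleVan.isSeparated_of_proper (A := k) (X := A.left)
  haveI : IsLocallyNoetherian A.left := LocallyOfFiniteType.isLocallyNoetherian A.hom
  obtain ⟨n₁, h₁⟩ := AmpleVan.exists_vanishing (A := k) hL hM
  obtain ⟨n₂, h₂⟩ := AmpleX.eventually_generated hL hM.1 hM.2
  refine ⟨max n₁ n₂, fun n hn => ⟨fun m hm => ?_, fun hz => ?_⟩⟩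
  · obtain ⟨q, rfl⟩ := Nat.exists_eq_add_of_le' hm
    exact h₁ n (le_of_max_le_left hn) q
  · have hq : Coh.IsQCoh (CohB1.tensorMod M (CohB1.tensorPow L n)) :=
      KFlatLib.isQCoh_tensor hM.1 (ProjUPX.isQCoh_of_isInvertible (InvX.isInvertible_tensorPow hL.1 n))
    have h0 := AVEuler.subsingleton_HH_of_isZero_Rpush A hq 0 hz
    obtain ⟨G, iso, ι, s, hs⟩ := h₂ n (le_of_max_le_right hn)
    haveI := AmpleVan.isEquivalence_tw (InvX.isInvertible_tensorPow hL.1 n)
    have h0' := QCoh.subsingleton_HH_of_iso iso.symm 0 h0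
    have hGz : IsZero G := isZero_of_generated hs
      (@Equiv.subsingleton _ _ (Sheaf.H.equiv₀ (Coh.toAb G) isTerminalTop).symm.toEquiv h0')
    have hMz : IsZero ((AmpleVan.tw (CohB1.tensorPow L n)).obj M) := hGz.of_iso iso.symm
    exact (IsZero.iff_id_eq_zero _).2 ((AmpleVan.tw (CohB1.tensorPow L n)).map_injective (hMz.eq_of_src _ _))

end Groth.Agent.FMBase

end
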