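import Groth.Agent.FMBase.HyperPoint
import Groth.Agent.FMBase.AffineSingle
import Groth.Agent.Snapper.DimVanish
import Groth.Agent.AVEuler.Kunneth
import Groth.Agent.PushAmp.Basic

/-!
# Hypercohomology of complexes whose lower cohomology has small support

If `E` lives in degrees `≤ 0` and its negative cohomology sheaves are supported in dimension `< d`, then
`H^i(E) → H^i(H^0 E)` is surjective for `i + 2 ≥ d`.
-/

noncomputable section

set_option autoImplicit false
set_option backward.isDefEq.respectTransparency false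
set_option backward.isDefEq.respectTransparency.types false
set_option linter.style.haveILetI false
set_option maxHeartbeats 1000000
set_option synthInstance.maxHeartbeats 400000

universe u

open CategoryTheory CategoryTheory.Limits AlgebraicGeometry TopologicalSpace CategoryTheory.Pretriangulated

attribute [-instance] CategoryTheory.catToReflQuiver

namespace Groth.Agent.FMBase

open Groth.Agent.KFlatLib Groth.Agent.DQGen

attribute [local instance] hasRpush_scheme HasDerivedCategory.standard

/-- the support only depends on the module up to isomorphism -/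
theorem support_eq_of_iso {X : Scheme.{u}} {M N : X.Modules} (e : M ≅ N) :
    CohB1.support M = CohB1.support N := Set.ext fun x =>
  not_congr ⟨fun h => @Equiv.subsingleton _ _ ((DerSch.stalkFunctor X x).mapIso e).toLinearEquiv.symm.toEquiv h,
    fun h => @Equiv.subsingleton _ _ ((DerSch.stalkFunctor X x).mapIso e).toLinearEquiv.toEquiv h⟩

/-- the cohomology sheaves of the truncations in a truncation triangle -/
theorem trunc_cases {X : Scheme.{u}} {A K B : DCoh.D X} (n : ℤ) [A.IsLE n] [B.IsGE (n + 1)]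
    (f : A ⟶ K) (g : K ⟶ B) (δ : B ⟶ A⟦(1 : ℤ)⟧) (hT : Triangle.mk f g δ ∈ distTriang (DCoh.D X)) :
    (∀ j, j ≤ n → Nonempty (DCoh.HD A j ≅ DCoh.HD K j)) ∧
      (∀ j, n < j → Nonempty (DCoh.HD K j ≅ DCoh.HD B j)) := by
  let H := DerivedCategory.homologyFunctor X.Modules
  have hexact : ∀ j, (ShortComplex.mk ((H j).map f) ((H j).map g)
      ((Functor.map_comp _ _ _).symm.trans ((congrArg (H j).map (comp_distTriang_mor_zero₁₂ _ hT)).trans
        (Functor.map_zero _ _ _)))).Exact :=
    fun j => DerivedCategory.HomologySequence.exact₂ _ hT j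
  refine ⟨fun j hj => ?_, fun j hj => ?_⟩
  · haveI : Mono ((H j).map f) := (DerivedCategory.HomologySequence.mono_homologyMap_mor₁_iff _ hT
      (j - 1) j (by omega)).2 ((DerivedCategory.isZero_of_isGE B (n + 1) (j - 1) (by omega)).eq_of_src _ _)
    haveI : Epi ((H j).map f) := (hexact j).epi_f
      ((DerivedCategory.isZero_of_isGE B (n + 1) j (by omega)).eq_of_tgt _ _)
    haveI : IsIso ((H j).map f) := isIso_of_mono_of_epi _
    exact ⟨asIso ((H j).map f)⟩
  · haveI : Mono ((H j).map g) := (hexact j).mono_g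
      ((DerivedCategory.isZero_of_isLE A n j hj).eq_of_src _ _)
    haveI : Epi ((H j).map g) := (DerivedCategory.HomologySequence.epi_homologyMap_mor₂_iff _ hT
      j (j + 1) rfl).2 ((DerivedCategory.isZero_of_isLE A n (j + 1) (by omega)).eq_of_tgt _ _)
    haveI : IsIso ((H j).map g) := isIso_of_mono_of_epi _
    exact ⟨asIso ((H j).map g)⟩

variable {k : Type u} [Field k]

/-- a quasi-coherent module without cohomology has no direct image to the point -/
theorem isZero_Rpush_point_of_subsingleton {X : Scheme.{u}} (a : X ⟶ Spec (CommRingCat.of k)) [QuasiCompact a]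
    [QuasiSeparated a] (M : X.Modules) (q : ℕ) (h : Subsingleton (Coh.HH X M q)) :
    IsZero ((Coh.Rpush a q).obj M) := by
  haveI : HasInjectiveResolutions X.Modules := hasInjectiveResolutions_modules
  haveI : Subsingleton (Spec (CommRingCat.of k)) := inferInstanceAs (Subsingleton (PrimeSpectrum k))
  exact isZero_Rpush_of_finite_single a M (Set.subsingleton_of_subsingleton (s := Set.univ)).finite
    (fun _ _ => (isClosed_discrete _)) (fun _ y hy => absurd (Set.mem_univ y) hy) q h

variable (A : Over (Spec (CommRingCat.of k))) [IsProper A.hom]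

/-- the direct image of a complex with small support vanishes in high degrees -/
theorem isZero_hd_rpush_of_support {d : ℕ} (C : Closeds A.left)
    (hC : topologicalKrullDim ↥(C : Set A.left) < (d : WithBot ℕ∞)) :
    ∀ (K : DCoh.D A.left), DCoh.IsQCohD K → ∀ b : ℤ, K.IsLE b → (∀ q, CohB1.support (DCoh.HD K q) ⊆ C) →
      ∀ j : ℤ, b + d ≤ j → IsZero (DCoh.HD ((DCoh.Rpush A.hom).obj K) j) := by
  haveI : CompactSpace A.left := QuasiCompact.compactSpace_of_compactSpace A.hom
  letI : A.left.Over (Spec (CommRingCat.of k)) := ⟨A.hom⟩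
  haveI : IsProper (A.left ↘ Spec (CommRingCat.of k)) := inferInstanceAs (IsProper A.hom)
  haveI : A.left.IsSeparated := AmpleVan.isSeparated_of_proper (A := k) (X := A.left)
  haveI : IsLocallyNoetherian A.left := LocallyOfFiniteType.isLocallyNoetherian A.hom
  haveI : IsNoetherian A.left := {}
  haveI : HasInjectiveResolutions A.left.Modules := hasInjectiveResolutions_modules
  obtain ⟨N, hN⟩ := PushAmp.exists_hd_bound A.hom
  suffices H : ∀ (n : ℕ) (K : DCoh.D A.left), DCoh.IsQCohD K → ∀ b : ℤ, K.IsLE b →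
      (∀ q, CohB1.support (DCoh.HD K q) ⊆ C) → ∀ j : ℤ, b + d ≤ j → b + N ≤ j + n →
        IsZero (DCoh.HD ((DCoh.Rpush A.hom).obj K) j) from
    fun K hK b hb hs j hj => H (b + N - j).toNat K hK b hb hs j hj (by omega)
  intro n
  induction n with
  | zero => exact fun K hK b hb _ j _ h => hN K hK b hb j (by omega)
  | succ n ih =>
    intro K hK b hb hs j hj hn
    haveI := hb
    obtain ⟨P, B, hP, hB, f, g, δ, hT⟩ :=
      DerivedCategory.TStructure.t.exists_triangle K (b - 1) (b - 1 + 1) rfl
    haveI : P.IsLE (b - 1) := ⟨hP⟩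
    haveI : B.IsGE (b - 1 + 1) := ⟨hB⟩
    obtain ⟨hA, hB'⟩ := trunc_cases (b - 1) f g δ hT
    have hPq : ∀ q, CohB1.support (DCoh.HD P q) ⊆ C ∧ Coh.IsQCoh (DCoh.HD P q) := fun q => by
      by_cases hq : q ≤ b - 1
      · obtain ⟨e⟩ := hA q hq
        exact ⟨(support_eq_of_iso e).subset.trans (hs q), KFlatLib.isQCoh_of_iso e.symm (hK q)⟩
      · have hz := DerivedCategory.isZero_of_isLE P (b - 1) q (by omega)
        refine ⟨fun x hx => absurd ?_ hx, isQCoh_of_isZero hz⟩
        exact (Snapper.notMem_support_iff.2 ((DerSch.stalkFunctor _ x).map_isZero hz) : _) |> not_not.1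
    have hPz := ih P (fun q => (hPq q).2) (b - 1) inferInstance (fun q => (hPq q).1) j (by omega) (by omega)
    have hBb : ∀ q, q ≠ b → IsZero (DCoh.HD B q) := fun q hq => by
      by_cases hq' : q ≤ b - 1
      · exact DerivedCategory.isZero_of_isGE B (b - 1 + 1) q (by omega)
      · exact (DerivedCategory.isZero_of_isLE K b q (by omega)).of_iso (hB' q (by omega)).some.symm
    obtain ⟨eB⟩ := nonempty_iso_inD_shift B b hBb
    obtain ⟨eb⟩ := hB' b (by omega)
    have hBz : IsZero (DCoh.HD ((DCoh.Rpush A.hom).obj B) j) := by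
      obtain ⟨s⟩ := nonempty_rpush_shift A.hom (DCoh.inD A.left (DCoh.HD B b)) (-b)
      refine IsZero.of_iso ?_ ((DerivedCategory.homologyFunctor _ j).mapIso ((DCoh.Rpush A.hom).mapIso eB ≪≫ s) ≪≫
        ((DerivedCategory.homologyFunctor _ 0).shiftIso (-b) j (j - b) (by omega)).app _)
      obtain ⟨m, hm⟩ : ∃ m : ℕ, (m : ℤ) = j - b := ⟨(j - b).toNat, by omega⟩
      rw [← hm]
      refine IsZero.of_iso ?_ (nonempty_hd_rpush_single A.hom _ m).some
      exact isZero_Rpush_point_of_subsingleton A.hom _ m (Snapper.subsingleton_HH_of_dim_lt d C hC _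
        (KFlatLib.isQCoh_of_iso eb (hK b)) ((support_eq_of_iso eb).symm.subset.trans (hs b)) m (by omega))
    obtain ⟨c, hc⟩ := exists_rpush_triangle A.hom (Triangle.mk f g δ) hT
    exact (DerivedCategory.HomologySequence.exact₂ _ hc j).isZero_of_both_zeros
      (hPz.eq_of_src _ _) (hBz.eq_of_tgt _ _)

/-- cohomology of the top cohomology sheaf is a quotient of hypercohomology -/
theorem subsingleton_HH_top_of_isZero {d : ℕ} (C : Closeds A.left)
    (hC : topologicalKrullDim ↥(C : Set A.left) < (d : WithBot ℕ∞)) (E : DCoh.D A.left) (hE : DCoh.IsQCohD E)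
    [E.IsLE 0] (hs : ∀ q : ℤ, q < 0 → CohB1.support (DCoh.HD E q) ⊆ C) (i : ℕ) (hi : d ≤ i + 2)
    (hz : IsZero (DCoh.HD ((DCoh.Rpush A.hom).obj E) (i : ℤ))) :
    Subsingleton (Coh.HH A.left (DCoh.HD E 0) i) := by
  haveI : HasInjectiveResolutions A.left.Modules := hasInjectiveResolutions_modules
  obtain ⟨P, B, hP, hB, f, g, δ, hT⟩ :=
    DerivedCategory.TStructure.t.exists_triangle E (-1) ((-1 : ℤ) + 1) rfl
  haveI : P.IsLE (-1) := ⟨hP⟩
  haveI : B.IsGE ((-1 : ℤ) + 1) := ⟨hB⟩
  obtain ⟨hA, hB'⟩ := trunc_cases (-1) f g δ hT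
  have hPq : ∀ q, CohB1.support (DCoh.HD P q) ⊆ C ∧ Coh.IsQCoh (DCoh.HD P q) := fun q => by
    by_cases hq : q ≤ -1
    · obtain ⟨e⟩ := hA q hq
      exact ⟨(support_eq_of_iso e).subset.trans (hs q (by omega)), KFlatLib.isQCoh_of_iso e.symm (hE q)⟩
    · have hz := DerivedCategory.isZero_of_isLE P (-1) q (by omega)
      refine ⟨fun x hx => absurd ?_ hx, isQCoh_of_isZero hz⟩
      exact (Snapper.notMem_support_iff.2 ((DerSch.stalkFunctor _ x).map_isZero hz) : _) |> not_not.1
  have hPz := isZero_hd_rpush_of_support A C hC P (fun q => (hPq q).2) (-1) inferInstance (fun q => (hPq q).1)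
    ((i : ℤ) + 1) (by omega)
  have hB0 : ∀ q, q ≠ 0 → IsZero (DCoh.HD B q) := fun q hq => by
    by_cases hq' : q ≤ -1
    · exact DerivedCategory.isZero_of_isGE B ((-1 : ℤ) + 1) q (by omega)
    · exact (DerivedCategory.isZero_of_isLE E 0 q (by omega)).of_iso (hB' q (by omega)).some.symm
  obtain ⟨eB⟩ := nonempty_iso_inD_shift B 0 hB0
  obtain ⟨e0⟩ := hB' 0 (by omega)
  let e' : B ≅ DCoh.inD A.left (DCoh.HD E 0) := eB ≪≫ (shiftFunctorZero' _ _ neg_zero).app _ ≪≫
    (DerivedCategory.singleFunctor A.left.Modules 0).mapIso e0.symm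
  obtain ⟨c, hc⟩ := exists_rpush_triangle A.hom (Triangle.mk f g δ) hT
  have hBz : IsZero (DCoh.HD ((DCoh.Rpush A.hom).obj B) (i : ℤ)) :=
    (DerivedCategory.HomologySequence.exact₃ _ hc (i : ℤ) ((i : ℤ) + 1) rfl).isZero_of_both_zeros
      (hz.eq_of_src _ _) (hPz.eq_of_tgt _ _)
  refine AVEuler.subsingleton_HH_of_isZero_Rpush A (hE 0) i (hBz.of_iso ?_)
  exact (nonempty_hd_rpush_single A.hom _ i).some.symm ≪≫
    (DerivedCategory.homologyFunctor _ _).mapIso ((DCoh.Rpush A.hom).mapIso e'.symm)

end Groth.Agent.FMBase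

end
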