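import Groth.Agent.FMBase.Poincare

/-!
# Translations and integral transforms with the Poincaré kernel
-/

noncomputable section

set_option autoImplicit false
set_option backward.isDefEq.respectTransparency false
set_option backward.isDefEq.respectTransparency.types false
set_option linter.style.haveILetI false
set_option linter.unusedSectionVars false
set_option maxHeartbeats 1000000
set_option synthInstance.maxHeartbeats 400000

universe u

open CategoryTheory CategoryTheory.Limits MonoidalCategory CartesianMonoidalCategory MonObj AlgebraicGeometry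

attribute [-instance] CategoryTheory.catToReflQuiver

namespace Groth.Agent.FMBase

open Groth.Agent.H23 Groth.Agent.H23.TrivBasic Groth.Agent.H23.CubeAb Groth.Agent.AbDualBase
open Groth.Agent.KFlatLib Groth.Agent.DQGen Groth.Agent.RBC Groth.Agent.GBC
open scoped Groth.Agent.H23.PicMul CategoryTheory.Obj

attribute [local instance] hasLpull hasRpush_scheme hasLTensorMod hasLTensorCx HasDerivedCategory.standard

/-- derived pullbacks along equal maps agree -/
theorem nonempty_lpull_congr {X Y : Scheme.{u}} {f g : X ⟶ Y} (h : f = g) [DCoh.HasLpull f] [DCoh.HasLpull g] :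
    Nonempty (DCoh.Lpull f ≅ DCoh.Lpull g) := by
  subst h
  exact ⟨Iso.refl _⟩

theorem isFlat_of_invertible {Z : Scheme.{u}} {L : Z.Modules} (hL : PicF.IsInvertible L) : FlatMod.IsFlat L :=
  isFlat_of_isFinLocFree (ParaFX.FlatDesc.isFinLocFree_of_invertible hL)

variable {k : Type u} [Field k] {A At : Over (Spec (CommRingCat.of k))}
  [GrpObj A] [IsProper A.hom] [Smooth A.hom] [GeometricallyConnected A.hom]
  [GrpObj At] [IsProper At.hom] [Smooth At.hom] [GeometricallyConnected At.hom]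
  {φ : ∀ T : Over (Spec (CommRingCat.of k)), PicF.Cl (PicF.XT A.hom T) → (T ⟶ At)}
  (hφ : AbDual.IsDualAV Scheme.fppfPrecoverage A At φ)
  {P : (pullback A.hom At.hom).Modules} (hP : PicF.IsInvertible P)
  (hPξ : AbDual.IsPoincareCl A At φ (PicF.cl P))
include hφ hP hPξ

/-- twisting before transforming translates the transform -/
theorem nonempty_twist_transform (x : 𝟙_ (Over (Spec (CommRingCat.of k))) ⟶ At)
    [DCoh.HasLpull (pullback.fst A.hom At.hom)] [DCoh.HasLTensorMod P] [DCoh.HasRpush (pullback.snd A.hom At.hom)]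
    [DCoh.HasLTensorMod ((Scheme.Modules.pullback (CartesianMonoidalCategory.lift (𝟙 A) (toUnit A ≫ x)).left).obj P)]
    [DCoh.HasLpull (𝟙 At * (toUnit At ≫ x)).left] :
    Nonempty (ObjectProperty.ι (DCoh.IsQCohD (X := A.left)) ⋙
        DCoh.LTensorMod ((Scheme.Modules.pullback (CartesianMonoidalCategory.lift (𝟙 A) (toUnit A ≫ x)).left).obj P) ⋙
        (DCoh.Lpull (pullback.fst A.hom At.hom) ⋙ DCoh.LTensorMod P ⋙ DCoh.Rpush (pullback.snd A.hom At.hom)) ≅
      ObjectProperty.ι (DCoh.IsQCohD (X := A.left)) ⋙ (DCoh.Lpull (pullback.fst A.hom At.hom) ⋙ DCoh.LTensorMod P ⋙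
        DCoh.Rpush (pullback.snd A.hom At.hom)) ⋙ DCoh.Lpull (𝟙 At * (toUnit At ≫ x)).left) := by
  let c : At ⟶ At := toUnit At ≫ x
  let t : At ⟶ At := 𝟙 At * c
  let p₁ : pullback A.hom At.hom ⟶ A.left := pullback.fst A.hom At.hom
  let p₂ : pullback A.hom At.hom ⟶ At.left := pullback.snd A.hom At.hom
  let M := (Scheme.Modules.pullback (CartesianMonoidalCategory.lift (𝟙 A) (toUnit A ≫ x)).left).obj P
  have hM : PicF.IsInvertible M := PicClLib.isInvertible_pullback _ hP
  let τ : pullback A.hom At.hom ⟶ pullback A.hom At.hom := (A ◁ t).left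
  have H : IsPullback τ p₂ p₂ t.left := by
    have := FinDesc.isPullback_proj A.hom t
    rwa [PicZeroPrim.xtMap_eq] at this
  have hτ : τ ≫ p₁ = p₁ := congrArg (fun f => f.left) (whiskerLeft_fst A t)
  let fM := (Scheme.Modules.pullback p₁).obj M
  have hfM : PicF.IsInvertible fM := PicClLib.isInvertible_pullback _ hM
  obtain ⟨e⟩ : Nonempty (CohB1.tensorMod fM P ≅ (Scheme.Modules.pullback τ).obj P) := by
    refine (PicGrp.cl_eq_cl_iff _ _).1 ?_
    rw [PicMul.cl_tensor]
    show _ = PicF.pullCl (A ◁ (𝟙 At * c)).left (PicF.cl P)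
    rw [poincare_add hφ hPξ, whiskerLeft_id, mul_comm]
    refine congrArg₂ (· * ·) (PicClLib.pullCl_id _).symm ?_
    show PicF.pullCl p₁ (PicF.pullCl _ (PicF.cl P)) = _
    rw [PicClLib.pullCl_comp]
    congr 1
    show (fst A At ≫ lift (𝟙 A) (toUnit A ≫ x)).left = _
    congr 1
    ext <;> simp [c]
  obtain ⟨α₁⟩ := nonempty_ltensorMod_lpull p₁ (isFlat_of_invertible hM)
  obtain ⟨α₂⟩ := nonempty_ltensorMod_comp (isFlat_of_invertible hfM) P
  obtain ⟨α₃⟩ := nonempty_ltensorMod_congr e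
  obtain ⟨β⟩ := nonempty_transform_baseChange H p₁ (ProjUPX.isQCoh_of_isInvertible hP)
    (Seesaw.isFlatOver_of_isInvertible _ hP)
  obtain ⟨β'⟩ := nonempty_lpull_congr hτ
  refine ⟨Functor.isoWhiskerLeft _ ((Functor.associator _ _ _).symm ≪≫ Functor.isoWhiskerRight α₁ _ ≪≫
    Functor.associator _ _ _ ≪≫ Functor.isoWhiskerLeft _ ((Functor.associator _ _ _).symm ≪≫
      Functor.isoWhiskerRight (α₂ ≪≫ α₃) _)) ≪≫ ?_⟩
  exact (β ≪≫ Functor.isoWhiskerLeft _ (Functor.isoWhiskerRight β' _)).symm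

/-- transforming a translate twists the transform -/
theorem nonempty_translate_transform (x : 𝟙_ (Over (Spec (CommRingCat.of k))) ⟶ A)
    [DCoh.HasLpull (pullback.fst A.hom At.hom)] [DCoh.HasLTensorMod P] [DCoh.HasRpush (pullback.snd A.hom At.hom)]
    [DCoh.HasLpull (𝟙 A * (toUnit A ≫ x)).left]
    [DCoh.HasLTensorMod ((Scheme.Modules.pullback (CartesianMonoidalCategory.lift (toUnit At ≫ x⁻¹) (𝟙 At)).left).obj P)] :
    Nonempty (ObjectProperty.ι (DCoh.IsQCohD (X := A.left)) ⋙ DCoh.Lpull (𝟙 A * (toUnit A ≫ x)).left ⋙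
        (DCoh.Lpull (pullback.fst A.hom At.hom) ⋙ DCoh.LTensorMod P ⋙ DCoh.Rpush (pullback.snd A.hom At.hom)) ≅
      ObjectProperty.ι (DCoh.IsQCohD (X := A.left)) ⋙ (DCoh.Lpull (pullback.fst A.hom At.hom) ⋙ DCoh.LTensorMod P ⋙
        DCoh.Rpush (pullback.snd A.hom At.hom)) ⋙ DCoh.LTensorMod
          ((Scheme.Modules.pullback (CartesianMonoidalCategory.lift (toUnit At ≫ x⁻¹) (𝟙 At)).left).obj P)) := by
  haveI : GeometricallyIntegral A.hom := AVDual.geometricallyIntegral_of_smooth A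
  let c : A ⟶ A := toUnit A ≫ x
  let t : A ⟶ A := 𝟙 A * c
  let p₁ : pullback A.hom At.hom ⟶ A.left := pullback.fst A.hom At.hom
  let p₂ : pullback A.hom At.hom ⟶ At.left := pullback.snd A.hom At.hom
  let N := (Scheme.Modules.pullback (CartesianMonoidalCategory.lift (toUnit At ≫ x⁻¹) (𝟙 At)).left).obj P
  have hN : PicF.IsInvertible N := PicClLib.isInvertible_pullback _ hP
  let τ : pullback A.hom At.hom ⟶ pullback A.hom At.hom := (t ▷ At).left
  have htt : t ≫ (𝟙 A * c⁻¹) = 𝟙 A := by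
    have hc : t ≫ c = c := by rw [show c = toUnit A ≫ x from rfl, ← Category.assoc, comp_toUnit]
    rw [MonObj.comp_mul, GrpObj.comp_inv, hc, Category.comp_id]
    exact _root_.mul_inv_cancel_right _ _
  have htt' : (𝟙 A * c⁻¹) ≫ t = 𝟙 A := by
    have hc : (𝟙 A * c⁻¹) ≫ c = c := by rw [show c = toUnit A ≫ x from rfl, ← Category.assoc, comp_toUnit]
    rw [show t = 𝟙 A * c from rfl, MonObj.comp_mul, hc, Category.comp_id]
    exact _root_.inv_mul_cancel_right _ _
  haveI : IsIso t := ⟨𝟙 A * c⁻¹, htt, htt'⟩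
  haveI : IsIso τ := (Over.forget _).map_isIso (t ▷ At)
  have hsnd : τ ≫ p₂ = p₂ := congrArg (fun f => f.left) (whiskerRight_snd t At)
  have H : IsPullback τ p₂ p₂ (𝟙 At.left) :=
    IsPullback.of_horiz_isIso ⟨by rw [hsnd]; exact (Category.comp_id _).symm⟩
  have hτ : τ ≫ p₁ = p₁ ≫ t.left := congrArg (fun f => f.left) (whiskerRight_fst t At)
  let fN := (Scheme.Modules.pullback p₂).obj N
  have hfN : PicF.IsInvertible fN := PicClLib.isInvertible_pullback _ hN
  let Q := CohB1.tensorMod P fN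
  have hQ : PicF.IsInvertible Q := InvX.isInvertible_tensorMod hP hfN
  obtain ⟨e⟩ : Nonempty ((Scheme.Modules.pullback τ).obj Q ≅ P) := by
    refine (PicGrp.cl_eq_cl_iff _ _).1 ?_
    show PicF.pullCl τ (PicF.cl Q) = _
    rw [PicMul.cl_tensor, PicMul.pullCl_mul]
    show (PicF.pullCl τ (PicF.cl P) : PicF.Cl (pullback A.hom At.hom)) *
      PicF.pullCl τ (PicF.pullCl p₂ (PicF.pullCl _ (PicF.cl P))) = _
    rw [PicClLib.pullCl_comp τ, hsnd, PicClLib.pullCl_comp]
    have hw : p₂ ≫ (lift (toUnit At ≫ x⁻¹) (𝟙 At)).left = (c⁻¹ ▷ At).left := by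
      show (snd A At ≫ lift (toUnit At ≫ x⁻¹) (𝟙 At)).left = _
      congr 1
      ext
      · simp [c, GrpObj.comp_inv]
      · simp
    have h1 : PicF.pullCl (c ▷ At).left (PicF.cl P) * PicF.pullCl (c⁻¹ ▷ At).left (PicF.cl P) =
        (1 : PicF.Cl (A ⊗ At).left) := by
      rw [← poincare_add' hφ hPξ, _root_.mul_inv_cancel,
        show ((1 : A ⟶ A) ▷ At) = snd A At ≫ lift (toUnit At ≫ η[A]) (𝟙 At) by ext <;> simp [Hom.one_def],
        Over.comp_left, ← PicClLib.pullCl_comp]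
      have := hPξ.2.2
      rw [PicZeroPrim.secT_eq] at this
      rw [show PicF.pullCl (lift (toUnit At ≫ η[A]) (𝟙 At)).left (PicF.cl P) = 1 from this]
      exact pullCl_one' _
    let ξ : PicF.Cl (A ⊗ At).left := PicF.cl P
    refine (congrArg₂ (fun a b : PicF.Cl (A ⊗ At).left => a * b)
      ((poincare_add' hφ hPξ (𝟙 A) c : PicF.pullCl (t ▷ At).left ξ = _))
      (show PicF.pullCl (p₂ ≫ (lift (toUnit At ≫ x⁻¹) (𝟙 At)).left) ξ = PicF.pullCl (c⁻¹ ▷ At).left ξ by
        exact congrArg (fun m => PicF.pullCl m ξ) hw)).trans ?_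
    rw [_root_.mul_assoc, h1, _root_.mul_one, id_whiskerRight]
    exact PicClLib.pullCl_id _
  obtain ⟨γ₁⟩ := nonempty_lpull_comp p₁ t.left
  obtain ⟨γ₂⟩ := nonempty_lpull_congr hτ.symm
  obtain ⟨γ₃⟩ := nonempty_ltensorMod_congr e
  obtain ⟨β⟩ := nonempty_transform_baseChange H p₁ (ProjUPX.isQCoh_of_isInvertible hQ)
    (Seesaw.isFlatOver_of_isInvertible _ hQ)
  obtain ⟨i⟩ := nonempty_lpull_id (𝟙 At.left) rfl
  obtain ⟨γ₄⟩ := nonempty_ltensorMod_comp (isFlat_of_invertible hP) fN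
  obtain ⟨π⟩ := nonempty_projection_invertible p₂ hN
  refine ⟨Functor.isoWhiskerLeft _ ((Functor.associator _ _ _).symm ≪≫
    Functor.isoWhiskerRight (γ₁ ≪≫ γ₂) _ ≪≫ Functor.isoWhiskerLeft _ (Functor.isoWhiskerRight γ₃.symm _)) ≪≫
    β.symm ≪≫ Functor.isoWhiskerLeft _ (Functor.isoWhiskerLeft _ i ≪≫ Functor.rightUnitor _) ≪≫
    Functor.isoWhiskerLeft _ (Functor.isoWhiskerLeft _ (Functor.isoWhiskerRight γ₄.symm _ ≪≫
      Functor.associator _ _ _ ≪≫ Functor.isoWhiskerLeft _ π))⟩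

end Groth.Agent.FMBase

end
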