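import Groth.Agent.FMBase.IdealProd
import Groth.Agent.FMBase.TopTensor
import Groth.Agent.Big.Cartier
import Groth.Agent.PnCoh.Finite.SerreVanishing
import Groth.Agent.QCoh.HHExact
import Groth.Agent.H23.TopDim
import Groth.Agent.FMBase.Translate

/-!
# Derived and ordinary tensor products of ideals with small zero loci

For ideals `I`, `J` with zero loci of dimension `≤ 1` the positive cohomology of `(I ⊗ J ⊗ M) ⊗ P` and of
`(IJ ⊗ M) ⊗ P` is a quotient of the hypercohomology of the derived tensor product.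
-/

noncomputable section

set_option autoImplicit false
set_option backward.isDefEq.respectTransparency false
set_option backward.isDefEq.respectTransparency.types false
set_option linter.style.haveILetI false
set_option maxHeartbeats 1000000
set_option synthInstance.maxHeartbeats 400000

universe u

open CategoryTheory CategoryTheory.Limits AlgebraicGeometry TopologicalSpace CategoryTheory.Pretriangulated

attribute [-instance] CategoryTheory.catToReflQuiver

namespace Groth.Agent.FMBase

open Groth.Agent.KFlatLib Groth.Agent.DQGen Groth.Agent.GBC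

attribute [local instance] hasLpull hasRpush_scheme hasLTensorMod hasLTensorCx HasDerivedCategory.standard

variable {X : Scheme.{u}}

theorem krullDim_support_le (I : X.IdealSheafData) :
    topologicalKrullDim ↥(I.support : Set X) ≤ topologicalKrullDim ↥I.subscheme := by
  let h := I.subschemeι.isClosedEmbedding.isEmbedding.toHomeomorph
  have hr : Set.range I.subschemeι = (I.support : Set X) := I.range_subschemeι
  exact ((Homeomorph.setCongr hr.symm).trans h.symm).isInducing.topologicalKrullDim_le

theorem isQCoh_tensorMod_invertible {M P : X.Modules} (hM : Coh.IsQCoh M) (hP : PicF.IsInvertible P) :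
    Coh.IsQCoh (CohB1.tensorMod M P) :=
  KFlatLib.isQCoh_tensor hM (ProjUPX.isQCoh_of_isInvertible hP)

/-- away from the zero locus of `I` the derived tensor product `I ⊗^L J` is `J` -/
theorem support_hd_ideal_ltensorMod (I J : X.IdealSheafData) [DCoh.HasLTensorMod (ClSub.idealMod J)]
    (q : ℤ) (hq : q ≠ 0) :
    CohB1.support (DCoh.HD ((DCoh.LTensorMod (ClSub.idealMod J)).obj (DCoh.inD X (ClSub.idealMod I))) q) ⊆
      (I.support : Set X) := by
  let W : X.Opens := ⟨(I.support : Set X)ᶜ, I.support.isClosed.isOpen_compl⟩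
  have hS := Big.shortExact_ideal I
  have hQ : IsZero ((rho W.ι).obj (DCoh.inD X (ClSub.quotMod I))) := (isZero_rho_iff_support W _).2 fun j => by
    by_cases hj : j = 0
    · subst hj
      rw [support_eq_of_iso (M := DCoh.HD (DCoh.inD X (ClSub.quotMod I)) 0)
        ((DerivedCategory.singleFunctorCompHomologyFunctorIso X.Modules 0).app (ClSub.quotMod I))]
      exact (Big.support_quotMod_subset I).trans (compl_compl _).ge
    · intro x hx
      refine absurd ?_ hx
      have hz : IsZero (DCoh.HD (DCoh.inD X (ClSub.quotMod I)) j) := by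
        rcases lt_or_gt_of_ne hj with h | h
        · exact DerivedCategory.isZero_of_isGE _ 0 j h
        · exact DerivedCategory.isZero_of_isLE _ 0 j h
      exact (Snapper.notMem_support_iff.2 ((DerSch.stalkFunctor _ x).map_isZero hz) : _) |> not_not.1
  haveI := (Triangle.isZero₃_iff_isIso₁ _ ((rho W.ι).map_distinguished _ hS.singleTriangle_distinguished)).1 hQ
  let e : (rho W.ι).obj (DCoh.inD X (ClSub.idealMod I)) ≅ (rho W.ι).obj (DCoh.inD X (Coh.structureModule X)) :=
    asIso ((rho W.ι).mapTriangle.obj hS.singleTriangle).mor₁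
  obtain ⟨t⟩ := nonempty_rho_ltensorMod W (DCoh.inD X (ClSub.idealMod I)) (ClSub.idealMod J)
  obtain ⟨t'⟩ := nonempty_rho_ltensorMod W (DCoh.inD X (Coh.structureModule X)) (ClSub.idealMod J)
  obtain ⟨f⟩ := nonempty_ltensorMod_inD KFlatLib.isFlat_structureModule (ClSub.idealMod J) (M := Coh.structureModule X)
  let e' : (rho W.ι).obj ((DCoh.LTensorMod (ClSub.idealMod J)).obj (DCoh.inD X (ClSub.idealMod I))) ≅
      (rho W.ι).obj (DCoh.inD X (CohB1.tensorMod (Coh.structureModule X) (ClSub.idealMod J))) :=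
    t ≪≫ (DCoh.LTensorMod _).mapIso e ≪≫ t'.symm ≪≫ (rho W.ι).mapIso f
  intro x hx
  by_contra hxW
  have hz : IsZero ((Scheme.Modules.restrictFunctor W.ι).obj
      (DCoh.HD (DCoh.inD X (CohB1.tensorMod (Coh.structureModule X) (ClSub.idealMod J))) q)) := by
    refine Functor.map_isZero _ ?_
    rcases lt_or_gt_of_ne hq with h | h
    · exact DerivedCategory.isZero_of_isGE _ 0 q h
    · exact DerivedCategory.isZero_of_isLE _ 0 q h
  have hz' : IsZero ((Scheme.Modules.restrictFunctor W.ι).obj
      (DCoh.HD ((DCoh.LTensorMod (ClSub.idealMod J)).obj (DCoh.inD X (ClSub.idealMod I))) q)) :=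
    hz.of_iso ((restrictHDIso W.ι _ q).symm ≪≫ (DerivedCategory.homologyFunctor _ q).mapIso e' ≪≫
      restrictHDIso W.ι _ q)
  exact hx (ModuleCat.subsingleton_of_isZero
    (KFlatLib.isZero_stalk_of_restrict W.ι ⟨x, hxW⟩ ((DerSch.stalkFunctor _ _).map_isZero hz')))

variable {k : Type u} [Field k] (A : Over (Spec (CommRingCat.of k))) [IsProper A.hom]

theorem subsingleton_HH_tensor_ideals (I J : A.left.IdealSheafData)
    (hI : topologicalKrullDim ↥I.subscheme ≤ 1) {M P : A.left.Modules} (hM : PicF.IsInvertible M)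
    (hP : PicF.IsInvertible P) [DCoh.HasLTensorMod (ClSub.idealMod J)] [DCoh.HasLTensorMod M]
    [DCoh.HasLTensorMod P] [DCoh.HasRΓ A.left] (i : ℕ)
    (hz : IsZero ((DerivedCategory.homologyFunctor AddCommGrpCat.{u} (i : ℤ)).obj ((DCoh.RΓ A.left).obj
      ((DCoh.LTensorMod P).obj ((DCoh.LTensorMod M).obj
        ((DCoh.LTensorMod (ClSub.idealMod J)).obj (DCoh.inD A.left (ClSub.idealMod I)))))))) :
    Subsingleton (Coh.HH A.left (CohB1.tensorMod (CohB1.tensorMod
      (CohB1.tensorMod (ClSub.idealMod I) (ClSub.idealMod J)) M) P) i) := by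
  have hIq : Coh.IsQCoh (ClSub.idealMod I) := PPSheaf.GrCoh.isQCoh_idealMod I
  have hJq : Coh.IsQCoh (ClSub.idealMod J) := PPSheaf.GrCoh.isQCoh_idealMod J
  let E₁ := (DCoh.LTensorMod (ClSub.idealMod J)).obj (DCoh.inD A.left (ClSub.idealMod I))
  haveI : E₁.IsLE 0 := isLE_ltensorMod _ 0 _
  let E₂ := (DCoh.LTensorMod M).obj E₁
  haveI : E₂.IsLE 0 := isLE_ltensorMod _ 0 _
  let E := (DCoh.LTensorMod P).obj E₂
  haveI : E.IsLE 0 := isLE_ltensorMod _ 0 _
  have hq : DCoh.IsQCohD E := isQCohD_ltensorMod (ProjUPX.isQCoh_of_isInvertible hP)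
    (isQCohD_ltensorMod (ProjUPX.isQCoh_of_isInvertible hM) (isQCohD_ltensorMod hJq (isQCohD_inD hIq)))
  have hs : ∀ q : ℤ, q < 0 → CohB1.support (DCoh.HD E q) ⊆ (I.support : Set A.left) := fun q hq' => by
    rw [support_eq_of_iso (nonempty_hd_ltensorMod_twist hP E₂ q).some]
    refine support_tensor_subset_left.trans ?_
    rw [support_eq_of_iso (nonempty_hd_ltensorMod_twist hM E₁ q).some]
    exact support_tensor_subset_left.trans (support_hd_ideal_ltensorMod I J q hq'.ne)
  have h := subsingleton_HH_top_of_isZero A (d := 2) I.support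
    (lt_of_le_of_lt ((krullDim_support_le I).trans hI) (by exact_mod_cast Nat.lt_succ_self 1)) E hq hs i
    (by omega) ((isZero_hypercohomology_iff A.hom E i).1 hz)
  obtain ⟨a⟩ := nonempty_hd_ltensorMod_twist hP E₂ 0
  obtain ⟨b⟩ := nonempty_hd_ltensorMod_twist hM E₁ 0
  obtain ⟨c⟩ := nonempty_hd_zero_ltensorMod (DCoh.inD A.left (ClSub.idealMod I)) (ClSub.idealMod J)
  let e0 := c ≪≫ (AmpleVan.tw (ClSub.idealMod J)).mapIso
    ((DerivedCategory.singleFunctorCompHomologyFunctorIso A.left.Modules 0).app (ClSub.idealMod I))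
  exact QCoh.subsingleton_HH_of_iso (a ≪≫ (AmpleVan.tw P).mapIso (b ≪≫ (AmpleVan.tw M).mapIso e0)) i h

theorem subsingleton_HH_mul_ideals (I J : A.left.IdealSheafData)
    (hJ : topologicalKrullDim ↥J.subscheme ≤ 1) {M P : A.left.Modules} (hM : PicF.IsInvertible M)
    (hP : PicF.IsInvertible P) (i : ℕ) (hi : 1 ≤ i)
    (h : Subsingleton (Coh.HH A.left (CohB1.tensorMod (CohB1.tensorMod
      (CohB1.tensorMod (ClSub.idealMod I) (ClSub.idealMod J)) M) P) i)) :
    Subsingleton (Coh.HH A.left (CohB1.tensorMod (CohB1.tensorMod (ClSub.idealMod (I * J)) M) P) i) := by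
  haveI : CompactSpace A.left := QuasiCompact.compactSpace_of_compactSpace A.hom
  letI : A.left.Over (Spec (CommRingCat.of k)) := ⟨A.hom⟩
  haveI : IsProper (A.left ↘ Spec (CommRingCat.of k)) := inferInstanceAs (IsProper A.hom)
  haveI : A.left.IsSeparated := AmpleVan.isSeparated_of_proper (A := k) (X := A.left)
  haveI : IsLocallyNoetherian A.left := LocallyOfFiniteType.isLocallyNoetherian A.hom
  haveI : IsNoetherian A.left := {}
  haveI := epi_mulIdeal I J
  have hIJ : Coh.IsQCoh (CohB1.tensorMod (ClSub.idealMod I) (ClSub.idealMod J)) :=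
    KFlatLib.isQCoh_tensor (PPSheaf.GrCoh.isQCoh_idealMod I) (PPSheaf.GrCoh.isQCoh_idealMod J)
  have hK := QCoh.isQCoh_kernel hIJ (PPSheaf.GrCoh.isQCoh_idealMod (I * J)) (mulIdeal I J)
  have hS : (ShortComplex.mk (kernel.ι (mulIdeal I J)) (mulIdeal I J) (kernel.condition _)).ShortExact :=
    { exact := ShortComplex.exact_of_f_is_kernel _ (kernelIsKernel _)
      mono_f := inferInstance
      epi_g := inferInstance }
  haveI := AmpleVan.isEquivalence_tw hM
  haveI := AmpleVan.isEquivalence_tw hP
  have hT := (hS.map_of_exact (AmpleVan.tw M)).map_of_exact (AmpleVan.tw P)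
  refine PnCoh.Finite.subsingleton_HH_X₃ hT i h ?_
  refine Snapper.subsingleton_HH_of_dim_lt 2 J.support
    (lt_of_le_of_lt ((krullDim_support_le J).trans hJ) (by exact_mod_cast Nat.lt_succ_self 1)) _
    (isQCoh_tensorMod_invertible (isQCoh_tensorMod_invertible hK hM) hP) ?_ (i + 1) (by omega)
  exact (support_tensor_subset_left.trans support_tensor_subset_left).trans (support_kernel_mulIdeal I J)

/-- the codimension condition passes to smaller loci and is void in degree zero -/
theorem krullDim_closure_add_le {Y : Type*} [TopologicalSpace Y] {S T : ℕ → Set Y}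
    (hsub : ∀ i, 1 ≤ i → S i ⊆ T i)
    (hT : ∀ i : ℕ, topologicalKrullDim ↥(closure (T i)) + (i : WithBot ℕ∞) ≤ topologicalKrullDim Y) (i : ℕ) :
    topologicalKrullDim ↥(closure (S i)) + (i : WithBot ℕ∞) ≤ topologicalKrullDim Y := by
  rcases Nat.eq_zero_or_pos i with rfl | hi
  · rw [Nat.cast_zero, add_zero]
    exact topologicalKrullDim_subspace_le Y _
  · exact le_trans (by gcongr; exact H23.TopDim.dim_le_dim_of_subset (closure_mono (hsub i hi))) (hT i)

end Groth.Agent.FMBase

end
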