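import Groth.Agent.FMBase.Single
import Groth.Agent.FMBase.Transpose
import Groth.Agent.KFlatLib.Scheme.ProjFormula

/-!
# The natural projection formula with a kernel

A pull-tensor-push functor along a single map is tensoring with the derived direct image of the kernel;
two such functors with isomorphic (shifted) direct images agree.
-/

noncomputable section

set_option autoImplicit false
set_option backward.isDefEq.respectTransparency false
set_option backward.isDefEq.respectTransparency.types false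
set_option linter.style.haveILetI false
set_option linter.unusedSectionVars false
set_option maxHeartbeats 1000000
set_option synthInstance.maxHeartbeats 400000

universe u

open CategoryTheory CategoryTheory.Limits AlgebraicGeometry

attribute [-instance] CategoryTheory.catToReflQuiver

namespace Groth.Agent.FMBase

open Groth.Agent.KFlatLib Groth.Agent.DQGen Groth.Agent.RBC Groth.Agent.GBC

attribute [local instance] hasLpull hasRpush_scheme hasLTensorMod hasLTensorCx HasDerivedCategory.standard

section gen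

universe v' u'

variable {C : Type u'} [Category.{v'} C] [Abelian C] [∀ S : Type, HasColimitsOfShape (Discrete S) C]
  (T : C ⥤ C ⥤ C) [T.Additive] [∀ X, (T.obj X).Additive]

/-- tensoring with a shift in the first variable -/
def objShiftIso (R : CochainComplex C ℤ) (n : ℤ) :
    T.map₂CochainComplex.obj (R⟦n⟧) ≅ T.map₂CochainComplex.obj R ⋙ shiftFunctor (CochainComplex C ℤ) n :=
  NatIso.ofComponents (fun L => ((T.map₂CochainComplex.flip.obj L).commShiftIso n).app R)
    (fun g => (NatTrans.shift_app_comm (T.map₂CochainComplex.flip.map g) n R).symm)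

end gen

variable {X Y Z : Scheme.{u}}

/-- a quasi-isomorphism in the fixed variable is one after tensoring with a K-flat complex -/
lemma isIso_Q_tensorCx_map {R R' : CochainComplex Y.Modules ℤ} (s : R ⟶ R') [QuasiIso s]
    {C : CochainComplex Y.Modules ℤ} (hC : DCoh.IsKFlat C) :
    IsIso (DerivedCategory.Q.map ((DCoh.tensorCx.map s).app C) :
      DerivedCategory.Q.obj ((DCoh.tensorCx.obj R).obj C) ⟶ (DerivedCategory.Q.obj ((DCoh.tensorCx.obj R').obj C) : DCoh.D Y)) :=
  isIso_Q_map _ (S0949.result C hC s)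

/-- tensoring only depends on the class in the derived category -/
theorem nonempty_projF_congr_qis {R R' : CochainComplex Y.Modules ℤ} (s : R ⟶ R') [QuasiIso s] :
    Nonempty (projF R ≅ projF R') := by
  obtain ⟨μ, -⟩ := exists_iso_lift_flat (F₁ := projF R) (F₂ := projF R')
    (H := DCoh.tensorCx.obj R' ⋙ DerivedCategory.Q)
    (kLiftε (kRespects_tensor R) ≫ Functor.whiskerRight (DCoh.tensorCx.map s) _)
    (kLiftε (kRespects_tensor R'))
    (fun C hC => by
      haveI := isIso_kLiftε (kRespects_tensor R) hC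
      haveI := isIso_Q_tensorCx_map s hC
      simp only [NatTrans.comp_app, Functor.whiskerRight_app]
      infer_instance)
    (fun C hC => isIso_kLiftε (kRespects_tensor R') hC)
  exact ⟨μ⟩

/-- tensoring only depends on the class in the derived category -/
theorem nonempty_projF_congr {R R' : CochainComplex Y.Modules ℤ}
    (e : (DerivedCategory.Q.obj R : DCoh.D Y) ≅ DerivedCategory.Q.obj R') :
    Nonempty (projF R ≅ projF R') := by
  obtain ⟨Z, s, hs, g, hg⟩ := DerivedCategory.right_fac e.hom
  haveI : IsIso (DerivedCategory.Q.map s) := hs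
  haveI : IsIso (DerivedCategory.Q.map g) := by
    have h : DerivedCategory.Q.map g = DerivedCategory.Q.map s ≫ e.hom := by
      rw [hg, IsIso.hom_inv_id_assoc]
    rw [h]
    infer_instance
  haveI : QuasiIso s := (DerivedCategory.isIso_Q_map_iff_quasiIso _ _).1 inferInstance
  haveI : QuasiIso g := (DerivedCategory.isIso_Q_map_iff_quasiIso _ _).1 inferInstance
  obtain ⟨e₁⟩ := nonempty_projF_congr_qis s
  obtain ⟨e₂⟩ := nonempty_projF_congr_qis g
  exact ⟨e₁.symm ≪≫ e₂⟩

/-- tensoring with a shift is tensoring followed by the shift -/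
def tensorObjShiftIso (R : CochainComplex Y.Modules ℤ) (n : ℤ) :
    DCoh.tensorCx.obj (R⟦n⟧) ≅ DCoh.tensorCx.obj R ⋙ shiftFunctor (CochainComplex Y.Modules ℤ) n :=
  objShiftIso (DCoh.tensorBi (X := Y)) R n

/-- tensoring with a shift is tensoring followed by the shift, on the derived category -/
theorem nonempty_projF_shift (R : CochainComplex Y.Modules ℤ) (n : ℤ) :
    Nonempty (projF (R⟦n⟧) ≅ projF R ⋙ shiftFunctor (DCoh.D Y) n) := by
  obtain ⟨μ, -⟩ := exists_iso_lift_flat (F₁ := projF (R⟦n⟧)) (F₂ := projF R ⋙ shiftFunctor (DCoh.D Y) n)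
    (H := DCoh.tensorCx.obj R ⋙ DerivedCategory.Q ⋙ shiftFunctor (DCoh.D Y) n)
    (kLiftε (kRespects_tensor (R⟦n⟧)) ≫ Functor.whiskerRight (tensorObjShiftIso R n).hom _ ≫
      (Functor.associator _ _ _).hom ≫ Functor.whiskerLeft _ (DerivedCategory.Q.commShiftIso n).hom)
    ((Functor.associator _ _ _).inv ≫ Functor.whiskerRight (kLiftε (kRespects_tensor R)) _ ≫
      (Functor.associator _ _ _).hom)
    (fun C hC => by
      haveI := isIso_kLiftε (kRespects_tensor (R⟦n⟧)) hC
      simp only [NatTrans.comp_app, Functor.whiskerRight_app, Functor.whiskerLeft_app]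
      infer_instance)
    (fun C hC => by
      haveI := isIso_kLiftε (kRespects_tensor R) hC
      simp only [NatTrans.comp_app, Functor.whiskerRight_app]
      infer_instance)
  exact ⟨μ⟩

/-- tensoring with a complex only depends on its class, after a pullback -/
theorem nonempty_projH_congr_qis (f : X ⟶ Y) {I I' : CochainComplex X.Modules ℤ} (s : I ⟶ I') [QuasiIso s] :
    Nonempty (projH f I ≅ projH f I') := by
  obtain ⟨μ, -⟩ := exists_iso_lift_flat (F₁ := projH f I) (F₂ := projH f I')
    (H := (pullCx f ⋙ DCoh.tensorCx.obj I') ⋙ DerivedCategory.Q)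
    (kLiftε (kRespects_pullTensor f I) ≫
      Functor.whiskerRight (Functor.whiskerLeft (pullCx f) (DCoh.tensorCx.map s)) _)
    (kLiftε (kRespects_pullTensor f I'))
    (fun C hC => by
      haveI := isIso_kLiftε (kRespects_pullTensor f I) hC
      haveI := isIso_Q_tensorCx_map s (isKFlat_pullback f hC)
      simp only [NatTrans.comp_app, Functor.whiskerRight_app, Functor.whiskerLeft_app]
      infer_instance)
    (fun C hC => isIso_kLiftε (kRespects_pullTensor f I') hC)
  exact ⟨μ⟩

/-- tensoring with a complex only depends on its class, after a pullback -/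
theorem nonempty_projH_congr (f : X ⟶ Y) {I I' : CochainComplex X.Modules ℤ}
    (e : (DerivedCategory.Q.obj I : DCoh.D X) ≅ DerivedCategory.Q.obj I') :
    Nonempty (projH f I ≅ projH f I') := by
  obtain ⟨Z, s, hs, g, hg⟩ := DerivedCategory.right_fac e.hom
  haveI : IsIso (DerivedCategory.Q.map s) := hs
  haveI : IsIso (DerivedCategory.Q.map g) := by
    have h : DerivedCategory.Q.map g = DerivedCategory.Q.map s ≫ e.hom := by
      rw [hg, IsIso.hom_inv_id_assoc]
    rw [h]
    infer_instance
  haveI : QuasiIso s := (DerivedCategory.isIso_Q_map_iff_quasiIso _ _).1 inferInstance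
  haveI : QuasiIso g := (DerivedCategory.isIso_Q_map_iff_quasiIso _ _).1 inferInstance
  obtain ⟨e₁⟩ := nonempty_projH_congr_qis f s
  obtain ⟨e₂⟩ := nonempty_projH_congr_qis f g
  exact ⟨e₁.symm ≪≫ e₂⟩

/-- tensoring with a module in degree zero is the twist -/
def tensorSingleIso (M : X.Modules) :
    DCoh.tensorCx.obj ((HomologicalComplex.single X.Modules (ComplexShape.up ℤ) 0).obj M) ≅ tensorModCx M :=
  (symmIso (tensorBiFlipIso X) _).symm ≪≫ singleIso DCoh.tensorBi M ≪≫
    NatIso.mapHomologicalComplex (Exactness.flipTensorIso M) (ComplexShape.up ℤ)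

/-- a module kernel gives pullback followed by the twist -/
theorem nonempty_projH_single (f : X ⟶ Y) (M : X.Modules) [DCoh.HasLpull f] [DCoh.HasLTensorMod M] :
    Nonempty (projH f ((HomologicalComplex.single X.Modules (ComplexShape.up ℤ) 0).obj M) ≅
      DCoh.Lpull f ⋙ DCoh.LTensorMod M) := by
  let S := (HomologicalComplex.single X.Modules (ComplexShape.up ℤ) 0).obj M
  obtain ⟨μ, -⟩ := exists_iso_lift_flat (F₁ := projH f S) (F₂ := DCoh.Lpull f ⋙ DCoh.LTensorMod M)
    (H := (pullCx f ⋙ tensorModCx M) ⋙ DerivedCategory.Q)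
    (kLiftε (kRespects_pullTensor f S) ≫
      Functor.whiskerRight (Functor.whiskerLeft (pullCx f) (tensorSingleIso M).hom) _)
    ((Functor.associator _ _ _).inv ≫ Functor.whiskerRight (lpullComparison f) _ ≫ (Functor.associator _ _ _).hom ≫
      Functor.whiskerLeft (pullCx f) (ltensorModComparison M) ≫ (Functor.associator _ _ _).inv)
    (fun C hC => by
      haveI := isIso_kLiftε (kRespects_pullTensor f S) hC
      simp only [NatTrans.comp_app, Functor.whiskerRight_app, Functor.whiskerLeft_app]
      infer_instance)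
    (fun C hC => by
      haveI := isIso_lpullComparison f hC
      haveI := isIso_ltensorModComparison M (isKFlat_pullback f hC)
      simp only [NatTrans.comp_app, Functor.whiskerRight_app, Functor.whiskerLeft_app]
      infer_instance)
  exact ⟨μ⟩

/-- pull, twist and push is tensoring with the direct image of the twist, naturally on objects with
quasi-coherent cohomology -/
theorem nonempty_transform_eq_projF (f : X ⟶ Y) [QuasiCompact f] [QuasiSeparated f] [DCoh.HasRpush f]
    {M : X.Modules} (hM : Coh.IsQCoh M) [DCoh.HasLpull f] [DCoh.HasLTensorMod M] :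
    ∃ R : CochainComplex Y.Modules ℤ, Nonempty (DerivedCategory.Q.obj R ≅ (DCoh.Rpush f).obj (DCoh.inD X M)) ∧
      Nonempty (ObjectProperty.ι (DCoh.IsQCohD (X := Y)) ⋙ DCoh.Lpull f ⋙ DCoh.LTensorMod M ⋙ DCoh.Rpush f ≅
        ObjectProperty.ι (DCoh.IsQCohD (X := Y)) ⋙ projF R) := by
  obtain ⟨I, _, _, ⟨eE⟩⟩ := exists_kInjective_rep (DCoh.inD X M)
  let R := (kRes Y).obj ((pushCxF f).obj I)
  let a : R ⟶ (pushCxF f).obj I := (flatCover Y).ψ.app _
  haveI : QuasiIso a := (flatCover Y).quasiIso_ψ _
  haveI := isIso_Q_map a inferInstance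
  have hR : DCoh.IsKFlat R := isKFlat_kRes _
  have hI : DCoh.IsQCohD (DerivedCategory.Q.obj I) := isQCohD_of_iso eE (isQCohD_inD hM)
  obtain ⟨eI⟩ := nonempty_rpush_iso_of_kInjective (f := f) (I := I) (Iso.refl _)
  refine ⟨R, ⟨asIso (DerivedCategory.Q.map a) ≪≫ eI.symm ≪≫ (DCoh.Rpush f).mapIso eE.symm⟩, ?_⟩
  let Θ := Functor.whiskerLeft (ObjectProperty.ι (DCoh.IsQCohD (X := Y))) (projθ f I a)
  haveI : ∀ E, IsIso (Θ.app E) := fun E => by
    have h := isIso_projθ f I a hR hI (DerivedCategory.Q.objPreimage E.obj)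
      (isQCohD_of_iso (DerivedCategory.Q.objObjPreimageIso E.obj).symm E.2)
    exact (NatTrans.isIso_app_iff_of_iso (projθ f I a) (DerivedCategory.Q.objObjPreimageIso E.obj)).1 h
  haveI := NatIso.isIso_of_isIso_app Θ
  obtain ⟨c⟩ := nonempty_projH_congr f
    (((DerivedCategory.singleFunctorIsoCompQ X.Modules 0).app M).symm ≪≫ eE :
      (DerivedCategory.Q.obj ((HomologicalComplex.single X.Modules (ComplexShape.up ℤ) 0).obj M) : DCoh.D X) ≅ _)
  obtain ⟨d⟩ := nonempty_projH_single f M
  exact ⟨Functor.isoWhiskerLeft _ ((Functor.associator _ _ _).symm ≪≫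
    Functor.isoWhiskerRight (d.symm ≪≫ c) _) ≪≫ (asIso Θ).symm⟩

/-- transforms along two maps whose kernels have the same direct image up to shift agree up to shift -/
theorem nonempty_transform_of_push_iso (f : X ⟶ Y) [QuasiCompact f] [QuasiSeparated f] (ν : Z ⟶ Y)
    [QuasiCompact ν] [QuasiSeparated ν] [DCoh.HasRpush f] [DCoh.HasRpush ν] {M : X.Modules} (hM : Coh.IsQCoh M)
    {N : Z.Modules} (hN : Coh.IsQCoh N) [DCoh.HasLpull f] [DCoh.HasLTensorMod M] [DCoh.HasLpull ν]
    [DCoh.HasLTensorMod N] (n : ℤ)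
    (e : (DCoh.Rpush f).obj (DCoh.inD X M) ≅ ((DCoh.Rpush ν).obj (DCoh.inD Z N))⟦n⟧) :
    Nonempty (ObjectProperty.ι (DCoh.IsQCohD (X := Y)) ⋙ DCoh.Lpull f ⋙ DCoh.LTensorMod M ⋙ DCoh.Rpush f ≅
      ObjectProperty.ι (DCoh.IsQCohD (X := Y)) ⋙ (DCoh.Lpull ν ⋙ DCoh.LTensorMod N ⋙ DCoh.Rpush ν) ⋙
        shiftFunctor (DCoh.D Y) n) := by
  obtain ⟨R, ⟨eR⟩, ⟨p⟩⟩ := nonempty_transform_eq_projF f hM
  obtain ⟨R', ⟨eR'⟩, ⟨p'⟩⟩ := nonempty_transform_eq_projF ν hN
  obtain ⟨c⟩ := nonempty_projF_congr (R := R) (R' := R'⟦n⟧)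
    (eR ≪≫ e ≪≫ (shiftFunctor (DCoh.D Y) n).mapIso eR'.symm ≪≫ ((DerivedCategory.Q.commShiftIso n).app R').symm)
  obtain ⟨s⟩ := nonempty_projF_shift R' n
  exact ⟨p ≪≫ Functor.isoWhiskerLeft _ (c ≪≫ s) ≪≫ (Functor.associator _ _ _).symm ≪≫
    Functor.isoWhiskerRight p'.symm _ ≪≫ Functor.associator _ _ _⟩

end Groth.Agent.FMBase

end
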