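import Groth.Agent.FMBase.FirstKernel
import Groth.Agent.FMBase.ProjNat
import Groth.Agent.RBC.Proper

/-!
# The composite of the transform with the opposite transform

It is the pullback along the inversion, shifted by the dimension.
-/

noncomputable section

set_option autoImplicit false
set_option backward.isDefEq.respectTransparency false
set_option backward.isDefEq.respectTransparency.types false
set_option linter.style.haveILetI false
set_option linter.unusedSectionVars false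
set_option maxHeartbeats 2000000
set_option synthInstance.maxHeartbeats 400000

universe u

open CategoryTheory CategoryTheory.Limits MonoidalCategory CartesianMonoidalCategory MonObj AlgebraicGeometry

attribute [-instance] CategoryTheory.catToReflQuiver

namespace Groth.Agent.FMBase

open Groth.Agent.H23 Groth.Agent.H23.TrivBasic Groth.Agent.H23.CubeAb Groth.Agent.AbDualBase
open Groth.Agent.KFlatLib Groth.Agent.DQGen Groth.Agent.RBC Groth.Agent.GBC
open scoped Groth.Agent.H23.PicMul CategoryTheory.Obj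

attribute [local instance] hasLpull hasRpush_scheme hasLTensorMod hasLTensorCx HasDerivedCategory.standard

/-- base change along a flat map, after any functor with quasi-coherent values -/
theorem nonempty_baseChange_flat' {C : Type*} [Category C] {X S X' S' : Scheme.{u}} {f : X ⟶ S} [QuasiCompact f]
    [QuasiSeparated f] {g : S' ⟶ S} [Flat g] {f' : X' ⟶ S'} {g' : X' ⟶ X} (H : IsPullback g' f' f g)
    [DCoh.HasRpush f] [DCoh.HasLpull g] [DCoh.HasRpush f'] [DCoh.HasLpull g'] (G : C ⥤ DCoh.D X)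
    (hG : ∀ E, DCoh.IsQCohD (G.obj E)) :
    Nonempty (G ⋙ DCoh.Rpush f ⋙ DCoh.Lpull g ≅ G ⋙ DCoh.Lpull g' ⋙ DCoh.Rpush f') := by
  obtain ⟨β⟩ := nonempty_baseChange_flat H
  exact ⟨Functor.isoWhiskerLeft (ObjectProperty.lift _ G hG) β⟩

/-- derived pullback and direct image along an involution agree -/
theorem nonempty_rpush_involution {X : Scheme.{u}} (i : X ⟶ X) (hi : i ≫ i = 𝟙 X) [DCoh.HasRpush i]
    [DCoh.HasLpull i] : Nonempty (DCoh.Rpush i ≅ DCoh.Lpull i) := by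
  obtain ⟨c⟩ := nonempty_lpull_comp i i
  obtain ⟨d⟩ := nonempty_lpull_id (i ≫ i) hi
  obtain ⟨a⟩ := nonempty_lpull_rpush_adj i
  exact ⟨a.rightAdjointUniq (CategoryTheory.Equivalence.mk (DCoh.Lpull i) (DCoh.Lpull i) (c ≪≫ d).symm
    (c ≪≫ d)).toAdjunction⟩

variable {k : Type u} [Field k] {A At : Over (Spec (CommRingCat.of k))}
  [GrpObj A] [IsProper A.hom] [Smooth A.hom] [GeometricallyConnected A.hom]
  [GrpObj At] [IsProper At.hom] [Smooth At.hom] [GeometricallyConnected At.hom]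

/-- the composite of a transform and the opposite transform, for a kernel which is additive in the first
variable and whose direct image is the shifted skyscraper at the unit -/
theorem nonempty_swap_comp_of_kernel {P : (pullback A.hom At.hom).Modules} (hP : PicF.IsInvertible P)
    (hadd : ∀ (T : Over (Spec (CommRingCat.of k))) (a b : T ⟶ A),
      PicF.pullCl ((a * b) ▷ At).left (PicF.cl P) =
        PicF.pullCl (a ▷ At).left (PicF.cl P) * PicF.pullCl (b ▷ At).left (PicF.cl P))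
    {g : ℕ} (ek : (DCoh.Rpush (pullback.fst A.hom At.hom)).obj (DCoh.inD (pullback A.hom At.hom) P) ≅
      ((DCoh.Rpush η[A].left).obj (DCoh.inD _ (Coh.structureModule (Spec (CommRingCat.of k)))))⟦-(g : ℤ)⟧)
    [DCoh.HasLpull (pullback.fst A.hom At.hom)] [DCoh.HasLTensorMod P] [DCoh.HasRpush (pullback.snd A.hom At.hom)]
    [DCoh.HasLpull (pullback.fst At.hom A.hom)]
    [DCoh.HasLTensorMod ((Scheme.Modules.pullback (pullbackSymmetry At.hom A.hom).hom).obj P)]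
    [DCoh.HasRpush (pullback.snd At.hom A.hom)] [DCoh.HasLpull ((𝟙 A)⁻¹).left] :
    Nonempty (ObjectProperty.ι (DCoh.IsQCohD (X := A.left)) ⋙ (DCoh.Lpull (pullback.fst A.hom At.hom) ⋙
        DCoh.LTensorMod P ⋙ DCoh.Rpush (pullback.snd A.hom At.hom)) ⋙
        (DCoh.Lpull (pullback.fst At.hom A.hom) ⋙
          DCoh.LTensorMod ((Scheme.Modules.pullback (pullbackSymmetry At.hom A.hom).hom).obj P) ⋙
          DCoh.Rpush (pullback.snd At.hom A.hom)) ≅
      ObjectProperty.ι (DCoh.IsQCohD (X := A.left)) ⋙ DCoh.Lpull ((𝟙 A)⁻¹).left ⋙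
        shiftFunctor (DCoh.D A.left) (-(g : ℤ))) := by
  haveI : GeometricallyIntegral A.hom := AVDual.geometricallyIntegral_of_smooth A
  haveI : IsCommMonObj A := isCommMonObj_of_isProper_of_geometricallyIntegral A
  let P' := (Scheme.Modules.pullback (pullbackSymmetry At.hom A.hom).hom).obj P
  have hP' : PicF.IsInvertible P' := PicClLib.isInvertible_pullback _ hP
  let p₁ : pullback A.hom At.hom ⟶ A.left := pullback.fst A.hom At.hom
  let p₂ : pullback A.hom At.hom ⟶ At.left := pullback.snd A.hom At.hom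
  let q₁ : pullback At.hom A.hom ⟶ At.left := pullback.fst At.hom A.hom
  let q₂ : pullback At.hom A.hom ⟶ A.left := pullback.snd At.hom A.hom
  haveI : Flat q₁ := inferInstanceAs (Flat (pullback.fst At.hom A.hom))
  let Z := (A ⊗ A) ⊗ At
  let aO : Z ⟶ A ⊗ At := fst A A ▷ At
  let bO : Z ⟶ At ⊗ A := lift (snd (A ⊗ A) At) (fst (A ⊗ A) At ≫ snd A A)
  have H₀ : IsPullback aO bO (snd A At) (fst At A) := by
    refine ⟨⟨by simp [aO, bO]⟩, ⟨PullbackCone.IsLimit.mk _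
      (fun s => lift (lift (s.fst ≫ fst A At) (s.snd ≫ snd At A)) (s.fst ≫ snd A At)) (fun s => ?_) (fun s => ?_)
      (fun s m h₁ h₂ => ?_)⟩⟩
    · refine CartesianMonoidalCategory.hom_ext _ _ ?_ ?_ <;> simp [aO]
    · refine CartesianMonoidalCategory.hom_ext _ _ ?_ ?_
      · simpa [bO] using s.condition
      · simp [bO]
    · refine CartesianMonoidalCategory.hom_ext _ _ (CartesianMonoidalCategory.hom_ext _ _ ?_ ?_) ?_
      · simpa [aO] using congrArg (fun x => x ≫ fst A At) h₁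
      · simpa [bO] using congrArg (fun x => x ≫ snd At A) h₂
      · simpa [aO] using congrArg (fun x => x ≫ snd A At) h₁
  let z : Scheme.{u} := Z.left
  let a : z ⟶ pullback A.hom At.hom := aO.left
  let b : z ⟶ pullback At.hom A.hom := bO.left
  let π : z ⟶ (A ⊗ A).left := (fst (A ⊗ A) At).left
  let σ : z ⟶ pullback A.hom At.hom := (μ[A] ▷ At).left
  let r₁ : (A ⊗ A).left ⟶ A.left := (fst A A).left
  let r₂ : (A ⊗ A).left ⟶ A.left := (snd A A).left
  let ν : A.left ⟶ (A ⊗ A).left := (lift (𝟙 A) (𝟙 A)⁻¹).left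
  let i : A.left ⟶ A.left := ((𝟙 A)⁻¹).left
  haveI : IsProper π := inferInstanceAs (IsProper (pullback.fst (A ⊗ A).hom At.hom))
  haveI : IsClosedImmersion η[A].left := AVPoinc.isClosedImmersion_unit
  have H₀' : IsPullback a b p₂ q₁ := H₀.map (Over.forget _)
  have H₁ : IsPullback σ π p₁ μ[A].left := (FpqcDescLib.isPullback_whiskerRight μ[A] At).map (Over.forget _)
  have hν : IsPullback (toUnit A) (lift (𝟙 A) (𝟙 A)⁻¹) η[A] μ[A] := by
    have h1 : lift (𝟙 A) (𝟙 A)⁻¹ ≫ μ[A] = toUnit A ≫ η[A] := by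
      rw [← Hom.mul_def, _root_.mul_inv_cancel, Hom.one_def]
    refine ⟨⟨h1.symm⟩, ⟨PullbackCone.IsLimit.mk _ (fun s => s.snd ≫ fst A A) (fun s => toUnit_unique _ _)
      (fun s => ?_) (fun s m h₁ h₂ => ?_)⟩⟩
    · have hc : (s.snd ≫ fst A A) * (s.snd ≫ snd A A) = 1 := by
        rw [← MonObj.comp_mul, Hom.mul_def, lift_fst_snd, Category.id_comp, ← s.condition, Hom.one_def,
          toUnit_unique s.fst (toUnit _)]
      refine CartesianMonoidalCategory.hom_ext _ _ ?_ ?_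
      · simp
      · rw [Category.assoc, lift_snd, GrpObj.comp_inv, Category.comp_id]
        exact inv_eq_of_mul_eq_one_right hc
    · rw [← h₂]
      simp
  have H₂ : IsPullback A.hom ν η[A].left μ[A].left := by
    have := hν.map (Over.forget _)
    rwa [show (Over.forget _).map (toUnit A) = A.hom from Over.toUnit_left ..] at this
  let s : A ⊗ A ⟶ A ⊗ A := lift μ[A] (snd A A)
  have hss : s ≫ lift (fst A A * (snd A A)⁻¹) (snd A A) = 𝟙 _ := by
    ext
    · simp [s, MonObj.comp_mul, GrpObj.comp_inv, MonObj.mul_eq_mul, mul_inv_cancel_right]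
    · simp [s]
  have hss' : lift (fst A A * (snd A A)⁻¹) (snd A A) ≫ s = 𝟙 _ := by
    ext
    · simp [s, MonObj.comp_mul, MonObj.mul_eq_mul, inv_mul_cancel_right]
    · simp [s]
  haveI : IsIso s := ⟨_, hss, hss'⟩
  haveI : IsIso s.left := (Over.forget _).map_isIso s
  haveI : Flat r₁ := inferInstanceAs (Flat (pullback.fst A.hom A.hom))
  haveI : Flat μ[A].left := by
    rw [show μ[A].left = s.left ≫ r₁ from (congrArg CommaMorphism.left (lift_fst μ[A] (snd A A))).symm]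
    infer_instance
  haveI : IsSeparated r₁ := inferInstanceAs (IsSeparated (pullback.fst A.hom A.hom))
  haveI : IsClosedImmersion ν := by
    haveI : IsClosedImmersion (ν ≫ r₁) := by
      rw [show ν ≫ r₁ = 𝟙 A.left from congrArg CommaMorphism.left (lift_fst (𝟙 A) (𝟙 A)⁻¹)]
      infer_instance
    exact IsClosedImmersion.of_comp ν r₁
  -- the class of the kernel
  let Ma := (Scheme.Modules.pullback a).obj P
  let Mb := (Scheme.Modules.pullback b).obj P'
  let M := (Scheme.Modules.pullback σ).obj P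
  have hMa : PicF.IsInvertible Ma := PicClLib.isInvertible_pullback _ hP
  have hM : PicF.IsInvertible M := PicClLib.isInvertible_pullback _ hP
  obtain ⟨eM⟩ : Nonempty (CohB1.tensorMod Ma Mb ≅ M) := by
    refine (PicGrp.cl_eq_cl_iff _ _).1 ?_
    rw [PicMul.cl_tensor]
    show (PicF.pullCl a (PicF.cl P) : PicF.Cl z) *
      PicF.pullCl b (PicF.pullCl (pullbackSymmetry At.hom A.hom).hom (PicF.cl P)) = PicF.pullCl σ (PicF.cl P)
    rw [PicClLib.pullCl_comp b]
    have hb : b ≫ (pullbackSymmetry At.hom A.hom).hom = (snd A A ▷ At).left := by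
      refine pullback.hom_ext ?_ ?_
      · rw [Category.assoc, pullbackSymmetry_hom_comp_fst]
        show (bO ≫ snd At A).left = ((snd A A ▷ At) ≫ fst A At).left
        congr 1
        simp [bO]
      · rw [Category.assoc, pullbackSymmetry_hom_comp_snd]
        show (bO ≫ fst At A).left = ((snd A A ▷ At) ≫ snd A At).left
        congr 1
        simp [bO]
    rw [hb, show σ = ((fst A A * snd A A) ▷ At).left by rw [Hom.mul_def, lift_fst_snd, Category.id_comp]]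
    exact (hadd _ (fst A A) (snd A A)).symm
  -- the kernel
  let O := Coh.structureModule A.left
  have hO : Coh.IsQCoh O := QCoh.isQCoh_structureModule
  obtain ⟨eσ⟩ := nonempty_lpull_inD σ (isFlat_of_invertible hP)
  obtain ⟨eA⟩ := nonempty_lpull_inD A.hom (M := Coh.structureModule (Spec (CommRingCat.of k))) isFlat_structureModule
  obtain ⟨oA⟩ := PicClLib.nonempty_pullback_structureModule A.hom
  obtain ⟨b₁⟩ := nonempty_baseChange_flat H₁
  obtain ⟨b₂⟩ := nonempty_baseChange_flat H₂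
  let E₁ : ObjectProperty.FullSubcategory (DCoh.IsQCohD (X := pullback A.hom At.hom)) :=
    ⟨DCoh.inD _ P, isQCohD_inD (ProjUPX.isQCoh_of_isInvertible hP)⟩
  let E₂ : ObjectProperty.FullSubcategory (DCoh.IsQCohD (X := Spec (CommRingCat.of k))) :=
    ⟨DCoh.inD _ (Coh.structureModule (Spec (CommRingCat.of k))), isQCohD_inD QCoh.isQCoh_structureModule⟩
  obtain ⟨sμ⟩ := nonempty_lpull_shift μ[A].left ((DCoh.Rpush η[A].left).obj E₂.obj) (-(g : ℤ))
  let ker : (DCoh.Rpush π).obj (DCoh.inD z M) ≅ ((DCoh.Rpush ν).obj (DCoh.inD A.left O))⟦-(g : ℤ)⟧ :=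
    (DCoh.Rpush π).mapIso eσ.symm ≪≫ (b₁.app E₁).symm ≪≫ (DCoh.Lpull μ[A].left).mapIso ek ≪≫ sμ ≪≫
      (shiftFunctor _ (-(g : ℤ))).mapIso (b₂.app E₂ ≪≫
        (DCoh.Rpush ν).mapIso (eA ≪≫ (DerivedCategory.singleFunctor A.left.Modules 0).mapIso oA))
  obtain ⟨K⟩ := nonempty_transform_of_push_iso π ν (ProjUPX.isQCoh_of_isInvertible hM) hO (-(g : ℤ)) ker
  -- the composite
  let ιA := ObjectProperty.ι (DCoh.IsQCohD (X := A.left))
  let L₁ : ObjectProperty.FullSubcategory (DCoh.IsQCohD (X := A.left)) ⥤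
      ObjectProperty.FullSubcategory (DCoh.IsQCohD (X := (A ⊗ A).left)) :=
    ObjectProperty.lift _ (ιA ⋙ DCoh.Lpull r₁) (fun E => isQCohD_lpull r₁ E.2)
  obtain ⟨β⟩ := nonempty_baseChange_flat' H₀' (ιA ⋙ DCoh.Lpull p₁ ⋙ DCoh.LTensorMod P)
    (fun E => isQCohD_ltensorMod (ProjUPX.isQCoh_of_isInvertible hP) (isQCohD_lpull p₁ E.2))
  obtain ⟨t₁⟩ := nonempty_ltensorMod_lpull a (isFlat_of_invertible hP)
  obtain ⟨c₁⟩ := nonempty_lpull_comp a p₁
  obtain ⟨c₂⟩ := nonempty_lpull_comp π r₁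
  obtain ⟨c₃⟩ := nonempty_lpull_congr (show a ≫ p₁ = π ≫ r₁ from congrArg CommaMorphism.left (whiskerRight_fst (fst A A) At))
  obtain ⟨pr⟩ := nonempty_projection_invertible b hP'
  obtain ⟨t₂⟩ := nonempty_ltensorMod_comp (isFlat_of_invertible hMa) Mb
  obtain ⟨t₃⟩ := nonempty_ltensorMod_congr eM
  obtain ⟨d₁⟩ := nonempty_rpush_comp b q₂ (h := π ≫ r₂)
    (congrArg CommaMorphism.left (lift_snd (snd (A ⊗ A) At) (fst (A ⊗ A) At ≫ snd A A)))
  obtain ⟨d₂⟩ := nonempty_rpush_comp π r₂ (h := π ≫ r₂) rfl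
  obtain ⟨n₁⟩ := nonempty_lpull_comp ν r₁
  obtain ⟨n₂⟩ := nonempty_lpull_id (ν ≫ r₁) (congrArg CommaMorphism.left (lift_fst (𝟙 A) (𝟙 A)⁻¹))
  obtain ⟨tO⟩ := nonempty_ltensorMod_trivial (Iso.refl O)
  obtain ⟨sh⟩ := nonempty_rpush_shift_nat r₂ (-(g : ℤ))
  obtain ⟨d₃⟩ := nonempty_rpush_comp ν r₂ (h := i)
    (congrArg CommaMorphism.left (lift_snd (𝟙 A) (𝟙 A)⁻¹))
  obtain ⟨inv₁⟩ := nonempty_rpush_involution i (by
    show ((𝟙 A)⁻¹ ≫ (𝟙 A)⁻¹).left = _
    rw [GrpObj.comp_inv, Category.comp_id, _root_.inv_inv]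
    rfl)
  -- first: everything on the triple product
  let step₁ : ιA ⋙ (DCoh.Lpull p₁ ⋙ DCoh.LTensorMod P ⋙ DCoh.Rpush p₂) ⋙
      (DCoh.Lpull q₁ ⋙ DCoh.LTensorMod P' ⋙ DCoh.Rpush q₂) ≅
      (ιA ⋙ DCoh.Lpull p₁ ⋙ DCoh.LTensorMod P ⋙ DCoh.Lpull a ⋙ DCoh.Rpush b) ⋙
        DCoh.LTensorMod P' ⋙ DCoh.Rpush q₂ := Functor.isoWhiskerRight β (DCoh.LTensorMod P' ⋙ DCoh.Rpush q₂)
  let step₂ : (ιA ⋙ DCoh.Lpull p₁ ⋙ DCoh.LTensorMod P ⋙ DCoh.Lpull a ⋙ DCoh.Rpush b) ⋙
        DCoh.LTensorMod P' ⋙ DCoh.Rpush q₂ ≅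
      ιA ⋙ (DCoh.Lpull p₁ ⋙ DCoh.Lpull a) ⋙ (DCoh.LTensorMod Ma ⋙ DCoh.LTensorMod Mb) ⋙
        (DCoh.Rpush b ⋙ DCoh.Rpush q₂) :=
    Functor.isoWhiskerLeft ιA (Functor.isoWhiskerLeft (DCoh.Lpull p₁)
      (Functor.isoWhiskerRight t₁ (DCoh.Rpush b ⋙ DCoh.LTensorMod P' ⋙ DCoh.Rpush q₂) ≪≫
        Functor.isoWhiskerLeft (DCoh.Lpull a ⋙ DCoh.LTensorMod Ma) (Functor.isoWhiskerRight pr.symm (DCoh.Rpush q₂))))
  let step₃ : ιA ⋙ (DCoh.Lpull p₁ ⋙ DCoh.Lpull a) ⋙ (DCoh.LTensorMod Ma ⋙ DCoh.LTensorMod Mb) ⋙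
        (DCoh.Rpush b ⋙ DCoh.Rpush q₂) ≅
      ιA ⋙ (DCoh.Lpull r₁ ⋙ DCoh.Lpull π) ⋙ DCoh.LTensorMod M ⋙ (DCoh.Rpush π ⋙ DCoh.Rpush r₂) :=
    Functor.isoWhiskerLeft ιA (Functor.isoWhiskerRight (c₁ ≪≫ c₃ ≪≫ c₂.symm) _ ≪≫
      Functor.isoWhiskerLeft _ (Functor.isoWhiskerRight (t₂ ≪≫ t₃) _ ≪≫
        Functor.isoWhiskerLeft _ (d₁ ≪≫ d₂.symm)))
  let step₄ : ιA ⋙ (DCoh.Lpull r₁ ⋙ DCoh.Lpull π) ⋙ DCoh.LTensorMod M ⋙ (DCoh.Rpush π ⋙ DCoh.Rpush r₂) ≅
      ιA ⋙ (DCoh.Lpull r₁ ⋙ DCoh.Lpull ν) ⋙ DCoh.LTensorMod O ⋙ DCoh.Rpush ν ⋙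
        (shiftFunctor (DCoh.D (A ⊗ A).left) (-(g : ℤ)) ⋙ DCoh.Rpush r₂) :=
    Functor.isoWhiskerRight (Functor.isoWhiskerLeft L₁ K) (DCoh.Rpush r₂)
  let step₅ : ιA ⋙ (DCoh.Lpull r₁ ⋙ DCoh.Lpull ν) ⋙ DCoh.LTensorMod O ⋙ DCoh.Rpush ν ⋙
        (shiftFunctor (DCoh.D (A ⊗ A).left) (-(g : ℤ)) ⋙ DCoh.Rpush r₂) ≅
      ιA ⋙ DCoh.Lpull i ⋙ shiftFunctor (DCoh.D A.left) (-(g : ℤ)) :=
    Functor.isoWhiskerLeft ιA (Functor.isoWhiskerRight (n₁ ≪≫ n₂)
        (DCoh.LTensorMod O ⋙ DCoh.Rpush ν ⋙ (shiftFunctor (DCoh.D (A ⊗ A).left) (-(g : ℤ)) ⋙ DCoh.Rpush r₂)) ≪≫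
      Functor.leftUnitor _ ≪≫
      Functor.isoWhiskerRight tO
        (DCoh.Rpush ν ⋙ (shiftFunctor (DCoh.D (A ⊗ A).left) (-(g : ℤ)) ⋙ DCoh.Rpush r₂)) ≪≫
      Functor.leftUnitor _ ≪≫
      Functor.isoWhiskerLeft (DCoh.Rpush ν) sh ≪≫
      (Functor.associator _ _ _).symm ≪≫
      Functor.isoWhiskerRight (d₃ ≪≫ inv₁) (shiftFunctor (DCoh.D A.left) (-(g : ℤ))))
  exact ⟨step₁ ≪≫ step₂ ≪≫ step₃ ≪≫ step₄ ≪≫ step₅⟩

variable {φ : ∀ T : Over (Spec (CommRingCat.of k)), PicF.Cl (PicF.XT A.hom T) → (T ⟶ At)}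
  (hφ : AbDual.IsDualAV Scheme.fppfPrecoverage A At φ) {P : (pullback A.hom At.hom).Modules}
  (hP : PicF.IsInvertible P) (hξ : AbDual.IsPoincareCl A At φ (PicF.cl P))
include hφ hP hξ

/-- the composite of the transform and the opposite transform -/
theorem nonempty_swap_comp {g : ℕ} (hg : topologicalKrullDim A.left = g)
    [DCoh.HasLpull (pullback.fst A.hom At.hom)] [DCoh.HasLTensorMod P] [DCoh.HasRpush (pullback.snd A.hom At.hom)]
    [DCoh.HasLpull (pullback.fst At.hom A.hom)]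
    [DCoh.HasLTensorMod ((Scheme.Modules.pullback (pullbackSymmetry At.hom A.hom).hom).obj P)]
    [DCoh.HasRpush (pullback.snd At.hom A.hom)] [DCoh.HasLpull ((𝟙 A)⁻¹).left] :
    Nonempty (ObjectProperty.ι (DCoh.IsQCohD (X := A.left)) ⋙ (DCoh.Lpull (pullback.fst A.hom At.hom) ⋙
        DCoh.LTensorMod P ⋙ DCoh.Rpush (pullback.snd A.hom At.hom)) ⋙
        (DCoh.Lpull (pullback.fst At.hom A.hom) ⋙
          DCoh.LTensorMod ((Scheme.Modules.pullback (pullbackSymmetry At.hom A.hom).hom).obj P) ⋙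
          DCoh.Rpush (pullback.snd At.hom A.hom)) ≅
      ObjectProperty.ι (DCoh.IsQCohD (X := A.left)) ⋙ DCoh.Lpull ((𝟙 A)⁻¹).left ⋙
        shiftFunctor (DCoh.D A.left) (-(g : ℤ))) := by
  obtain ⟨ek⟩ := nonempty_rpush_fst_poincare hφ hP hξ hg
  exact nonempty_swap_comp_of_kernel hP (fun _ a b => poincare_add' hφ hξ a b) ek

/-- the composite in the other order -/
theorem nonempty_swap_comp' {g : ℕ} (hg : topologicalKrullDim A.left = g)
    [DCoh.HasLpull (pullback.fst A.hom At.hom)] [DCoh.HasLTensorMod P] [DCoh.HasRpush (pullback.snd A.hom At.hom)]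
    [DCoh.HasLpull (pullback.fst At.hom A.hom)]
    [DCoh.HasLTensorMod ((Scheme.Modules.pullback (pullbackSymmetry At.hom A.hom).hom).obj P)]
    [DCoh.HasRpush (pullback.snd At.hom A.hom)] [DCoh.HasLpull ((𝟙 At)⁻¹).left] :
    Nonempty (ObjectProperty.ι (DCoh.IsQCohD (X := At.left)) ⋙
        (DCoh.Lpull (pullback.fst At.hom A.hom) ⋙
          DCoh.LTensorMod ((Scheme.Modules.pullback (pullbackSymmetry At.hom A.hom).hom).obj P) ⋙
          DCoh.Rpush (pullback.snd At.hom A.hom)) ⋙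
        (DCoh.Lpull (pullback.fst A.hom At.hom) ⋙ DCoh.LTensorMod P ⋙ DCoh.Rpush (pullback.snd A.hom At.hom)) ≅
      ObjectProperty.ι (DCoh.IsQCohD (X := At.left)) ⋙ DCoh.Lpull ((𝟙 At)⁻¹).left ⋙
        shiftFunctor (DCoh.D At.left) (-(g : ℤ))) := by
  haveI : HasInjectiveResolutions (pullback A.hom At.hom).Modules := KFlatLib.hasInjectiveResolutions_modules
  let sw := (pullbackSymmetry At.hom A.hom).hom
  let P' := (Scheme.Modules.pullback sw).obj P
  have hP' : PicF.IsInvertible P' := PicClLib.isInvertible_pullback _ hP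
  have hg' : topologicalKrullDim At.left = g := AVPoinc.dim_eq hφ hP hξ hg
  obtain ⟨-, -, hlt, ⟨eTop⟩⟩ := AVPoinc.main hφ hP hξ hg hg'
  have hzero : ∀ i, i ≠ g → IsZero ((Coh.Rpush (pullback.snd A.hom At.hom) i).obj P) := fun i hi => by
    rcases lt_or_gt_of_ne hi with h | h
    · exact hlt i h
    · exact AVPoinc.isZero_Rpush_gt hφ hP hξ hg h
  obtain ⟨k₂⟩ := nonempty_rpush_inD_concentrated (pullback.snd A.hom At.hom) P g hzero
  haveI : IsClosedImmersion η[At].left := AVPoinc.isClosedImmersion_unit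
  obtain ⟨a₂⟩ := nonempty_rpush_inD_affine η[At].left
    (M := Coh.structureModule (Spec (CommRingCat.of k))) QCoh.isQCoh_structureModule
  have H : IsPullback sw (pullback.fst At.hom A.hom) (pullback.snd A.hom At.hom) (𝟙 At.left) :=
    IsPullback.of_horiz_isIso ⟨by simp [sw]⟩
  obtain ⟨β⟩ := nonempty_baseChange_flat H
  obtain ⟨l⟩ := nonempty_lpull_id (𝟙 At.left) rfl
  obtain ⟨e₁⟩ := nonempty_lpull_inD sw (isFlat_of_invertible hP)
  let E : ObjectProperty.FullSubcategory (DCoh.IsQCohD (X := pullback A.hom At.hom)) :=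
    ⟨DCoh.inD _ P, isQCohD_inD (ProjUPX.isQCoh_of_isInvertible hP)⟩
  let ek := (DCoh.Rpush (pullback.fst At.hom A.hom)).mapIso e₁.symm ≪≫ (β.app E).symm ≪≫ l.app _ ≪≫ k₂ ≪≫
    (shiftFunctor (DCoh.D At.left) (-(g : ℤ))).mapIso
      ((DerivedCategory.singleFunctor At.left.Modules 0).mapIso eTop ≪≫ a₂.symm)
  obtain ⟨c⟩ := nonempty_swap_comp_of_kernel (A := At) (At := A) hP' (fun T a b => by
    have hw : ∀ f : T ⟶ At, PicF.pullCl (f ▷ A).left (PicF.cl P') =
        PicF.pullCl (lift (snd T A) (fst T A)).left (PicF.pullCl (A ◁ f).left (PicF.cl P)) := fun f => by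
      show PicF.pullCl _ (PicF.pullCl sw (PicF.cl P)) = _
      rw [PicClLib.pullCl_comp, PicClLib.pullCl_comp]
      congr 1
      refine pullback.hom_ext ?_ ?_
      · rw [Category.assoc, pullbackSymmetry_hom_comp_fst]
        show ((f ▷ A) ≫ snd At A).left = ((lift (snd T A) (fst T A) ≫ (A ◁ f)) ≫ fst A At).left
        congr 1
        simp
      · rw [Category.assoc, pullbackSymmetry_hom_comp_snd]
        show ((f ▷ A) ≫ fst At A).left = ((lift (snd T A) (fst T A) ≫ (A ◁ f)) ≫ snd A At).left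
        congr 1
        simp
    rw [hw, hw, hw, poincare_add hφ hξ, PicMul.pullCl_mul]) (g := g) ek
  obtain ⟨t⟩ := nonempty_ltensorMod_congr ((Scheme.Modules.pullbackComp (pullbackSymmetry A.hom At.hom).hom sw).app P ≪≫
    (Scheme.Modules.pullbackCongr (show (pullbackSymmetry A.hom At.hom).hom ≫ sw = 𝟙 _ by
      refine pullback.hom_ext ?_ ?_ <;> simp [sw])).app P ≪≫ (Scheme.Modules.pullbackId _).app P)
  exact ⟨Functor.isoWhiskerLeft _ (Functor.isoWhiskerLeft _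
    (Functor.isoWhiskerLeft _ (Functor.isoWhiskerRight t.symm _))) ≪≫ c⟩

end Groth.Agent.FMBase

end
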