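import Groth.Agent.FMBase.Functors
import Groth.Agent.ProjUPX.Affine
import Groth.Agent.QCoh.RpushModel
import Groth.Agent.QCoh.RpushStalk
import Groth.Agent.QCoh.LocFree
import Groth.Agent.KFlatLib.Scheme.RpushQCoh
import Groth.Agent.KFlatLib.Scheme.Flatness
import Groth.Agent.KFlatLib.Perfect.LocFree
import Groth.Agent.AmpleVan.Vanish
import Groth.Agent.AmpleVan.Uniform
import Groth.Agent.PicClLib.Basic

/-!
# Integral transforms at rational points

Restriction of an integral transform to a rational point, and dimensions of cohomology groups read off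
from higher direct images to a point.
-/

noncomputable section

set_option autoImplicit false
set_option backward.isDefEq.respectTransparency false
set_option backward.isDefEq.respectTransparency.types false
set_option linter.style.haveILetI false
set_option maxHeartbeats 1000000
set_option synthInstance.maxHeartbeats 400000

universe u

open CategoryTheory CategoryTheory.Limits AlgebraicGeometry MonoidalCategory CartesianMonoidalCategory Opposite

attribute [-instance] CategoryTheory.catToReflQuiver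

namespace Groth.Agent.FMBase

open Groth.Agent.KFlatLib Groth.Agent.DQGen Groth.Agent.RBC Groth.Agent.GBC

attribute [local instance] hasLpull hasRpush_scheme hasLTensorMod hasLTensorCx HasDerivedCategory.standard

/-- tensoring with a trivial invertible module is the identity -/
theorem nonempty_ltensorMod_trivial {X : Scheme.{u}} {M : X.Modules} (e : M ≅ Coh.structureModule X)
    [DCoh.HasLTensorMod M] : Nonempty (DCoh.LTensorMod M ≅ 𝟭 (DCoh.D X)) := by
  let t : DCoh.tensorRightMod M ≅ 𝟭 X.Modules :=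
    (Exactness.flipTensorIso M).symm ≪≫ DCoh.tensorBi.flip.mapIso e ≪≫ Exactness.flipTensorIso _ ≪≫
      tensorStructureIso X
  let e' : tensorModCx M ≅ 𝟭 (CochainComplex X.Modules ℤ) :=
    NatIso.mapHomologicalComplex t (ComplexShape.up ℤ) ≪≫
      Functor.mapHomologicalComplexIdIso X.Modules (ComplexShape.up ℤ)
  obtain ⟨μ, -⟩ := exists_iso_lift_flat (F₁ := DCoh.LTensorMod M) (F₂ := 𝟭 _) (H := DerivedCategory.Q)
    (ltensorModComparison M ≫ Functor.whiskerRight e'.hom _ ≫ (Functor.leftUnitor _).hom)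
    (Functor.rightUnitor _).hom
    (fun C hC => by
      haveI := isIso_ltensorModComparison M hC
      simp only [NatTrans.comp_app, Functor.whiskerRight_app]
      infer_instance)
    (fun C _ => inferInstance)
  exact ⟨μ⟩

variable {k : Type u} [Field k]

/-- restricting an integral transform to a rational point -/
theorem nonempty_transform_at_point (A B : Over (Spec (CommRingCat.of k))) [IsProper A.hom] [Flat A.hom]
    {P : (pullback A.hom B.hom).Modules} (hP : PicF.IsInvertible P)
    (x : 𝟙_ (Over (Spec (CommRingCat.of k))) ⟶ B)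
    [DCoh.HasLpull (pullback.fst A.hom B.hom)] [DCoh.HasLTensorMod P] [DCoh.HasRpush (pullback.snd A.hom B.hom)]
    [DCoh.HasLTensorMod ((Scheme.Modules.pullback (CartesianMonoidalCategory.lift (𝟙 A) (toUnit A ≫ x)).left).obj P)]
    [DCoh.HasRpush A.hom] [DCoh.HasLpull x.left] :
    Nonempty (ObjectProperty.ι (DCoh.IsQCohD (X := A.left)) ⋙ (DCoh.Lpull (pullback.fst A.hom B.hom) ⋙
        DCoh.LTensorMod P ⋙ DCoh.Rpush (pullback.snd A.hom B.hom)) ⋙ DCoh.Lpull x.left ≅
      ObjectProperty.ι (DCoh.IsQCohD (X := A.left)) ⋙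
        DCoh.LTensorMod ((Scheme.Modules.pullback (CartesianMonoidalCategory.lift (𝟙 A) (toUnit A ≫ x)).left).obj P) ⋙
          DCoh.Rpush A.hom) := by
  let ix : A ⟶ A ⊗ B := CartesianMonoidalCategory.lift (𝟙 A) (toUnit A ≫ x)
  let i : A.left ⟶ pullback A.hom B.hom := ix.left
  have hfst : i ≫ pullback.fst A.hom B.hom = 𝟙 A.left :=
    congrArg (fun f => f.left) (CartesianMonoidalCategory.lift_fst (𝟙 A) (toUnit A ≫ x))
  have hsnd : i ≫ pullback.snd A.hom B.hom = A.hom ≫ x.left :=
    congrArg (fun f => f.left) (CartesianMonoidalCategory.lift_snd (𝟙 A) (toUnit A ≫ x))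
  have hx : x.left ≫ B.hom = 𝟙 (Spec (CommRingCat.of k)) := Over.w x
  have outer : IsPullback (i ≫ pullback.fst A.hom B.hom) A.hom A.hom (x.left ≫ B.hom) := by
    rw [hfst]
    haveI : IsIso (x.left ≫ B.hom) := hx.symm ▸ inferInstanceAs (IsIso (𝟙 (Spec (CommRingCat.of k))))
    exact IsPullback.of_horiz_isIso ⟨by rw [hx]; exact (Category.id_comp _).trans (Category.comp_id _).symm⟩
  have H : IsPullback i A.hom (pullback.snd A.hom B.hom) x.left :=
    IsPullback.of_right outer hsnd (IsPullback.of_hasPullback A.hom B.hom)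
  haveI : DCoh.HasLpull (i ≫ pullback.fst A.hom B.hom) := hasLpull _
  haveI : DCoh.HasLpull i := hasLpull _
  haveI : DCoh.HasLTensorMod ((Scheme.Modules.pullback i).obj P) :=
    inferInstanceAs (DCoh.HasLTensorMod ((Scheme.Modules.pullback ix.left).obj P))
  obtain ⟨b⟩ := nonempty_transform_baseChange H (pullback.fst A.hom B.hom)
    (ProjUPX.isQCoh_of_isInvertible hP) (H23.Seesaw.isFlatOver_of_isInvertible _ hP)
  obtain ⟨c⟩ := nonempty_lpull_id _ hfst
  exact ⟨b ≪≫ Functor.isoWhiskerLeft _ (Functor.isoWhiskerRight c _ ≪≫ Functor.leftUnitor _)⟩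

/-- pullbacks to a point of locally free modules are free -/
theorem nonempty_pullback_point_free {X : Scheme.{u}} (x : Spec (CommRingCat.of k) ⟶ X) {n : ℕ} {M : X.Modules}
    (h : FlatMod.IsFinLocFreeOfRank n M) :
    Nonempty ((Scheme.Modules.pullback x).obj M ≅ FlatMod.freeMod (Spec (CommRingCat.of k)) n) := by
  obtain ⟨U, hU, ⟨e⟩⟩ := h (x (IsLocalRing.closedPoint k))
  have hr : Set.range x ⊆ Set.range U.ι := by
    rw [Scheme.Opens.range_ι]
    rintro _ ⟨z, rfl⟩
    rwa [show z = IsLocalRing.closedPoint k from (inferInstance : Subsingleton (PrimeSpectrum k)).elim _ _]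
  let l := IsOpenImmersion.lift U.ι x hr
  haveI := (Scheme.Modules.pullbackPushforwardAdjunction l).leftAdjoint_preservesColimits
  exact ⟨(Scheme.Modules.pullbackCongr (IsOpenImmersion.lift_fac U.ι x hr).symm).app M ≪≫
    ((Scheme.Modules.pullbackComp l U.ι).app M).symm ≪≫
    (Scheme.Modules.pullback l).mapIso ((Scheme.Modules.restrictFunctorIsoPullback U.ι).symm.app M ≪≫ e) ≪≫
    PreservesCoproduct.iso (Scheme.Modules.pullback l) _ ≪≫
    Sigma.mapIso fun _ => (PicClLib.nonempty_pullback_structureModule l).some⟩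

/-- the dimension of cohomology from a free higher direct image to the point -/
theorem finrank_HH_of_rpush (A : Over (Spec (CommRingCat.of k))) [IsProper A.hom]
    [HasInjectiveResolutions A.left.Modules] {F : A.left.Modules} (hF : Coh.IsQCoh F) (p : ℕ) {n : ℕ}
    (e : (Coh.Rpush A.hom p).obj F ≅ FlatMod.freeMod (Spec (CommRingCat.of k)) n) :
    letI : A.left.Over (Spec (CommRingCat.of k)) := ⟨A.hom⟩
    Module.finrank k (Coh.HH A.left F p) = n := by
  letI : A.left.Over (Spec (CommRingCat.of k)) := ⟨A.hom⟩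
  haveI : IsProper (A.left ↘ Spec (CommRingCat.of k)) := inferInstanceAs (IsProper A.hom)
  haveI : CompactSpace A.left := AmpleVan.compactSpace_of_proper (A := k) (X := A.left)
  haveI : A.left.IsSeparated := AmpleVan.isSeparated_of_proper (A := k) (X := A.left)
  let S := Spec (CommRingCat.of k)
  let U : A.left.Opens := A.hom ⁻¹ᵁ ⊤
  haveI : IsIso U.ι := by
    rw [show U.ι = (Scheme.topIso A.left).hom from rfl]
    infer_instance
  letI : (U : Scheme.{u}).Over (Spec (CommRingCat.of k)) := ⟨U.ι ≫ A.hom⟩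
  have hid : Spec.map (CommRingCat.ofHom (algebraMap k k)) = 𝟙 _ := by
    rw [show CommRingCat.ofHom (algebraMap k k) = 𝟙 (CommRingCat.of k) from rfl, Spec.map_id]
  have hpb : IsPullback U.ι ((U : Scheme.{u}) ↘ Spec (CommRingCat.of k)) (A.left ↘ Spec (CommRingCat.of k))
      (Spec.map (CommRingCat.ofHom (algebraMap k k))) := by
    haveI : IsIso (Spec.map (CommRingCat.ofHom (algebraMap k k))) := by rw [hid]; infer_instance
    refine IsPullback.of_horiz_isIso ⟨?_⟩
    rw [hid, Category.comp_id]
    rfl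
  obtain ⟨e1⟩ := QCoh.nonempty_HH_flat_bc (A := k) (B := k) U.ι hpb hF p
  obtain ⟨e2⟩ := QCoh.nonempty_sections_HH (f := A.hom) hF (isAffineOpen_top S) p
  obtain ⟨e3⟩ := QCoh.free_sections (U := ⊤) (M := (Coh.Rpush A.hom p).obj F) (isAffineOpen_top S) le_rfl
    ((Scheme.Modules.restrictFunctor _).mapIso e ≪≫ QCoh.freeModRestrict _ n)
  letI := QCoh.modHH (QCoh.rhoV A.hom ⊤) (F.restrict U.ι) p
  let ρ := Coh.toGlobal ((U : Scheme.{u}) ↘ Spec (CommRingCat.of k))
  let e4 := QCoh.HHcongr ρ ((Scheme.Modules.restrictFunctorIsoPullback U.ι).app F) p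
  have hρ : ∀ c : k, QCoh.rhoV A.hom ⊤ ((Scheme.ΓSpecIso (CommRingCat.of k)).inv c) = ρ c := fun c => by
    show (U.ι.appLE U ⊤ U.ι_preimage_self.ge) (A.hom.app ⊤ _) = (U.ι ≫ A.hom).appTop _
    rw [Scheme.Hom.comp_appTop, CommRingCat.comp_apply]
    show (U.ι.appLE (⊤ : A.left.Opens) ⊤ le_top) (A.hom.appTop _) = _
    rw [Scheme.Hom.appLE, CommRingCat.comp_apply]
    show ((U : Scheme.{u}).presheaf.map (𝟙 (op ⊤))) (U.ι.appTop _) = _
    rw [CategoryTheory.Functor.map_id]
    rfl
  rw [← (TensorProduct.lid k (Coh.HH A.left F p)).finrank_eq, ← e1.finrank_eq]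
  refine Module.finrank_eq_of_rank_eq ?_
  rw [rank_eq_of_equiv_equiv (fun c : k => ((Scheme.ΓSpecIso (CommRingCat.of k)).inv c : Γ(S, ⊤)))
    (e4.symm.toAddEquiv.trans e2.symm.toAddEquiv)
    ((ConcreteCategory.isIso_iff_bijective (Scheme.ΓSpecIso (CommRingCat.of k)).inv).1 inferInstance)
    (fun c m => by
      show e2.symm (e4.symm (c • m)) = _ • e2.symm (e4.symm m)
      rw [← map_smul e2.symm]
      refine congrArg e2.symm (e4.injective ?_)
      rw [e4.apply_symm_apply]
      show _ = e4 (_)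
      exact ((congrArg e4 (show ((Scheme.ΓSpecIso (CommRingCat.of k)).inv c : Γ(S, ⊤)) • e4.symm m =
        (letI := QCoh.modHH ρ (F.restrict U.ι) p; c • e4.symm m) by
          show Sheaf.H.map (Coh.smulAb _ (QCoh.rhoV A.hom ⊤ _)) p _ = Sheaf.H.map (Coh.smulAb _ (ρ c)) p _
          rw [hρ c])).trans ((map_smul e4 c _).trans (congrArg (c • ·) (e4.apply_symm_apply m)))).symm)]
  rw [e3.rank_eq, rank_finsupp_self, Cardinal.mk_fintype]
  simp

end Groth.Agent.FMBase

end
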