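import Groth.Agent.FMBase.HyperAcyclic
import Groth.Agent.FMBase.Exchange
import Groth.Agent.FMBase.TopTensor
import Groth.Agent.DQGen.RpushProperSupp
import Groth.Agent.PointOrth.Main
import Groth.Prelude.Def_DualFM

/-!
# Testing an integral transform against powers of an ample bundle
-/

noncomputable section

set_option autoImplicit false
set_option backward.isDefEq.respectTransparency false
set_option backward.isDefEq.respectTransparency.types false
set_option linter.style.haveILetI false
set_option maxHeartbeats 1000000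
set_option synthInstance.maxHeartbeats 400000

universe u

open CategoryTheory CategoryTheory.Limits AlgebraicGeometry

attribute [-instance] CategoryTheory.catToReflQuiver

namespace Groth.Agent.FMBase

open Groth.Agent.KFlatLib Groth.Agent.DQGen Groth.Agent.GBC

attribute [local instance] hasLpull hasRpush_scheme hasLTensorMod hasLTensorCx HasDerivedCategory.standard

/-- a finite locally free module in degree zero is perfect -/
theorem isPerfect_single_finLocFree {Y : Scheme.{u}} {E : Y.Modules} (hE : FlatMod.IsFinLocFree E) :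
    DCoh.IsPerfect (DCoh.toD Y ((HomologicalComplex.single Y.Modules (ComplexShape.up ℤ) 0).obj E)) :=
  PushAmp.isPerfect_of_strict
    ⟨⟨0, 0, fun i hi => HomologicalComplex.isZero_single_obj_X (ComplexShape.up ℤ) 0 _ i (by omega)⟩,
      fun i => by
        by_cases h : i = 0
        · exact H23.PullPush.isFinLocFree_of_iso
            (HomologicalComplex.singleObjXIsoOfEq (ComplexShape.up ℤ) 0 E i h).symm hE
        · exact isFinLocFree_of_isZero (HomologicalComplex.isZero_single_obj_X _ _ _ _ h)⟩

/-- derived tensor products of perfect objects are perfect -/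
theorem isPerfect_ltensorCx {Z : Scheme.{u}} (P : CochainComplex Z.Modules ℤ)
    (hP : DCoh.IsPerfect (DCoh.toD Z P)) [DCoh.HasLTensorCx P] {K : DCoh.D Z} (hK : DCoh.IsPerfect K) :
    DCoh.IsPerfect ((DCoh.LTensorCx P).obj K) := by
  obtain ⟨R, hR, ⟨eR⟩⟩ := exists_kFlat_rep (DCoh.toD Z P)
  obtain ⟨c⟩ := nonempty_LTensorCx_congr_D (P := P) (E := R) eR.symm
  exact DQGen.isPerfect_of_iso (c.app K).symm
    (KFlatLib.isPerfect_ltensor R hR (DQGen.isPerfect_of_iso eR.symm hP) hK)

/-- proper push forwards of perfect objects are coherent and bounded -/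
theorem bounded_coh_rpush_of_isPerfect {Z Y : Scheme.{u}} [IsNoetherian Y] (f : Z ⟶ Y) [IsProper f]
    [DCoh.HasRpush f] {K : DCoh.D Z} (hK : DCoh.IsPerfect K) :
    DCoh.IsCohD ((DCoh.Rpush f).obj K) ∧ ∃ a b : ℤ,
      ∀ i, i < a ∨ b < i → IsZero (DCoh.HD ((DCoh.Rpush f).obj K) i) := by
  haveI : CompactSpace Z := QuasiCompact.compactSpace_of_compactSpace f
  haveI : IsLocallyNoetherian Z := LocallyOfFiniteType.isLocallyNoetherian f
  haveI : HasInjectiveResolutions Z.Modules := hasInjectiveResolutions_modules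
  obtain ⟨lo, hi, _, _⟩ := exists_bounds_of_isPerfect hK
  have hc := PointOrth.isCohD_of_isPerfect hK
  have hgood : ∀ i, GoodPush f (DCoh.HD K i) := fun i =>
    goodPush_of_properSupport f (hc i)
      ⟨QCoh.isClosed_support_of_isFT (hc i).1 (hc i).2, inferInstance⟩
  obtain ⟨b, hb⟩ := exists_isLE_rpush f K lo hi hgood
  refine ⟨isCohD_rpush_of_isGE f K lo hgood, lo, b, fun i hi' => ?_⟩
  rcases hi' with h | h
  · exact isZero_hd_rpush_of_lt f K lo i h
  · haveI := hb
    exact DerivedCategory.isZero_of_isLE _ b i h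

variable {k : Type u} [Field k] {X Y : Scheme.{u}} (a : X ⟶ Spec (CommRingCat.of k))
  (b : Y ⟶ Spec (CommRingCat.of k)) [IsProper a] [IsProper b]

/-- for large powers of an ample `L`, all degrees at once: the transform vanishes in degree `i` iff the
hypercohomology of the exchanged transform of `L^n` does -/
theorem exists_serre_test (P : CochainComplex (pullback a b).Modules ℤ)
    (hP : DCoh.IsPerfect (DCoh.toD (pullback a b) P))
    [DCoh.HasLpull (pullback.fst a b)] [DCoh.HasLpull (pullback.snd a b)] [DCoh.HasLTensorCx P]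
    [DCoh.HasRpush (pullback.fst a b)] [DCoh.HasRpush (pullback.snd a b)] [DCoh.HasRΓ X]
    {L : Y.Modules} (hL : CohB1.IsAmple L)
    (F : CochainComplex X.Modules ℤ) (hF : DCoh.IsPerfect (DCoh.toD X F)) [DCoh.HasLTensorCx F] :
    ∃ n₀ : ℕ, ∀ n, n₀ ≤ n → ∀ i : ℤ,
      (IsZero (DCoh.HD ((FMK.phi a b P).obj (DCoh.toD X F)) i) ↔
        IsZero ((DerivedCategory.homologyFunctor AddCommGrpCat.{u} i).obj ((DCoh.RΓ X).obj
          ((DCoh.LTensorCx F).obj ((DCoh.Lpull (pullback.snd a b) ⋙ DCoh.LTensorCx P ⋙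
            DCoh.Rpush (pullback.fst a b)).obj (DCoh.inD Y (CohB1.tensorPow L n))))))) := by
  classical
  let B : Over (Spec (CommRingCat.of k)) := Over.mk b
  haveI : IsProper B.hom := inferInstanceAs (IsProper b)
  haveI : IsLocallyNoetherian Y := LocallyOfFiniteType.isLocallyNoetherian b
  haveI : CompactSpace Y := QuasiCompact.compactSpace_of_compactSpace b
  haveI : IsNoetherian Y := {}
  haveI : HasInjectiveResolutions Y.Modules := hasInjectiveResolutions_modules
  let E := (FMK.phi a b P).obj (DCoh.toD X F)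
  obtain ⟨hEc, lo, hi, hEb⟩ := bounded_coh_rpush_of_isPerfect (pullback.snd a b)
    (isPerfect_ltensorCx P hP (KFlatLib.isPerfect_lpull (pullback.fst a b) hF))
  choose N hN using fun q : ℤ => exists_serre_bound B hL (hEc q)
  refine ⟨(Finset.Icc lo hi).sup N, fun n hn i => ?_⟩
  let Ln := CohB1.tensorPow L n
  have hLn : PicF.IsInvertible Ln := InvX.isInvertible_tensorPow hL.1 n
  let sL := (HomologicalComplex.single Y.Modules (ComplexShape.up ℤ) 0).obj Ln
  have hsL := isPerfect_single_finLocFree (ParaFX.FlatDesc.isFinLocFree_of_invertible hLn)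
  haveI := hasRΓ_scheme Y
  obtain ⟨ex⟩ := nonempty_exchange (pullback.fst a b) (pullback.snd a b) P F hF sL hsL
  let eI : DCoh.inD Y Ln ≅ DCoh.toD Y sL := (DerivedCategory.singleFunctorIsoCompQ Y.Modules 0).app Ln
  obtain ⟨μ⟩ := nonempty_ltensorMod_iso_cx Ln
  let E' := (DCoh.LTensorMod Ln).obj E
  have e1 := (DerivedCategory.homologyFunctor AddCommGrpCat.{u} i).mapIso ((DCoh.RΓ X).mapIso
      ((DCoh.LTensorCx F).mapIso ((DCoh.Lpull (pullback.snd a b) ⋙ DCoh.LTensorCx P ⋙
        DCoh.Rpush (pullback.fst a b)).mapIso eI)) ≪≫ ex ≪≫ (DCoh.RΓ Y).mapIso (μ.app E).symm)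
  have key : ∀ q, CohB1.tensorMod (DCoh.HD E q) Ln ≅ DCoh.HD E' q := fun q =>
    (nonempty_hd_ltensorMod_twist hLn E q).some.symm
  have hq' : DCoh.IsQCohD E' := isQCohD_ltensorMod (ProjUPX.isQCoh_of_isInvertible hLn) (fun q => (hEc q).1)
  have hac : ∀ (q : ℤ) (m : ℕ), 0 < m → Subsingleton (Coh.HH Y (DCoh.HD E' q) m) := fun q m hm => by
    refine QCoh.subsingleton_HH_of_iso (key q) m ?_
    by_cases hq : q ∈ Finset.Icc lo hi
    · exact (hN q n ((Finset.le_sup hq).trans hn)).1 m hm
    · rw [Finset.mem_Icc, not_and_or, not_le, not_le] at hq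
      exact Euler.subsingleton_HH_of_isZero ((AmpleVan.tw Ln).map_isZero (hEb q hq)) m
  obtain ⟨r⟩ := nonempty_hd_rpush_of_acyclic B E' hq' hac i
  constructor
  · intro h
    refine IsZero.of_iso ?_ e1
    refine (isZero_hypercohomology_iff b E' i).2 (IsZero.of_iso ?_ r)
    haveI : (Coh.Rpush b 0).Additive := by delta Coh.Rpush; infer_instance
    exact (Coh.Rpush b 0).map_isZero (((AmpleVan.tw Ln).map_isZero h).of_iso (key i).symm)
  · intro h
    by_cases hq : i ∈ Finset.Icc lo hi
    · refine (hN i n ((Finset.le_sup hq).trans hn)).2 ?_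
      exact (((isZero_hypercohomology_iff b E' i).1 (h.of_iso e1.symm)).of_iso r.symm).of_iso
        ((Coh.Rpush b 0).mapIso (key i))
    · rw [Finset.mem_Icc, not_and_or, not_le, not_le] at hq
      exact hEb i hq

end Groth.Agent.FMBase

end
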