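import Groth.Agent.FMBase.TensorSupport
import Groth.Agent.FMBase.Inversion
import Groth.Agent.FMBase.SerreTest
import Groth.Agent.FMBase.Point
import Groth.Agent.FMBase.Equivalence
import Groth.Agent.FMBase.Translate
import Groth.Agent.PushAmp.LpullTriangle
import Groth.Agent.QCoh.AnnIdeal
import Groth.Agent.GrpSchLib.SmoothRegular
import Groth.Agent.S1005

/-!
# IT(0) sheaves and GV objects
-/

set_option autoImplicit false
set_option backward.isDefEq.respectTransparency false
set_option backward.isDefEq.respectTransparency.types false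
set_option maxHeartbeats 1000000
set_option synthInstance.maxHeartbeats 400000
set_option linter.style.haveILetI false
universe u

noncomputable section

open CategoryTheory CategoryTheory.Limits MonoidalCategory CartesianMonoidalCategory MonObj AlgebraicGeometry TopologicalSpace

attribute [-instance] CategoryTheory.catToReflQuiver

namespace Groth.Agent.FMBase

open Groth.Agent.H23 Groth.Agent.H23.TrivBasic Groth.Agent.H23.CubeAb Groth.Agent.AbDualBase
open Groth.Agent.KFlatLib Groth.Agent.DQGen Groth.Agent.RBC Groth.Agent.GBC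
open scoped Groth.Agent.H23.PicMul CategoryTheory.Obj

attribute [local instance] hasLpull hasRpush_scheme hasLTensorMod hasLTensorCx HasDerivedCategory.standard

variable {k : Type u} [Field k]

/-- a rational point at a closed point -/
theorem exists_rational_point [IsAlgClosed k] (W : Over (Spec (CommRingCat.of k))) [LocallyOfFiniteType W.hom]
    {y : W.left} (hy : IsClosed ({y} : Set W.left)) :
    ∃ β : 𝟙_ (Over (Spec (CommRingCat.of k))) ⟶ W,
      ∀ p : ↥(𝟙_ (Over (Spec (CommRingCat.of k)))).left, β.left p = y := by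
  let s := (pointEquivClosedPoint W.hom).symm ⟨y, hy⟩
  refine ⟨Over.homMk s.1 s.2, fun p => ?_⟩
  rw [show p = IsLocalRing.closedPoint k from (inferInstance : Subsingleton (PrimeSpectrum k)).elim _ _]
  exact congrArg Subtype.val ((pointEquivClosedPoint W.hom).apply_symm_apply ⟨y, hy⟩)

section Transform

variable {A At : Over (Spec (CommRingCat.of k))} [IsProper A.hom] [Flat A.hom] [IsProper At.hom]
  {P : (pullback A.hom At.hom).Modules} (hP : PicF.IsInvertible P)
  [DCoh.HasLpull (pullback.fst A.hom At.hom)] [DCoh.HasLTensorMod P] [DCoh.HasRpush (pullback.snd A.hom At.hom)]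
include hP

omit [Flat A.hom] in
/-- transforms of perfect objects are bounded with coherent cohomology -/
theorem bounded_coh_transform {K : DCoh.D A.left} (hK : DCoh.IsPerfect K) :
    DCoh.IsCohD ((DCoh.Lpull (pullback.fst A.hom At.hom) ⋙ DCoh.LTensorMod P ⋙
        DCoh.Rpush (pullback.snd A.hom At.hom)).obj K) ∧ ∃ lo hi : ℤ,
      ∀ i, i < lo ∨ hi < i → IsZero (DCoh.HD ((DCoh.Lpull (pullback.fst A.hom At.hom) ⋙ DCoh.LTensorMod P ⋙
        DCoh.Rpush (pullback.snd A.hom At.hom)).obj K) i) := by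
  haveI : IsLocallyNoetherian At.left := LocallyOfFiniteType.isLocallyNoetherian At.hom
  haveI : CompactSpace At.left := QuasiCompact.compactSpace_of_compactSpace At.hom
  haveI : IsNoetherian At.left := {}
  obtain ⟨mu⟩ := nonempty_ltensorMod_iso_cx P
  exact bounded_coh_rpush_of_isPerfect (pullback.snd A.hom At.hom)
    (DQGen.isPerfect_of_iso (mu.app _).symm
      (isPerfect_ltensorCx _ (isPerfect_single_finLocFree (ParaFX.FlatDesc.isFinLocFree_of_invertible hP))
        (KFlatLib.isPerfect_lpull (pullback.fst A.hom At.hom) hK)))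

omit [IsProper At.hom] in
/-- the top cohomology of a transform is detected at rational points -/
theorem not_isZero_at_point (K : DCoh.D A.left) (hK : DCoh.IsQCohD K)
    (hc : DCoh.IsCohD ((DCoh.Lpull (pullback.fst A.hom At.hom) ⋙ DCoh.LTensorMod P ⋙
      DCoh.Rpush (pullback.snd A.hom At.hom)).obj K))
    (j : ℤ) (W : At.left.Opens) (β : 𝟙_ (Over (Spec (CommRingCat.of k))) ⟶ At)
    (hβ : β.left (IsLocalRing.closedPoint k) ∈ W)
    (hy : β.left (IsLocalRing.closedPoint k) ∈ CohB1.support (DCoh.HD ((DCoh.Lpull (pullback.fst A.hom At.hom) ⋙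
      DCoh.LTensorMod P ⋙ DCoh.Rpush (pullback.snd A.hom At.hom)).obj K) j))
    (hW : ∀ p, j < p → CohB1.support (DCoh.HD ((DCoh.Lpull (pullback.fst A.hom At.hom) ⋙
      DCoh.LTensorMod P ⋙ DCoh.Rpush (pullback.snd A.hom At.hom)).obj K) p) ⊆ (W : Set At.left)ᶜ) :
    ¬ IsZero (DCoh.HD ((DCoh.Rpush A.hom).obj ((DCoh.LTensorMod ((Scheme.Modules.pullback
      (CartesianMonoidalCategory.lift (𝟙 A) (toUnit A ≫ β)).left).obj P)).obj K)) j) := by
  intro hz
  let x : Spec (CommRingCat.of k) ⟶ At.left := β.left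
  haveI : DCoh.HasLpull x := KFlatLib.hasLpull x
  obtain ⟨t⟩ := nonempty_transform_at_point A At hP β
  let M := (DCoh.Lpull (pullback.fst A.hom At.hom) ⋙ DCoh.LTensorMod P ⋙
      DCoh.Rpush (pullback.snd A.hom At.hom)).obj K
  have hz' : IsZero (DCoh.HD ((DCoh.Lpull x).obj M) j) :=
    hz.of_iso ((DerivedCategory.homologyFunctor _ j).mapIso (t.app ⟨K, hK⟩))
  have hr : Set.range x ⊆ Set.range W.ι := by
    rw [Scheme.Opens.range_ι]
    rintro _ ⟨p, rfl⟩
    rwa [show p = IsLocalRing.closedPoint k from (inferInstance : Subsingleton (PrimeSpectrum k)).elim _ _]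
  let l := IsOpenImmersion.lift W.ι x hr
  have hl : l ≫ W.ι = x := IsOpenImmersion.lift_fac W.ι x hr
  haveI : DCoh.HasLpull (l ≫ W.ι) := KFlatLib.hasLpull _
  obtain ⟨c⟩ := KFlatLib.nonempty_lpull_comp l W.ι
  obtain ⟨cg⟩ := nonempty_lpull_congr hl
  let r := PushAmp.rhoLpull W.ι M
  haveI : ((rho W.ι).obj M).IsLE j := (DerivedCategory.isLE_iff _ _).2 fun p hp =>
    (isZero_of_stalk _ fun w => by
      have hw : Subsingleton ((DerSch.stalkFunctor At.left (W.ι w)).obj (DCoh.HD M p)) := by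
        by_contra hne
        exact hW p hp hne w.2
      exact (KFlatLib.isZero_stalk_pullback W.ι w (@ModuleCat.isZero_of_subsingleton _ _ _ hw)).of_iso
        ((DerSch.stalkFunctor _ w).mapIso ((Scheme.Modules.restrictFunctorIsoPullback W.ι).app (DCoh.HD M p)))).of_iso
      (hdRhoIso W.ι M p)
  obtain ⟨e⟩ := PushAmp.nonempty_hd_lpull_top l ((rho W.ι).obj M) j
  let e' : DCoh.HD ((DCoh.Lpull x).obj M) j ≅ (Scheme.Modules.pullback x).obj (DCoh.HD M j) :=
    (DerivedCategory.homologyFunctor _ j).mapIso ((cg.app M).symm ≪≫ (c.app M).symm ≪≫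
      (DCoh.Lpull l).mapIso r.symm) ≪≫ e ≪≫
    (Scheme.Modules.pullback l).mapIso (hdRhoIso W.ι M j ≪≫
      (Scheme.Modules.restrictFunctorIsoPullback W.ι).app _) ≪≫
    (Scheme.Modules.pullbackComp l W.ι).app _ ≪≫ (Scheme.Modules.pullbackCongr hl).app _
  have hz'' : IsZero ((Scheme.Modules.pullback x).obj (DCoh.HD M j)) := hz'.of_iso e'.symm
  have hmem : IsLocalRing.closedPoint k ∈ CohB1.support ((Scheme.Modules.pullback x).obj (DCoh.HD M j)) := by
    rw [QCoh.support_pullback x (hc j).1 (hc j).2]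
    exact hy
  exact (Snapper.notMem_support_iff.2 ((DerSch.stalkFunctor _ _).map_isZero hz'')) hmem

/-- the supports of the cohomology of a transform are controlled by the cohomology at rational points -/
theorem support_subset_of_points [IsAlgClosed k] (K : DCoh.D A.left) (hK : DCoh.IsQCohD K)
    (hc : DCoh.IsCohD ((DCoh.Lpull (pullback.fst A.hom At.hom) ⋙ DCoh.LTensorMod P ⋙
      DCoh.Rpush (pullback.snd A.hom At.hom)).obj K)) (b : ℤ)
    (hb : ∀ p, b < p → IsZero (DCoh.HD ((DCoh.Lpull (pullback.fst A.hom At.hom) ⋙ DCoh.LTensorMod P ⋙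
      DCoh.Rpush (pullback.snd A.hom At.hom)).obj K) p))
    (V : ℤ → Closeds At.left)
    (hV : ∀ (β : 𝟙_ (Over (Spec (CommRingCat.of k))) ⟶ At) (p : ℤ),
      ¬ IsZero (DCoh.HD ((DCoh.Rpush A.hom).obj ((DCoh.LTensorMod ((Scheme.Modules.pullback
        (CartesianMonoidalCategory.lift (𝟙 A) (toUnit A ≫ β)).left).obj P)).obj K)) p) →
      β.left (IsLocalRing.closedPoint k) ∈ V p)
    (j : ℤ) : CohB1.support (DCoh.HD ((DCoh.Lpull (pullback.fst A.hom At.hom) ⋙ DCoh.LTensorMod P ⋙
      DCoh.Rpush (pullback.snd A.hom At.hom)).obj K) j) ⊆ ⋃ p ∈ Set.Icc j b, (V p : Set At.left) := by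
  classical
  haveI : JacobsonSpace At.left := LocallyOfFiniteType.jacobsonSpace At.hom
  let M := (DCoh.Lpull (pullback.fst A.hom At.hom) ⋙ DCoh.LTensorMod P ⋙
      DCoh.Rpush (pullback.snd A.hom At.hom)).obj K
  let S : ℤ → Set At.left := fun p => CohB1.support (DCoh.HD M p)
  have hS : ∀ p, IsClosed (S p) := fun p => QCoh.isClosed_support_of_isFT (hc p).1 (hc p).2
  have hSb : ∀ p, b < p → S p = ∅ := fun p hp => Set.eq_empty_of_forall_notMem fun z =>
    Snapper.notMem_support_iff.2 ((DerSch.stalkFunctor _ z).map_isZero (hb p hp))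
  suffices H : ∀ (n : ℕ) (i : ℤ), b < i + n → S i ⊆ ⋃ p ∈ Set.Icc i b, (V p : Set At.left) from
    H (b + 1 - j).toNat j (by omega)
  intro n
  induction n with
  | zero => exact fun i hi => by rw [hSb i (by omega)]; exact Set.empty_subset _
  | succ n ih =>
    intro i hi
    by_cases hib : b < i
    · rw [hSb i hib]; exact Set.empty_subset _
    let T : Set At.left := ⋃ p ∈ Set.Icc i b, (V p : Set At.left)
    have hT : IsClosed T := (Set.finite_Icc i b).isClosed_biUnion fun p _ => (V p).isClosed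
    have hsub : S i ∩ closedPoints At.left ⊆ T := by
      rintro y ⟨hy, hyc⟩
      by_contra hyT
      obtain ⟨β, hβ⟩ := exists_rational_point At (y := y) hyc
      have hnot : ∀ p, i < p → y ∉ S p := fun p hp hyp => hyT (by
        have h := ih p (by omega) hyp
        simp only [Set.mem_iUnion, Set.mem_Icc] at h
        obtain ⟨q, ⟨hq1, hq2⟩, hq⟩ := h
        exact Set.mem_iUnion₂.2 ⟨q, ⟨by omega, hq2⟩, hq⟩)
      let W : At.left.Opens := ⟨(⋃ p ∈ Set.Icc (i + 1) b, S p)ᶜ,
        ((Set.finite_Icc (i + 1) b).isClosed_biUnion fun p _ => hS p).isOpen_compl⟩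
      have hyW : y ∈ W := fun h => by
        simp only [Set.mem_iUnion, Set.mem_Icc] at h
        obtain ⟨p, ⟨hp, -⟩, hyp⟩ := h
        exact hnot p (by omega) hyp
      refine hyT (Set.mem_iUnion₂.2 ⟨i, ⟨le_rfl, by omega⟩, ?_⟩)
      rw [← hβ (IsLocalRing.closedPoint k)]
      refine hV β i (not_isZero_at_point hP K hK hc i W β (by rw [hβ]; exact hyW) (by rw [hβ]; exact hy)
        fun p hp z hz hzW => ?_)
      by_cases hpb : p ≤ b
      · exact hzW (Set.mem_iUnion₂.2 ⟨p, ⟨by omega, hpb⟩, hz⟩)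
      · exact (Set.eq_empty_iff_forall_notMem.1 (hSb p (by omega)) z) hz
    calc S i = closure (S i ∩ closedPoints At.left) := (closure_inter_closedPoints (hS i)).symm
      _ ⊆ T := closure_minimal hsub hT

end Transform

/-- idempotent invertible classes are trivial -/
theorem eq_one_of_mul_self {X : Scheme.{u}} {c : PicF.Cl X} (hc : PicF.IsInvertibleCl c) (h : c * c = c) :
    c = 1 := by
  obtain ⟨L, rfl, hL⟩ := hc
  obtain ⟨D, -, he⟩ := PicInv.exists_inverse hL
  have hD : PicF.cl L * PicF.cl D = 1 := (PicGrp.cl_eq_cl_iff _ _).2 he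
  calc PicF.cl L = PicF.cl L * (PicF.cl L * PicF.cl D) := by rw [hD, _root_.mul_one]
    _ = PicF.cl L * PicF.cl D := by rw [← _root_.mul_assoc, h]
    _ = 1 := hD

section AbelianVariety

variable {A At : Over (Spec (CommRingCat.of k))}
  [GrpObj A] [IsProper A.hom] [Smooth A.hom] [GeometricallyConnected A.hom]
  [GrpObj At] [IsProper At.hom] [Smooth At.hom] [GeometricallyConnected At.hom]
  {φ : ∀ T : Over (Spec (CommRingCat.of k)), PicF.Cl (PicF.XT A.hom T) → (T ⟶ At)}
  (hφ : AbDual.IsDualAV Scheme.fppfPrecoverage A At φ) {P : (pullback A.hom At.hom).Modules}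
  (hP : PicF.IsInvertible P) (hξ : AbDual.IsPoincareCl A At φ (PicF.cl P))
include hφ hP hξ

omit hP in
/-- the restriction of the Poincaré module to `A` is additive in the point -/
theorem nonempty_slice_mul (α β : 𝟙_ (Over (Spec (CommRingCat.of k))) ⟶ At) :
    Nonempty (CohB1.tensorMod
      ((Scheme.Modules.pullback (CartesianMonoidalCategory.lift (𝟙 A) (toUnit A ≫ α)).left).obj P)
      ((Scheme.Modules.pullback (CartesianMonoidalCategory.lift (𝟙 A) (toUnit A ≫ β)).left).obj P) ≅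
      (Scheme.Modules.pullback (CartesianMonoidalCategory.lift (𝟙 A) (toUnit A ≫ (α * β))).left).obj P) := by
  let j : A ⟶ A ⊗ 𝟙_ (Over (Spec (CommRingCat.of k))) := lift (𝟙 A) (toUnit A)
  have hs : ∀ g : 𝟙_ (Over (Spec (CommRingCat.of k))) ⟶ At,
      PicF.pullCl (lift (𝟙 A) (toUnit A ≫ g)).left (PicF.cl P) =
        PicF.pullCl j.left (PicF.pullCl (A ◁ g).left (PicF.cl P)) := fun g => by
    rw [PicClLib.pullCl_comp]
    congr 1
    show _ = (j ≫ A ◁ g).left
    congr 1
    ext <;> simp [j]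
  refine (PicGrp.cl_eq_cl_iff _ _).1 ?_
  show PicF.pullCl (lift (𝟙 A) (toUnit A ≫ α)).left (PicF.cl P) *
      PicF.pullCl (lift (𝟙 A) (toUnit A ≫ β)).left (PicF.cl P) =
      PicF.pullCl (lift (𝟙 A) (toUnit A ≫ (α * β))).left (PicF.cl P)
  rw [hs, hs, hs, poincare_add hφ hξ, PicMul.pullCl_mul]

/-- the inversion of `A` inverts the point -/
theorem nonempty_slice_inv (β : 𝟙_ (Over (Spec (CommRingCat.of k))) ⟶ At) :
    Nonempty ((Scheme.Modules.pullback ((𝟙 A)⁻¹).left).obj
        ((Scheme.Modules.pullback (CartesianMonoidalCategory.lift (𝟙 A) (toUnit A ≫ β)).left).obj P) ≅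
      (Scheme.Modules.pullback (CartesianMonoidalCategory.lift (𝟙 A) (toUnit A ≫ β⁻¹)).left).obj P) := by
  let c := PicF.pullCl (lift (𝟙 A) (toUnit A ≫ β)).left (PicF.cl P)
  let c₁ := PicF.pullCl ((𝟙 A)⁻¹).left c
  let c₂ := PicF.pullCl (lift (𝟙 A) (toUnit A ≫ β⁻¹)).left (PicF.cl P)
  have hinv : ∀ {Z : Scheme.{u}} (f : Z ⟶ (A ⊗ At).left), PicF.IsInvertibleCl (PicF.pullCl f (PicF.cl P)) :=
    fun f => PicClLib.isInvertibleCl_pullCl f ⟨P, rfl, hP⟩
  have h2 : c₂ * c = 1 := by
    obtain ⟨e⟩ := nonempty_slice_mul hφ hξ β⁻¹ β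
    obtain ⟨e'⟩ := nonempty_slice_mul hφ hξ (1 : 𝟙_ (Over (Spec (CommRingCat.of k))) ⟶ At) 1
    rw [inv_mul_cancel] at e
    rw [_root_.one_mul] at e'
    refine ((PicGrp.cl_eq_cl_iff _ _).2 ⟨e⟩).trans ?_
    exact eq_one_of_mul_self (hinv _) ((PicGrp.cl_eq_cl_iff _ _).2 ⟨e'⟩)
  have h1 : c₁ * c = 1 := by
    let j : A ⟶ A ⊗ At := lift (𝟙 A) (toUnit A ≫ β)
    have hc : ∀ f : A ⟶ A, PicF.pullCl f.left c = PicF.pullCl j.left (PicF.pullCl (f ▷ At).left (PicF.cl P)) := fun f => by
      show PicF.pullCl f.left (PicF.pullCl j.left (PicF.cl P)) = _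
      rw [PicClLib.pullCl_comp, PicClLib.pullCl_comp]
      congr 1
      show (f ≫ j).left = (j ≫ f ▷ At).left
      congr 1
      ext <;> simp [j]
    have hid : PicF.pullCl (𝟙 A : A ⟶ A).left c = c := PicClLib.pullCl_id c
    calc c₁ * c = c₁ * PicF.pullCl (𝟙 A : A ⟶ A).left c := by rw [hid]
      _ = PicF.pullCl j.left (PicF.pullCl ((1 : A ⟶ A) ▷ At).left (PicF.cl P)) := by
        show PicF.pullCl ((𝟙 A)⁻¹).left c * _ = _
        rw [hc, hc, ← PicMul.pullCl_mul, ← poincare_add' hφ hξ, inv_mul_cancel]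
      _ = PicF.pullCl j.left 1 := by
        congr 1
        refine eq_one_of_mul_self (hinv _) ?_
        have h11 := poincare_add' hφ hξ (1 : A ⟶ A) 1
        rw [_root_.mul_one] at h11
        exact h11.symm
      _ = 1 := pullCl_one' _
  refine (PicGrp.cl_eq_cl_iff _ _).1 ?_
  show c₁ = c₂
  calc c₁ = c₁ * (c₂ * c) := by rw [h2, _root_.mul_one]
    _ = c₂ * (c₁ * c) := mul_left_comm _ _ _
    _ = c₂ := by rw [h1, _root_.mul_one]

variable [IsAlgClosed k]

/-- the main vanishing: the tensor product of a GV object and an IT(0) sheaf is IT(0) -/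
theorem isZero_hd_rpush_tensor_of_support {g : ℕ} (hg : topologicalKrullDim A.left = g)
    [DCoh.HasLpull (pullback.fst A.hom At.hom)] [DCoh.HasLTensorMod P] [DCoh.HasRpush (pullback.snd A.hom At.hom)]
    {H : A.left.Modules} (hH : Coh.IsCoh H)
    (hH0 : ∀ (β : 𝟙_ (Over (Spec (CommRingCat.of k))) ⟶ At) (i : ℕ), 1 ≤ i → Subsingleton (Coh.HH A.left
      (CohB1.tensorMod H ((Scheme.Modules.pullback (CartesianMonoidalCategory.lift (𝟙 A) (toUnit A ≫ β)).left).obj P)) i))
    (F : DCoh.D A.left) (hF : DCoh.IsPerfect F)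
    (hsupp : ∀ (q : ℕ), ∀ y ∈ CohB1.support (DCoh.HD ((DCoh.Lpull (pullback.fst A.hom At.hom) ⋙ DCoh.LTensorMod P ⋙
        DCoh.Rpush (pullback.snd A.hom At.hom)).obj F) (q : ℤ)),
      topologicalKrullDim ↥(closure ({y} : Set At.left)) + (q : WithBot ℕ∞) ≤ (g : WithBot ℕ∞))
    (i : ℕ) (hi : 1 ≤ i) :
    IsZero (DCoh.HD ((DCoh.Rpush A.hom).obj ((DCoh.LTensorMod H).obj F)) (i : ℤ)) := by
  haveI : IsLocallyNoetherian A.left := LocallyOfFiniteType.isLocallyNoetherian A.hom
  haveI : IsLocallyNoetherian At.left := LocallyOfFiniteType.isLocallyNoetherian At.hom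
  haveI : CompactSpace A.left := QuasiCompact.compactSpace_of_compactSpace A.hom
  haveI : CompactSpace At.left := QuasiCompact.compactSpace_of_compactSpace At.hom
  haveI : IsNoetherian A.left := {}
  haveI : IsNoetherian At.left := {}
  haveI : HasInjectiveResolutions A.left.Modules := KFlatLib.hasInjectiveResolutions_modules
  haveI : HasInjectiveResolutions At.left.Modules := KFlatLib.hasInjectiveResolutions_modules
  have hreg : ∀ x : A.left, IsRegularLocalRing (A.left.presheaf.stalk x) :=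
    GrpSchLib.isRegularLocalRing_stalk_of_smooth A.hom
  let Φ := DCoh.Lpull (pullback.fst A.hom At.hom) ⋙ DCoh.LTensorMod P ⋙ DCoh.Rpush (pullback.snd A.hom At.hom)
  let iA := ((𝟙 A)⁻¹).left
  have hia : iA ≫ A.hom = A.hom := Over.w (𝟙 A)⁻¹
  -- the object whose transform is locally free
  let S := DCoh.inD A.left H
  have hS0 : ∀ q : ℤ, q ≠ 0 → IsZero (DCoh.HD S q) := fun q hq => by
    rcases lt_or_gt_of_ne hq with h | h
    · exact DerivedCategory.isZero_of_isGE _ 0 q h
    · exact DerivedCategory.isZero_of_isLE _ 0 q h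
  let eS : DCoh.HD S 0 ≅ H := (DerivedCategory.singleFunctorCompHomologyFunctorIso A.left.Modules 0).app H
  have hSq : DCoh.IsQCohD S := isQCohD_inD hH.1
  have hSc : DCoh.IsCohD S := fun q => by
    by_cases hq : q = 0
    · subst hq
      exact KFlatLib.isCoh_of_iso eS.symm hH
    · exact KFlatLib.isCoh_of_isZero (hS0 q hq)
  have hSp : DCoh.IsPerfect S := S1005.result A.left hreg S 0 0 hSc
  let K := (DCoh.Lpull iA).obj S
  have hKq : DCoh.IsQCohD K := KFlatLib.isQCohD_lpull iA hSq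
  obtain ⟨hKc, lo, hi', hKb⟩ := bounded_coh_transform hP (KFlatLib.isPerfect_lpull iA hSp)
  have hvan : ∀ (β : 𝟙_ (Over (Spec (CommRingCat.of k))) ⟶ At) (p : ℤ), 0 < p →
      IsZero (DCoh.HD ((DCoh.Rpush A.hom).obj ((DCoh.LTensorMod ((Scheme.Modules.pullback
        (CartesianMonoidalCategory.lift (𝟙 A) (toUnit A ≫ β)).left).obj P)).obj K)) p) := fun β p hp => by
    let Pb := (Scheme.Modules.pullback (CartesianMonoidalCategory.lift (𝟙 A) (toUnit A ≫ β)).left).obj P
    let G := (Scheme.Modules.pullback iA).obj Pb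
    have hG : PicF.IsInvertible G := PicClLib.isInvertible_pullback _ (PicClLib.isInvertible_pullback _ hP)
    obtain ⟨c⟩ := nonempty_ltensorMod_lpull iA (isFlat_of_invertible hG)
    obtain ⟨cg⟩ := nonempty_ltensorMod_congr ((Scheme.Modules.pullbackComp iA iA).app Pb ≪≫
      (Scheme.Modules.pullbackCongr (inv_left_involution A)).app Pb ≪≫ (Scheme.Modules.pullbackId _).app Pb)
    obtain ⟨rv⟩ := nonempty_rpush_involution iA (inv_left_involution A)
    obtain ⟨rc⟩ := nonempty_rpush_comp iA A.hom hia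
    refine IsZero.of_iso ?_ ((DerivedCategory.homologyFunctor _ p).mapIso
      ((DCoh.Rpush A.hom).mapIso ((cg.app K).symm ≪≫ (c.app S).symm ≪≫ (rv.app _).symm) ≪≫ rc.app _))
    refine isZero_hd_rpush_of_forall A _ (isQCohD_ltensorMod (ProjUPX.isQCoh_of_isInvertible hG) hSq) 0
      (isLE_ltensorMod S 0 G) p fun q hq hqp => ?_
    obtain ⟨tw⟩ := nonempty_hd_ltensorMod_twist hG S q
    by_cases hq0 : q = 0
    · subst hq0
      obtain ⟨si⟩ := nonempty_slice_inv hφ hP hξ β
      refine QCoh.subsingleton_HH_of_iso (tw ≪≫ (DCoh.tensorRightMod G).mapIso eS ≪≫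
        ((Exactness.flipTensorIso G).app H).symm ≪≫ (DCoh.tensorBi.obj H).mapIso si ≪≫
        (Exactness.flipTensorIso _).app H).symm _ (hH0 β⁻¹ _ ?_)
      omega
    · exact Euler.subsingleton_HH_of_isZero (((AmpleVan.tw G).map_isZero (hS0 q hq0)).of_iso tw) _
  let V : ℤ → TopologicalSpace.Closeds At.left := fun p => if 0 < p then ⊥ else ⊤
  have hN0 : (Φ.obj K).IsLE 0 := (DerivedCategory.isLE_iff _ _).2 fun p hp =>
    KFlatLib.isZero_of_stalk _ fun y => Snapper.notMem_support_iff.1 fun hy => by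
      have h := support_subset_of_points hP K hKq hKc hi' (fun q hq => hKb q (Or.inr hq)) V (fun β q hq => by
        by_cases h0 : 0 < q
        · exact absurd (hvan β q h0) hq
        · simp only [V, if_neg h0]; trivial) p hy
      simp only [Set.mem_iUnion, Set.mem_Icc] at h
      obtain ⟨q, ⟨hq, -⟩, hyq⟩ := h
      simp only [V, if_pos (show 0 < q by omega)] at hyq
      exact hyq
  -- complexes
  let E := repK F
  let eE : DCoh.toD A.left E ≅ F := repKIso F
  let N := repK (Φ.obj K)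
  let eN : DCoh.toD At.left N ≅ Φ.obj K := repKIso (Φ.obj K)
  haveI : (DCoh.toD At.left N).IsLE 0 :=
    haveI := hN0
    DerivedCategory.TStructure.t.isLE_of_iso eN.symm 0
  have hNp : DCoh.IsPerfect (DCoh.toD At.left N) :=
    haveI : (Φ.obj K).IsGE lo := (DerivedCategory.isGE_iff _ _).2 fun q hq => hKb q (Or.inl hq)
    haveI := hN0
    DQGen.isPerfect_of_iso eN.symm (S1005.result At.left
      (GrpSchLib.isRegularLocalRing_stalk_of_smooth At.hom) (Φ.obj K) lo 0 hKc)
  have hEp : DCoh.IsPerfect (DCoh.toD A.left E) := DQGen.isPerfect_of_iso eE.symm hF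
  let sP := (HomologicalComplex.single (pullback A.hom At.hom).Modules (ComplexShape.up ℤ) 0).obj P
  obtain ⟨mu⟩ := nonempty_ltensorMod_iso_cx P
  haveI := hasRΓ_scheme A.left
  haveI := hasRΓ_scheme At.left
  obtain ⟨ex⟩ := nonempty_exchange (pullback.fst A.hom At.hom) (pullback.snd A.hom At.hom) sP E hEp N hNp
  -- the inverse transform of `N`
  let sw := (pullbackSymmetry At.hom A.hom).hom
  have Hsw : IsPullback sw (pullback.snd At.hom A.hom) (pullback.fst A.hom At.hom) (𝟙 A.left) :=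
    IsPullback.of_horiz_isIso ⟨by simp [sw]⟩
  obtain ⟨sc⟩ := nonempty_swap_comp hφ hP hξ hg
  haveI : DCoh.HasLpull (sw ≫ pullback.snd A.hom At.hom) := KFlatLib.hasLpull _
  obtain ⟨l1⟩ := KFlatLib.nonempty_lpull_comp sw (pullback.snd A.hom At.hom)
  obtain ⟨l1'⟩ := nonempty_lpull_congr (show sw ≫ pullback.snd A.hom At.hom = pullback.fst At.hom A.hom from
    pullbackSymmetry_hom_comp_snd _ _)
  obtain ⟨l2⟩ := nonempty_ltensorMod_lpull sw (isFlat_of_invertible hP)
  let Z := (DCoh.LTensorCx sP).obj ((DCoh.Lpull (pullback.snd A.hom At.hom)).obj (DCoh.toD At.left N))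
  let eZ : Z ≅ (DCoh.LTensorMod P).obj ((DCoh.Lpull (pullback.snd A.hom At.hom)).obj (Φ.obj K)) :=
    (DCoh.LTensorCx sP).mapIso ((DCoh.Lpull (pullback.snd A.hom At.hom)).mapIso eN) ≪≫ (mu.app _).symm
  have hZq : DCoh.IsQCohD Z := KFlatLib.isQCohD_of_iso eZ.symm (isQCohD_ltensorMod
    (ProjUPX.isQCoh_of_isInvertible hP) (KFlatLib.isQCohD_lpull _ (fun q => (hKc q).1)))
  obtain ⟨bc⟩ := nonempty_baseChange_flat Hsw
  obtain ⟨lid⟩ := nonempty_lpull_id (𝟙 A.left) rfl
  obtain ⟨cc⟩ := KFlatLib.nonempty_lpull_comp iA iA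
  haveI : DCoh.HasLpull (iA ≫ iA) := KFlatLib.hasLpull _
  obtain ⟨cd⟩ := nonempty_lpull_id (iA ≫ iA) (inv_left_involution A)
  let eX : (DCoh.Rpush (pullback.fst A.hom At.hom)).obj Z ≅ S⟦-(g : ℤ)⟧ :=
    (lid.app _).symm ≪≫ bc.app ⟨Z, hZq⟩ ≪≫
      (DCoh.Rpush (pullback.snd At.hom A.hom)).mapIso ((DCoh.Lpull sw).mapIso eZ ≪≫ l2.app _ ≪≫
        (DCoh.LTensorMod _).mapIso (l1.app _ ≪≫ l1'.app _)) ≪≫
      sc.app ⟨K, hKq⟩ ≪≫ (shiftFunctor (DCoh.D A.left) (-(g : ℤ))).mapIso (cc.app S ≪≫ cd.app S)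
  -- compare both sides
  let sH := (HomologicalComplex.single A.left.Modules (ComplexShape.up ℤ) 0).obj H
  let eH : S ≅ DCoh.toD A.left sH := (DerivedCategory.singleFunctorIsoCompQ A.left.Modules 0).app H
  obtain ⟨muH⟩ := nonempty_ltensorMod_iso_cx H
  obtain ⟨swp⟩ := nonempty_ltensorCx_swap sH E
  obtain ⟨shf⟩ := nonempty_ltensorCx_shift E sH (-(g : ℤ))
  let eL : (DCoh.LTensorCx E).obj ((DCoh.Lpull (pullback.snd A.hom At.hom) ⋙ DCoh.LTensorCx sP ⋙
      DCoh.Rpush (pullback.fst A.hom At.hom)).obj (DCoh.toD At.left N)) ≅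
      ((DCoh.LTensorMod H).obj F)⟦-(g : ℤ)⟧ :=
    (DCoh.LTensorCx E).mapIso (eX ≪≫ (shiftFunctor (DCoh.D A.left) (-(g : ℤ))).mapIso eH) ≪≫ shf ≪≫
      (shiftFunctor (DCoh.D A.left) (-(g : ℤ))).mapIso (swp.symm ≪≫ (muH.app _).symm ≪≫
        (DCoh.LTensorMod H).mapIso eE)
  let T := (DCoh.LTensorCx N).obj ((DCoh.Lpull (pullback.fst A.hom At.hom) ⋙ DCoh.LTensorCx sP ⋙
      DCoh.Rpush (pullback.snd A.hom At.hom)).obj (DCoh.toD A.left E))
  let eF : (DCoh.Lpull (pullback.fst A.hom At.hom) ⋙ DCoh.LTensorCx sP ⋙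
      DCoh.Rpush (pullback.snd A.hom At.hom)).obj (DCoh.toD A.left E) ≅ Φ.obj F :=
    (DCoh.Rpush (pullback.snd A.hom At.hom)).mapIso ((mu.app _).symm ≪≫
      (DCoh.LTensorMod P).mapIso ((DCoh.Lpull (pullback.fst A.hom At.hom)).mapIso eE))
  -- vanishing on the dual side
  obtain ⟨hFc, loF, hiF, hFb⟩ := bounded_coh_transform hP hF
  haveI : (Φ.obj F).IsLE hiF := (DerivedCategory.isLE_iff _ _).2 fun q hq => hFb q (Or.inr hq)
  haveI : ((DCoh.LTensorCx N).obj (Φ.obj F)).IsLE hiF := (DerivedCategory.isLE_iff _ _).2 fun q hq =>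
    isZero_hd_ltensorCx_of_lt N 0 (Φ.obj F) hiF q (by omega)
  have hTq : DCoh.IsQCohD ((DCoh.LTensorCx N).obj (Φ.obj F)) :=
    DQGen.isQCohD_of_isPerfect (isPerfect_ltensorCx N hNp
      (haveI : (Φ.obj F).IsGE loF := (DerivedCategory.isGE_iff _ _).2 fun q hq => hFb q (Or.inl hq)
       S1005.result At.left (GrpSchLib.isRegularLocalRing_stalk_of_smooth At.hom) (Φ.obj F) loF hiF hFc))
  have hd : topologicalKrullDim At.left = (g : WithBot ℕ∞) := by
    haveI : HasInjectiveResolutions (pullback A.hom At.hom).Modules := KFlatLib.hasInjectiveResolutions_modules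
    exact AVPoinc.dim_eq hφ hP hξ hg
  letI : At.left.Over (Spec (CommRingCat.of k)) := ⟨At.hom⟩
  haveI : IsProper (At.left ↘ Spec (CommRingCat.of k)) := inferInstanceAs (IsProper At.hom)
  haveI : At.left.IsSeparated := AmpleVan.isSeparated_of_proper (A := k) (X := At.left)
  have hTz : IsZero (DCoh.HD ((DCoh.Rpush At.hom).obj ((DCoh.LTensorCx N).obj (Φ.obj F))) ((i : ℤ) + g)) := by
    refine isZero_hd_rpush_of_forall At _ hTq hiF inferInstance _ fun q hq hqj => ?_
    let S' : ℤ → Set At.left := fun p => CohB1.support (DCoh.HD (Φ.obj F) p)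
    let C : TopologicalSpace.Closeds At.left := ⟨⋃ p ∈ Set.Icc q hiF, S' p,
      (Set.finite_Icc q hiF).isClosed_biUnion fun p _ => QCoh.isClosed_support_of_isFT (hFc p).1 (hFc p).2⟩
    have hC : ∀ p, q ≤ p → CohB1.support (DCoh.HD (Φ.obj F) p) ⊆ C := fun p hp z hz => by
      by_cases hpb : p ≤ hiF
      · exact Set.mem_iUnion₂.2 ⟨p, ⟨hp, hpb⟩, hz⟩
      · exact absurd hz (Snapper.notMem_support_iff.2 ((DerSch.stalkFunctor _ z).map_isZero (hFb p (Or.inr (by omega)))))
    have hpts : ∀ z ∈ (C : Set At.left),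
        topologicalKrullDim ↥(closure ({z} : Set At.left)) + (q.toNat : WithBot ℕ∞) ≤ (g : WithBot ℕ∞) := fun z hz => by
      obtain ⟨p, ⟨hp, -⟩, hzp⟩ := Set.mem_iUnion₂.1 hz
      by_cases hp0 : 0 ≤ p
      · obtain ⟨n, rfl⟩ := Int.eq_ofNat_of_zero_le hp0
        refine le_trans (add_le_add le_rfl ?_) (hsupp n z hzp)
        exact_mod_cast (show q.toNat ≤ n by omega)
      · rw [show q.toNat = 0 by omega, Nat.cast_zero, _root_.add_zero, ← hd]
        exact Topology.IsInducing.subtypeVal.topologicalKrullDim_le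
    refine Snapper.subsingleton_HH_of_dim_lt (g + 1 - q.toNat) C ?_ _ (hTq q)
      (support_hd_ltensorCx_subset N (Φ.obj F) C q hC q le_rfl) _ (by omega)
    rcases Nat.lt_or_ge g q.toNat with hgq | hgq
    · have he : (C : Set At.left) = ∅ := Set.eq_empty_of_forall_notMem fun z hz => by
        have h := hpts z hz
        haveI : Nonempty ↥(closure ({z} : Set At.left)) := ⟨⟨z, subset_closure rfl⟩⟩
        haveI : QuasiSober ↥(closure ({z} : Set At.left)) :=
          isClosed_closure.isClosedEmbedding_subtypeVal.quasiSober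
        have h0 : (0 : WithBot ℕ∞) ≤ topologicalKrullDim ↥(closure ({z} : Set At.left)) := by
          rw [DimFormula.topologicalKrullDim_subset]
          exact Order.krullDim_nonneg
        have h2 : (q.toNat : WithBot ℕ∞) ≤ (g : WithBot ℕ∞) := le_trans (le_add_of_nonneg_left h0) h
        exact absurd (by exact_mod_cast h2 : q.toNat ≤ g) (by omega)
      haveI : IsEmpty ↥(C : Set At.left) := Set.isEmpty_coe_sort.2 he
      haveI : QuasiSober ↥(C : Set At.left) := C.isClosed.isClosedEmbedding_subtypeVal.quasiSober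
      rw [DimFormula.topologicalKrullDim_subset, Order.krullDim_eq_bot]
      exact WithBot.bot_lt_coe _
    · refine lt_of_le_of_lt (krullDim_le_of_points C ((g - q.toNat : ℕ) : WithBot ℕ∞) fun z hz => ?_)
        (by exact_mod_cast (show g - q.toNat < g + 1 - q.toNat by omega))
      have h := hpts z hz
      generalize topologicalKrullDim ↥(closure ({z} : Set At.left)) = d at h ⊢
      induction d using WithBot.recBotCoe with
      | bot => exact bot_le
      | coe d =>
        induction d using ENat.recTopCoe with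
        | top =>
          exfalso
          have h' : ((⊤ : ℕ∞) + (q.toNat : ℕ∞)) ≤ (g : ℕ∞) := WithBot.coe_le_coe.1 h
          rw [top_add] at h'
          exact absurd h' (not_le.2 (ENat.natCast_lt_top g))
        | coe d =>
          have h' : ((d : ℕ∞) + (q.toNat : ℕ∞)) ≤ (g : ℕ∞) := WithBot.coe_le_coe.1 h
          have h'' : d + q.toNat ≤ g := by exact_mod_cast h'
          exact WithBot.coe_le_coe.2 (Nat.cast_le.2 (show d ≤ g - q.toNat by omega))
  have h1 : IsZero ((DerivedCategory.homologyFunctor AddCommGrpCat.{u} ((i : ℤ) + g)).obj ((DCoh.RΓ At.left).obj T)) :=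
    (isZero_hypercohomology_iff At.hom T _).2 (hTz.of_iso ((DerivedCategory.homologyFunctor _ _).mapIso
      ((DCoh.Rpush At.hom).mapIso ((DCoh.LTensorCx N).mapIso eF))))
  have h2 := (isZero_hypercohomology_iff A.hom _ ((i : ℤ) + g)).1
    (h1.of_iso ((DerivedCategory.homologyFunctor AddCommGrpCat.{u} ((i : ℤ) + g)).mapIso ex))
  obtain ⟨rs⟩ := nonempty_rpush_shift A.hom ((DCoh.LTensorMod H).obj F) (-(g : ℤ))
  exact (h2.of_iso ((DerivedCategory.homologyFunctor _ ((i : ℤ) + g)).mapIso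
    ((DCoh.Rpush A.hom).mapIso eL ≪≫ rs)).symm).of_iso
    (((DerivedCategory.homologyFunctor _ 0).shiftIso (-(g : ℤ)) ((i : ℤ) + g) (i : ℤ) (by omega)).app _).symm

/-- the tensor product of a GV object and an IT(0) sheaf is IT(0), in terms of hypercohomology -/
theorem isZero_hypercohomology_tensor_of_support {g : ℕ} (hg : topologicalKrullDim A.left = g)
    [DCoh.HasLpull (pullback.fst A.hom At.hom)] [DCoh.HasLTensorMod P] [DCoh.HasRpush (pullback.snd A.hom At.hom)]
    {H : A.left.Modules} (hH : Coh.IsCoh H)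
    (hH0 : ∀ (β : 𝟙_ (Over (Spec (CommRingCat.of k))) ⟶ At) (i : ℕ), 1 ≤ i → Subsingleton (Coh.HH A.left
      (CohB1.tensorMod H ((Scheme.Modules.pullback (CartesianMonoidalCategory.lift (𝟙 A) (toUnit A ≫ β)).left).obj P)) i))
    (F : DCoh.D A.left) (hF : DCoh.IsPerfect F)
    (hsupp : ∀ (q : ℕ), ∀ y ∈ CohB1.support (DCoh.HD ((DCoh.Lpull (pullback.fst A.hom At.hom) ⋙ DCoh.LTensorMod P ⋙
        DCoh.Rpush (pullback.snd A.hom At.hom)).obj F) (q : ℤ)),
      topologicalKrullDim ↥(closure ({y} : Set At.left)) + (q : WithBot ℕ∞) ≤ (g : WithBot ℕ∞))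
    (α : 𝟙_ (Over (Spec (CommRingCat.of k))) ⟶ At) [DCoh.HasLTensorMod H]
    [DCoh.HasLTensorMod ((Scheme.Modules.pullback (CartesianMonoidalCategory.lift (𝟙 A) (toUnit A ≫ α)).left).obj P)]
    [DCoh.HasRΓ A.left] (i : ℕ) (hi : 1 ≤ i) :
    IsZero ((DerivedCategory.homologyFunctor AddCommGrpCat.{u} (i : ℤ)).obj ((DCoh.RΓ A.left).obj
      ((DCoh.LTensorMod ((Scheme.Modules.pullback (CartesianMonoidalCategory.lift (𝟙 A) (toUnit A ≫ α)).left).obj P)).obj
        ((DCoh.LTensorMod H).obj F)))) := by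
  haveI : IsLocallyNoetherian A.left := LocallyOfFiniteType.isLocallyNoetherian A.hom
  let Pa := (Scheme.Modules.pullback (CartesianMonoidalCategory.lift (𝟙 A) (toUnit A ≫ α)).left).obj P
  have hPa : PicF.IsInvertible Pa := PicClLib.isInvertible_pullback _ hP
  let H' := CohB1.tensorMod H Pa
  have hH' : Coh.IsCoh H' := AmpleVan.isCoh_tensor hH (AmpleVan.isCoh_invertible hPa)
  have hH0' : ∀ (β : 𝟙_ (Over (Spec (CommRingCat.of k))) ⟶ At) (i : ℕ), 1 ≤ i → Subsingleton (Coh.HH A.left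
      (CohB1.tensorMod H' ((Scheme.Modules.pullback (CartesianMonoidalCategory.lift (𝟙 A) (toUnit A ≫ β)).left).obj P)) i) :=
    fun β j hj => by
      obtain ⟨m⟩ := nonempty_slice_mul hφ hξ α β
      have e : PicF.cl (CohB1.tensorMod H' ((Scheme.Modules.pullback
          (CartesianMonoidalCategory.lift (𝟙 A) (toUnit A ≫ β)).left).obj P)) = PicF.cl (CohB1.tensorMod H
            ((Scheme.Modules.pullback (CartesianMonoidalCategory.lift (𝟙 A) (toUnit A ≫ (α * β))).left).obj P)) := by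
        rw [PicMul.cl_tensor, PicMul.cl_tensor, PicMul.cl_tensor, _root_.mul_assoc]
        exact congrArg (PicF.cl H * ·) ((PicMul.cl_tensor _ _).symm.trans ((PicGrp.cl_eq_cl_iff _ _).2 ⟨m⟩))
      exact QCoh.subsingleton_HH_of_iso ((PicGrp.cl_eq_cl_iff _ _).1 e).some.symm j (hH0 (α * β) j hj)
  refine (isZero_hypercohomology_iff A.hom _ (i : ℤ)).2 ?_
  let sH := (HomologicalComplex.single A.left.Modules (ComplexShape.up ℤ) 0).obj H
  let sA := (HomologicalComplex.single A.left.Modules (ComplexShape.up ℤ) 0).obj Pa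
  let sH' := (HomologicalComplex.single A.left.Modules (ComplexShape.up ℤ) 0).obj H'
  obtain ⟨m1⟩ := nonempty_ltensorMod_iso_cx H
  obtain ⟨m2⟩ := nonempty_ltensorMod_iso_cx Pa
  obtain ⟨m3⟩ := nonempty_ltensorMod_iso_cx H'
  obtain ⟨c⟩ := nonempty_LTensorCx_comp sH sA (isKFlat_single (isFlat_of_invertible hPa))
  let es : (DCoh.tensorCx.obj sH).obj sA ≅ sH' :=
    (singleIso DCoh.tensorBi Pa).app sH ≪≫
      (NatIso.mapHomologicalComplex (Exactness.flipTensorIso Pa) (ComplexShape.up ℤ)).app sH ≪≫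
      (HomologicalComplex.singleMapHomologicalComplex (DCoh.tensorRightMod Pa) (ComplexShape.up ℤ) 0).app H
  obtain ⟨c'⟩ := nonempty_LTensorCx_congr_D (P := (DCoh.tensorCx.obj sH).obj sA) (E := sH')
    (DerivedCategory.Q.mapIso es)
  exact (isZero_hd_rpush_tensor_of_support hφ hP hξ hg hH' hH0' F hF hsupp i hi).of_iso
    ((DerivedCategory.homologyFunctor _ _).mapIso ((DCoh.Rpush A.hom).mapIso (m2.app _ ≪≫
      (DCoh.LTensorCx sA).mapIso (m1.app F) ≪≫ c.app F ≪≫ c'.app F ≪≫ (m3.app F).symm)))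

end AbelianVariety

end Groth.Agent.FMBase

end
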