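import Groth.Agent.FMBase.Point
import Groth.Agent.KFlatLib.Scheme.TensorAssoc
import Groth.Agent.KFlatLib.Scheme.PullTensorCx
import Groth.Agent.ParaFX.FlatDesc
import Groth.Agent.H23.PicInv
import Groth.Agent.KFlatLib.SingleIso

/-!
# Twisting by flat and by invertible modules

Derived pullback commutes with tensoring by flat modules, twists compose, and the projection formula
holds for invertible modules on all of the derived category.
-/

noncomputable section

set_option autoImplicit false
set_option backward.isDefEq.respectTransparency false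
set_option backward.isDefEq.respectTransparency.types false
set_option linter.style.haveILetI false
set_option maxHeartbeats 1000000
set_option synthInstance.maxHeartbeats 400000

universe u

open CategoryTheory CategoryTheory.Limits AlgebraicGeometry MonoidalCategory CartesianMonoidalCategory

attribute [-instance] CategoryTheory.catToReflQuiver

namespace Groth.Agent.FMBase

open Groth.Agent.KFlatLib Groth.Agent.DQGen Groth.Agent.RBC Groth.Agent.GBC

attribute [local instance] hasLpull hasRpush_scheme hasLTensorMod hasLTensorCx HasDerivedCategory.standard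

variable {X Y : Scheme.{u}}

/-- tensoring a K-flat complex with a flat module gives a K-flat complex -/
theorem isKFlat_tensorModCx {M : X.Modules} (hM : FlatMod.IsFlat M) {C : CochainComplex X.Modules ℤ}
    (hC : DCoh.IsKFlat C) : DCoh.IsKFlat ((tensorModCx M).obj C) := by
  have h := isKFlat_tensorCx hC (isKFlat_of_isStrictlyLE _ 0 (isFlat_single 0 hM))
  exact kFlat_iff_isKFlat.1 ((kFlat_iff_isKFlat.2 h).of_iso ((singleIso DCoh.tensorBi M).app C ≪≫ (NatIso.mapHomologicalComplex (Exactness.flipTensorIso M) (ComplexShape.up ℤ)).app C))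

/-- isomorphic modules give isomorphic twists -/
def tensorRightModCongr {M N : X.Modules} (e : M ≅ N) : DCoh.tensorRightMod M ≅ DCoh.tensorRightMod N :=
  (Exactness.flipTensorIso M).symm ≪≫ DCoh.tensorBi.flip.mapIso e ≪≫ Exactness.flipTensorIso N

/-- twists by isomorphic modules agree -/
theorem nonempty_ltensorMod_congr {M N : X.Modules} (e : M ≅ N) [DCoh.HasLTensorMod M] [DCoh.HasLTensorMod N] :
    Nonempty (DCoh.LTensorMod M ≅ DCoh.LTensorMod N) := by
  obtain ⟨μ, -⟩ := exists_iso_lift_flat (F₁ := DCoh.LTensorMod M) (F₂ := DCoh.LTensorMod N)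
    (H := tensorModCx N ⋙ DerivedCategory.Q)
    (ltensorModComparison M ≫
      Functor.whiskerRight (NatIso.mapHomologicalComplex (tensorRightModCongr e) (ComplexShape.up ℤ)).hom _)
    (ltensorModComparison N)
    (fun C hC => by
      haveI := isIso_ltensorModComparison M hC
      simp only [NatTrans.comp_app, Functor.whiskerRight_app]
      infer_instance)
    (fun C hC => isIso_ltensorModComparison N hC)
  exact ⟨μ⟩

/-- derived pullback commutes with twists by flat modules -/
theorem nonempty_ltensorMod_lpull (g : X ⟶ Y) {G : Y.Modules} (hG : FlatMod.IsFlat G) [DCoh.HasLpull g]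
    [DCoh.HasLTensorMod G] [DCoh.HasLTensorMod ((Scheme.Modules.pullback g).obj G)] :
    Nonempty (DCoh.LTensorMod G ⋙ DCoh.Lpull g ≅
      DCoh.Lpull g ⋙ DCoh.LTensorMod ((Scheme.Modules.pullback g).obj G)) := by
  let G' := (Scheme.Modules.pullback g).obj G
  obtain ⟨μ, -⟩ := exists_iso_lift_flat (F₁ := DCoh.LTensorMod G ⋙ DCoh.Lpull g)
    (F₂ := DCoh.Lpull g ⋙ DCoh.LTensorMod G') (H := (tensorModCx G ⋙ pullCx g) ⋙ DerivedCategory.Q)
    ((Functor.associator _ _ _).inv ≫ Functor.whiskerRight (ltensorModComparison G) _ ≫ (Functor.associator _ _ _).hom ≫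
      Functor.whiskerLeft (tensorModCx G) (lpullComparison g) ≫ (Functor.associator _ _ _).inv)
    ((Functor.associator _ _ _).inv ≫ Functor.whiskerRight (lpullComparison g) _ ≫ (Functor.associator _ _ _).hom ≫
      Functor.whiskerLeft (pullCx g) (ltensorModComparison G') ≫ (Functor.associator _ _ _).inv ≫
      Functor.whiskerRight (pullCxTensorNat g G).inv _)
    (fun C hC => by
      haveI := isIso_ltensorModComparison G hC
      haveI := isIso_lpullComparison g (isKFlat_tensorModCx hG hC)
      simp only [NatTrans.comp_app, Functor.whiskerRight_app, Functor.whiskerLeft_app]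
      infer_instance)
    (fun C hC => by
      haveI := isIso_lpullComparison g hC
      haveI := isIso_ltensorModComparison G' (isKFlat_pullback g hC)
      simp only [NatTrans.comp_app, Functor.whiskerRight_app, Functor.whiskerLeft_app]
      infer_instance)
  exact ⟨μ⟩

/-- the associativity of twists of modules -/
def tensorRightModAssoc (A B : X.Modules) :
    DCoh.tensorRightMod A ⋙ DCoh.tensorRightMod B ≅ DCoh.tensorRightMod (CohB1.tensorMod A B) :=
  Functor.isoWhiskerRight (Exactness.flipTensorIso A).symm _ ≪≫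
    Functor.isoWhiskerLeft _ (Exactness.flipTensorIso B).symm ≪≫
    NatIso.ofComponents (F := DCoh.tensorBi.flip.obj A ⋙ DCoh.tensorBi.flip.obj B)
      (G := DCoh.tensorBi.flip.obj (CohB1.tensorMod A B))
      (fun M => (((tensorAssocSch X).app M).app A).app B)
      (fun φ => NatTrans.congr_app (NatTrans.congr_app ((tensorAssocSch X).hom.naturality φ) A) B) ≪≫
    Exactness.flipTensorIso _

/-- two twists compose to the twist by the tensor product -/
theorem nonempty_ltensorMod_comp {A : X.Modules} (hA : FlatMod.IsFlat A) (B : X.Modules) [DCoh.HasLTensorMod A]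
    [DCoh.HasLTensorMod B] [DCoh.HasLTensorMod (CohB1.tensorMod A B)] :
    Nonempty (DCoh.LTensorMod A ⋙ DCoh.LTensorMod B ≅ DCoh.LTensorMod (CohB1.tensorMod A B)) := by
  obtain ⟨μ, -⟩ := exists_iso_lift_flat (F₁ := DCoh.LTensorMod A ⋙ DCoh.LTensorMod B)
    (F₂ := DCoh.LTensorMod (CohB1.tensorMod A B)) (H := tensorModCx (CohB1.tensorMod A B) ⋙ DerivedCategory.Q)
    ((Functor.associator _ _ _).inv ≫ Functor.whiskerRight (ltensorModComparison A) _ ≫ (Functor.associator _ _ _).hom ≫
      Functor.whiskerLeft (tensorModCx A) (ltensorModComparison B) ≫ (Functor.associator _ _ _).inv ≫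
      Functor.whiskerRight (NatIso.mapHomologicalComplex (tensorRightModAssoc A B) (ComplexShape.up ℤ)).hom _)
    (ltensorModComparison _)
    (fun C hC => by
      haveI := isIso_ltensorModComparison A hC
      haveI := isIso_ltensorModComparison B (isKFlat_tensorModCx hA hC)
      simp only [NatTrans.comp_app, Functor.whiskerRight_app, Functor.whiskerLeft_app]
      infer_instance)
    (fun C hC => isIso_ltensorModComparison _ hC)
  exact ⟨μ⟩

/-- twisting by an invertible module is left adjoint to twisting by its inverse -/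
theorem nonempty_ltensorMod_adjunction {A B : X.Modules} (hA : FlatMod.IsFlat A) (hB : FlatMod.IsFlat B)
    (h : CohB1.tensorMod A B ≅ Coh.structureModule X) (h' : CohB1.tensorMod B A ≅ Coh.structureModule X)
    [DCoh.HasLTensorMod A] [DCoh.HasLTensorMod B] :
    Nonempty (DCoh.LTensorMod A ⊣ DCoh.LTensorMod B) := by
  obtain ⟨a⟩ := nonempty_ltensorMod_comp hA B
  obtain ⟨b⟩ := nonempty_ltensorMod_comp hB A
  obtain ⟨a'⟩ := nonempty_ltensorMod_trivial h
  obtain ⟨b'⟩ := nonempty_ltensorMod_trivial h'
  exact ⟨(CategoryTheory.Equivalence.mk (DCoh.LTensorMod A) (DCoh.LTensorMod B) (a ≪≫ a').symm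
    (b ≪≫ b')).toAdjunction⟩

/-- the projection formula for invertible modules -/
theorem nonempty_projection_invertible (f : X ⟶ Y) [DCoh.HasRpush f] {N : Y.Modules} (hN : PicF.IsInvertible N)
    [DCoh.HasLTensorMod N] [DCoh.HasLTensorMod ((Scheme.Modules.pullback f).obj N)] :
    Nonempty (DCoh.LTensorMod ((Scheme.Modules.pullback f).obj N) ⋙ DCoh.Rpush f ≅
      DCoh.Rpush f ⋙ DCoh.LTensorMod N) := by
  obtain ⟨N', hN', ⟨e⟩⟩ := H23.PicInv.exists_inverse hN
  obtain ⟨c⟩ := H23.PicMul.comm N' N
  obtain ⟨p⟩ := H23.PicMul.pull f N' N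
  obtain ⟨p'⟩ := H23.PicMul.pull f N N'
  have hfN := PicClLib.isInvertible_pullback f hN
  have hfN' := PicClLib.isInvertible_pullback f hN'
  have hflat : ∀ {Z : Scheme.{u}} {L : Z.Modules}, PicF.IsInvertible L → FlatMod.IsFlat L := fun hL =>
    isFlat_of_isFinLocFree (ParaFX.FlatDesc.isFinLocFree_of_invertible hL)
  let o := (PicClLib.nonempty_pullback_structureModule f).some
  obtain ⟨adjY⟩ := nonempty_ltensorMod_adjunction (hflat hN') (hflat hN) (c ≪≫ e) e
  obtain ⟨adjX⟩ := nonempty_ltensorMod_adjunction (hflat hfN') (hflat hfN)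
    (p.symm ≪≫ (Scheme.Modules.pullback f).mapIso (c ≪≫ e) ≪≫ o)
    (p'.symm ≪≫ (Scheme.Modules.pullback f).mapIso e ≪≫ o)
  obtain ⟨adjf⟩ := nonempty_lpull_rpush_adj f
  obtain ⟨γ'⟩ := nonempty_ltensorMod_lpull f (hflat hN')
  exact ⟨(((adjY.comp adjf).ofNatIsoLeft γ').rightAdjointUniq (adjf.comp adjX)).symm⟩

end Groth.Agent.FMBase

end
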