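import Groth.Agent.FinDesc.Biduality
import Groth.Agent.FMBase.Twist

/-!
# The Poincaré class is additive in both variables
-/

noncomputable section

set_option autoImplicit false
set_option backward.isDefEq.respectTransparency false
set_option backward.isDefEq.respectTransparency.types false
set_option linter.style.haveILetI false
set_option linter.unusedSectionVars false
set_option maxHeartbeats 1000000
set_option synthInstance.maxHeartbeats 400000

universe u

open CategoryTheory CategoryTheory.Limits MonoidalCategory CartesianMonoidalCategory MonObj AlgebraicGeometry TopologicalSpace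

attribute [-instance] CategoryTheory.catToReflQuiver

namespace Groth.Agent.FMBase

open Groth.Agent.H23 Groth.Agent.H23.TrivBasic Groth.Agent.H23.CubeAb Groth.Agent.AbDualBase
open scoped Groth.Agent.H23.PicMul CategoryTheory.Obj

variable {k : Type u} [Field k] {A At : Over (Spec (CommRingCat.of k))}
  [GrpObj A] [IsProper A.hom] [Smooth A.hom] [GeometricallyConnected A.hom]
  [GrpObj At] [IsProper At.hom] [Smooth At.hom] [GeometricallyConnected At.hom]
  {φ : ∀ T : Over (Spec (CommRingCat.of k)), PicF.Cl (PicF.XT A.hom T) → (T ⟶ At)}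
  (hφ : AbDual.IsDualAV Scheme.fppfPrecoverage A At φ)
  {ξ : PicF.Cl (PicF.XT A.hom At)} (hξ : AbDual.IsPoincareCl A At φ ξ)
include hφ hξ

/-- the Poincaré class is additive in the dual variable -/
theorem poincare_add {T : Over (Spec (CommRingCat.of k))} (a b : T ⟶ At) :
    PicF.pullCl (A ◁ (a * b)).left ξ = PicF.pullCl (A ◁ a).left ξ * PicF.pullCl (A ◁ b).left ξ := by
  haveI : GeometricallyIntegral A.hom := AVDual.geometricallyIntegral_of_smooth A
  haveI : GeometricallyIntegral At.hom := AVDual.geometricallyIntegral_of_smooth At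
  haveI : IsCommMonObj A := isCommMonObj_of_isProper_of_geometricallyIntegral A
  haveI : IsProper (At ⊗ At).hom := inferInstanceAs (IsProper (pullback.fst At.hom At.hom ≫ At.hom))
  haveI : GeometricallyIntegral (At ⊗ At).hom := MaxAbelian.geometricallyIntegral_tensor At At
  haveI : GeometricallyConnected (At ⊗ At).hom := CubeAb.geometricallyConnected_of_integral (At ⊗ At).hom
  let ξ' : PicF.Cl (A ⊗ At).left := ξ
  have hξi : PicF.IsInvertibleCl ξ' := pz_invertible hξ.1
  have e0 : PicF.pullCl (A ◁ η[At]).left ξ = (1 : PicF.Cl (A ⊗ 𝟙_ (Over (Spec (CommRingCat.of k)))).left) := by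
    rw [← PicZeroPrim.xtMap_eq]
    exact FinDesc.poincare_at_one hφ hξ
  let c₁ : PicF.Cl (A ⊗ (At ⊗ At)).left := F ξ' (A ◁ fst At At) * F ξ' (A ◁ snd At At)
  let e : 𝟙_ (Over (Spec (CommRingCat.of k))) ⟶ At ⊗ At := lift η[At] η[At]
  have hslice : ∀ (p : At ⊗ At ⟶ At), e ≫ p = η[At] →
      F ξ' (lift (𝟙 A) (toUnit A ≫ e) ≫ (A ◁ p)) = 1 := by
    intro p hp
    rw [show lift (𝟙 A) (toUnit A ≫ e) ≫ (A ◁ p) = lift (𝟙 A) (toUnit A) ≫ (A ◁ η[At]) by
      ext
      · simp
      · simp [hp]]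
    show PicF.pullCl (lift (𝟙 A) (toUnit A) ≫ (A ◁ η[At])).left ξ = 1
    rw [Over.comp_left, ← PicClLib.pullCl_comp, e0]
    exact pullCl_one' _
  have hc : AbDual.IsPicZeroCl A.hom (At ⊗ At) c₁ := by
    refine AbDualBase.pz_of_slice (A := A) (B := At ⊗ At) e ?_ (n := 1) ?_ ?_
    · exact PicMul.isInvertibleCl_mul (PicClLib.isInvertibleCl_pullCl _ hξi) (PicClLib.isInvertibleCl_pullCl _ hξi)
    · exact ⟨_, rfl, InvX.isInvertible_structureModule⟩
    · rw [pullCl_one']
      show PicMul.pullHom (lift (𝟙 A) (toUnit A ≫ e)).left (F ξ' (A ◁ fst At At) * F ξ' (A ◁ snd At At)) = 1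
      rw [map_mul, pull_F, pull_F, hslice _ (lift_fst _ _), hslice _ (lift_snd _ _), _root_.one_mul]
  have hz : ∀ {U : Over (Spec (CommRingCat.of k))} (g : U ⟶ At),
      AbDual.IsPicZeroCl A.hom U (PicF.pullCl (A ◁ g).left ξ) := fun g => by
    rw [← PicZeroPrim.xtMap_eq]
    exact pz_xtMap g hξ.1
  have hphi : ∀ {U : Over (Spec (CommRingCat.of k))} (g : U ⟶ At), φ U (PicF.pullCl (A ◁ g).left ξ) = g := fun g => by
    rw [← PicZeroPrim.xtMap_eq, hφ.relPic.natural _ _ g _ hξ.1, hξ.2.1, Category.comp_id]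
  have hsec : ∀ {U : Over (Spec (CommRingCat.of k))} (g : U ⟶ At),
      PicF.pullCl (PicF.secT A.hom η[A].left (Over.w η[A]) U) (PicF.pullCl (A ◁ g).left ξ) = 1 := fun g => by
    rw [← PicZeroPrim.xtMap_eq, PicClLib.pullCl_comp, FinDesc.secT_xtMap, ← PicClLib.pullCl_comp, hξ.2.2]
    exact pullCl_one' _
  have huniv : PicF.pullCl (A ◁ μ[At]).left ξ = c₁ := by
    refine PicZeroPrim.eq_of_phi hφ (hz μ[At]) hc ?_ ?_
    · rw [hphi]
      show _ = φ _ (PicF.pullCl (A ◁ fst At At).left ξ * PicF.pullCl (A ◁ snd At At).left ξ)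
      rw [phi_mul hφ (hz _) (hz _), hphi, hphi, ← mul_eq_mul]
    · rw [hsec]
      show _ = PicF.pullCl _ (PicF.pullCl (A ◁ fst At At).left ξ * PicF.pullCl (A ◁ snd At At).left ξ)
      rw [PicMul.pullCl_mul, hsec, hsec, _root_.one_mul]
  have h := congrArg (PicMul.pullHom (A ◁ lift a b).left) huniv
  rw [show c₁ = F ξ' (A ◁ fst At At) * F ξ' (A ◁ snd At At) from rfl, map_mul,
    show PicF.pullCl (A ◁ μ[At]).left ξ = F ξ' (A ◁ μ[At]) from rfl, pull_F, pull_F, pull_F,
    ← whiskerLeft_comp, ← whiskerLeft_comp, ← whiskerLeft_comp, lift_fst, lift_snd, ← Hom.mul_def] at h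
  exact h

/-- the Poincaré class is additive in the first variable -/
theorem poincare_add' {T : Over (Spec (CommRingCat.of k))} (a b : T ⟶ A) :
    PicF.pullCl ((a * b) ▷ At).left ξ = PicF.pullCl (a ▷ At).left ξ * PicF.pullCl (b ▷ At).left ξ := by
  haveI : GeometricallyIntegral A.hom := AVDual.geometricallyIntegral_of_smooth A
  haveI : IsCommMonObj A := isCommMonObj_of_isProper_of_geometricallyIntegral A
  let ξ' : PicF.Cl (A ⊗ At).left := ξ
  let m : T ⊗ At ⟶ A ⊗ (A ⊗ At) := lift (fst T At ≫ a) (lift (fst T At ≫ b) (snd T At))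
  let tr : A ⊗ (A ⊗ At) ⟶ A ⊗ At :=
    lift (fst A (A ⊗ At) * (snd A (A ⊗ At) ≫ fst A At)) (snd A (A ⊗ At) ≫ snd A At)
  have h : PicMul.pullHom m.left (F ξ' tr) =
      PicMul.pullHom m.left (F ξ' (snd A (A ⊗ At)) * F ξ' (A ◁ snd A At)) := by
    refine congrArg _ ?_
    have := PicZeroPrim.primitive hφ hξ.1 hξ.2.2
    rw [PicZeroPrim.xtMap_eq] at this
    exact this
  rw [map_mul, pull_F, pull_F, pull_F,
    show m ≫ tr = (a * b) ▷ At by
      ext
      · simp [m, tr, MonObj.comp_mul]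
      · simp [m, tr],
    show m ≫ snd A (A ⊗ At) = b ▷ At by ext <;> simp [m],
    show m ≫ (A ◁ snd A At) = a ▷ At by ext <;> simp [m], mul_comm (F ξ' (b ▷ At))] at h
  exact h

end Groth.Agent.FMBase

end
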