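import Groth.Agent.FMBase.Single
import Groth.Agent.FMBase.Transpose
import Groth.Agent.FinDesc.Isogeny

/-!
# The transform of a line bundle pulled back along its polarization
-/

noncomputable section

set_option autoImplicit false
set_option backward.isDefEq.respectTransparency false
set_option backward.isDefEq.respectTransparency.types false
set_option linter.style.haveILetI false
set_option linter.unusedSectionVars false
set_option maxHeartbeats 1000000
set_option synthInstance.maxHeartbeats 400000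

universe u

open CategoryTheory CategoryTheory.Limits MonoidalCategory CartesianMonoidalCategory MonObj AlgebraicGeometry

attribute [-instance] CategoryTheory.catToReflQuiver

namespace Groth.Agent.FMBase

open Groth.Agent.H23 Groth.Agent.H23.TrivBasic Groth.Agent.H23.CubeAb Groth.Agent.AbDualBase
open Groth.Agent.KFlatLib Groth.Agent.DQGen Groth.Agent.RBC Groth.Agent.GBC
open scoped Groth.Agent.H23.PicMul CategoryTheory.Obj

attribute [local instance] hasLpull hasRpush_scheme hasLTensorMod hasLTensorCx HasDerivedCategory.standard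

/-- a module with an inverse of an invertible module is invertible -/
theorem isInvertible_of_tensor {X : Scheme.{u}} {L L' : X.Modules} (hL : PicF.IsInvertible L)
    (e : CohB1.tensorMod L L' ≅ Coh.structureModule X) : PicF.IsInvertible L' := by
  obtain ⟨D, hD, he⟩ := PicInv.exists_inverse hL
  have h1 : PicF.cl L * PicF.cl L' = 1 := (PicGrp.cl_eq_cl_iff _ _).2 ⟨e⟩
  have h2 : PicF.cl L * PicF.cl D = 1 := (PicGrp.cl_eq_cl_iff _ _).2 he
  obtain ⟨i⟩ := (PicGrp.cl_eq_cl_iff D L').1 ((PicMul.isUnit_cl hL).mul_left_cancel (h2.trans h1.symm))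
  exact PicMul.isInvertible_of_iso i hD

variable {k : Type u} [Field k] {A At : Over (Spec (CommRingCat.of k))}
  [GrpObj A] [IsProper A.hom] [Smooth A.hom] [GeometricallyConnected A.hom]
  [GrpObj At] [IsProper At.hom] [Smooth At.hom] [GeometricallyConnected At.hom]
  {φ : ∀ T : Over (Spec (CommRingCat.of k)), PicF.Cl (PicF.XT A.hom T) → (T ⟶ At)}
  (hφ : AbDual.IsDualAV Scheme.fppfPrecoverage A At φ)
  {P : (pullback A.hom At.hom).Modules} (hP : PicF.IsInvertible P)
  (hPξ : AbDual.IsPoincareCl A At φ (PicF.cl P))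
include hφ hP hPξ

/-- the transform of a line bundle, pulled back along its polarization -/
theorem nonempty_pull_phi_transform {L : A.left.Modules} (hL : PicF.IsInvertible L) {L' : A.left.Modules}
    (eL : CohB1.tensorMod L L' ≅ Coh.structureModule A.left) {Λ : (PicF.XT A.hom A).Modules}
    (hΛ : Nonempty (Λ ≅ CohB1.tensorMod (CohB1.tensorMod ((Scheme.Modules.pullback μ[A].left).obj L)
      ((Scheme.Modules.pullback (fst A A).left).obj L')) ((Scheme.Modules.pullback (snd A A).left).obj L')))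
    (hΛ0 : AbDual.IsPicZeroCl A.hom A (PicF.cl Λ))
    [DCoh.HasLpull (pullback.fst A.hom At.hom)] [DCoh.HasLTensorMod P] [DCoh.HasRpush (pullback.snd A.hom At.hom)]
    [DCoh.HasLpull (φ A (PicF.cl Λ)).left] [DCoh.HasRpush A.hom] [DCoh.HasLpull A.hom] [DCoh.HasLTensorMod L'] :
    Nonempty ((DCoh.Lpull (φ A (PicF.cl Λ)).left).obj ((DCoh.Lpull (pullback.fst A.hom At.hom) ⋙
        DCoh.LTensorMod P ⋙ DCoh.Rpush (pullback.snd A.hom At.hom)).obj (DCoh.inD A.left L)) ≅
      (DCoh.LTensorMod L').obj ((DCoh.Lpull A.hom).obj ((DCoh.Rpush A.hom).obj (DCoh.inD A.left L)))) := by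
  haveI : GeometricallyIntegral A.hom := AVDual.geometricallyIntegral_of_smooth A
  haveI : IsCommMonObj A := isCommMonObj_of_isProper_of_geometricallyIntegral A
  obtain ⟨eΛ⟩ := hΛ
  have hL' : PicF.IsInvertible L' := isInvertible_of_tensor hL eL
  let l : PicF.Cl A.left := PicF.cl L
  let l' : PicF.Cl A.left := PicF.cl L'
  have hll : l * l' = 1 := (PicGrp.cl_eq_cl_iff _ _).2 ⟨eL⟩
  have hcl : (PicF.cl Λ : PicF.Cl (A ⊗ A).left) = F l μ[A] * F l' (fst A A) * F l' (snd A A) :=
    (PicGrp.cl_eq_cl_iff _ _).2 ⟨eΛ⟩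
  have hsec : PicF.pullCl (PicF.secT A.hom η[A].left (Over.w η[A]) A) (PicF.cl Λ) = 1 := by
    rw [PicZeroPrim.secT_eq]
    show PicMul.pullHom (lift (toUnit A ≫ η[A]) (𝟙 A)).left (PicF.cl Λ : PicF.Cl (A ⊗ A).left) = 1
    rw [hcl, map_mul, map_mul, pull_F, pull_F, pull_F, lift_fst, lift_snd,
      show lift (toUnit A ≫ η[A]) (𝟙 A) ≫ μ[A] = 𝟙 A by
        rw [← Hom.mul_def, ← Hom.one_def, _root_.one_mul],
      _root_.mul_right_comm]
    have h0 : F l' (toUnit A ≫ η[A]) = 1 := by
      show PicF.pullCl (toUnit A ≫ η[A]).left l' = 1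
      rw [Over.comp_left, ← PicClLib.pullCl_comp, pullCl_point η[A].left ⟨L', rfl, hL'⟩]
      exact pullCl_one' _
    rw [h0, _root_.mul_one]
    show PicMul.pullHom (𝟙 A : A ⟶ A).left l * PicMul.pullHom (𝟙 A : A ⟶ A).left l' = 1
    rw [← map_mul, hll, map_one]
  let f : A ⟶ At := φ A (PicF.cl Λ)
  let a₁ : pullback A.hom A.hom ⟶ A.left := pullback.fst A.hom A.hom
  let a₂ : pullback A.hom A.hom ⟶ A.left := pullback.snd A.hom A.hom
  let m : pullback A.hom A.hom ⟶ A.left := (μ[A]).left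
  let p₂ : pullback A.hom At.hom ⟶ At.left := pullback.snd A.hom At.hom
  let τ : pullback A.hom A.hom ⟶ pullback A.hom At.hom := (A ◁ f).left
  have H : IsPullback τ a₂ p₂ f.left := by
    have := FinDesc.isPullback_proj A.hom f
    rwa [PicZeroPrim.xtMap_eq] at this
  have hτ : τ ≫ pullback.fst A.hom At.hom = a₁ := congrArg (fun g => g.left) (whiskerLeft_fst A f)
  obtain ⟨e⟩ : Nonempty ((Scheme.Modules.pullback τ).obj P ≅ Λ) := by
    refine (PicGrp.cl_eq_cl_iff _ _).1 ?_
    have := FinDesc.pull_poincare hφ hPξ hΛ0 hsec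
    rwa [PicZeroPrim.xtMap_eq] at this
  obtain ⟨β⟩ := nonempty_transform_baseChange H (pullback.fst A.hom At.hom) (ProjUPX.isQCoh_of_isInvertible hP)
    (Seesaw.isFlatOver_of_isInvertible _ hP)
  obtain ⟨δ⟩ := nonempty_lpull_congr hτ
  obtain ⟨cg⟩ := nonempty_ltensorMod_congr e
  let E : ObjectProperty.FullSubcategory (DCoh.IsQCohD (X := A.left)) :=
    ⟨DCoh.inD A.left L, isQCohD_inD (ProjUPX.isQCoh_of_isInvertible hL)⟩
  let N := (Scheme.Modules.pullback a₂).obj L'
  have hN : PicF.IsInvertible N := PicClLib.isInvertible_pullback _ hL'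
  obtain ⟨i₁⟩ := nonempty_lpull_inD a₁ (isFlat_of_invertible hL)
  obtain ⟨i₂⟩ := nonempty_lpull_inD m (isFlat_of_invertible hL)
  obtain ⟨t₁⟩ := nonempty_ltensorMod_inD (isFlat_of_invertible (PicClLib.isInvertible_pullback a₁ hL)) Λ
  obtain ⟨t₂⟩ := nonempty_ltensorMod_inD (isFlat_of_invertible (PicClLib.isInvertible_pullback m hL)) N
  obtain ⟨e'⟩ : Nonempty (CohB1.tensorMod ((Scheme.Modules.pullback a₁).obj L) Λ ≅
      CohB1.tensorMod ((Scheme.Modules.pullback m).obj L) N) := by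
    refine (PicGrp.cl_eq_cl_iff _ _).1 ?_
    show F l (fst A A) * (PicF.cl Λ : PicF.Cl (A ⊗ A).left) = F l μ[A] * F l' (snd A A)
    rw [hcl, mul_comm (F l μ[A]) (F l' (fst A A)), _root_.mul_assoc, ← _root_.mul_assoc,
      show F l (fst A A) * F l' (fst A A) = 1 by
        show PicMul.pullHom (fst A A).left l * PicMul.pullHom (fst A A).left l' = 1
        rw [← map_mul, hll, map_one], _root_.one_mul]
  let s : A ⊗ A ⟶ A ⊗ A := lift μ[A] (snd A A)
  have hss : s ≫ lift (fst A A * (snd A A)⁻¹) (snd A A) = 𝟙 _ := by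
    ext
    · simp [s, MonObj.comp_mul, GrpObj.comp_inv, MonObj.mul_eq_mul, mul_inv_cancel_right]
    · simp [s]
  have hss' : lift (fst A A * (snd A A)⁻¹) (snd A A) ≫ s = 𝟙 _ := by
    ext
    · simp [s, MonObj.comp_mul, MonObj.mul_eq_mul, inv_mul_cancel_right]
    · simp [s]
  haveI : IsIso s := ⟨_, hss, hss'⟩
  haveI : IsIso s.left := (Over.forget _).map_isIso s
  have H' : IsPullback m a₂ A.hom A.hom := by
    refine (IsPullback.of_hasPullback A.hom A.hom).of_iso (asIso s.left).symm (Iso.refl _) (Iso.refl _)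
      (Iso.refl _) ?_ ?_ (by simp) (by simp)
    · rw [Iso.symm_hom, asIso_inv, Iso.refl_hom, Category.comp_id, IsIso.eq_inv_comp]
      exact congrArg (fun g => g.left) (lift_fst μ[A] (snd A A))
    · rw [Iso.symm_hom, asIso_inv, Iso.refl_hom, Category.comp_id, IsIso.eq_inv_comp]
      exact congrArg (fun g => g.left) (lift_snd μ[A] (snd A A))
  obtain ⟨π⟩ := nonempty_projection_invertible a₂ hL'
  obtain ⟨b⟩ := nonempty_baseChange_flat H'
  exact ⟨β.app E ≪≫ (DCoh.Rpush a₂).mapIso ((DCoh.LTensorMod _).mapIso (δ.app E.obj) ≪≫ cg.app _ ≪≫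
      (DCoh.LTensorMod Λ).mapIso i₁ ≪≫ t₁ ≪≫ (DerivedCategory.singleFunctor _ 0).mapIso e' ≪≫ t₂.symm ≪≫
      (DCoh.LTensorMod N).mapIso i₂.symm) ≪≫ π.app _ ≪≫ (DCoh.LTensorMod L').mapIso (b.app E).symm⟩

end Groth.Agent.FMBase

end
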