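import Groth.Agent.FMBase.TopTensor
import Groth.Agent.FMBase.Exchange
import Groth.Agent.FMBase.ProjNat
import Groth.Agent.BMLib.Dim
import Groth.Agent.DimFormula.Jacobson

/-!
# Derived tensor products of complexes: symmetry, shifts, supports
-/

set_option autoImplicit false
set_option backward.isDefEq.respectTransparency false
set_option backward.isDefEq.respectTransparency.types false
set_option maxHeartbeats 1000000
set_option synthInstance.maxHeartbeats 400000
set_option linter.style.haveILetI false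
universe u

noncomputable section

open CategoryTheory CategoryTheory.Limits AlgebraicGeometry Pretriangulated TopologicalSpace

attribute [-instance] CategoryTheory.catToReflQuiver

namespace Groth.Agent.FMBase

open Groth.Agent.KFlatLib Groth.Agent.DQGen Groth.Agent.GBC

attribute [local instance] hasLpull hasRpush_scheme hasLTensorMod hasLTensorCx HasDerivedCategory.standard

variable {X : Scheme.{u}}

/-- the derived tensor product is symmetric -/
theorem nonempty_ltensorCx_swap (A B : CochainComplex X.Modules ℤ) [DCoh.HasLTensorCx A] [DCoh.HasLTensorCx B] :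
    Nonempty ((DCoh.LTensorCx A).obj (DCoh.toD X B) ≅ (DCoh.LTensorCx B).obj (DCoh.toD X A)) := by
  obtain ⟨R, hR, ⟨eR⟩⟩ := exists_kFlat_rep (DCoh.toD X A)
  obtain ⟨R', hR', ⟨eR'⟩⟩ := exists_kFlat_rep (DCoh.toD X B)
  obtain ⟨c⟩ := nonempty_LTensorCx_congr_D (P := A) (E := R) eR.symm
  obtain ⟨c'⟩ := nonempty_LTensorCx_congr_D (P := B) (E := R') eR'.symm
  exact ⟨c.app _ ≪≫ (DCoh.LTensorCx R).mapIso eR'.symm ≪≫ ltensorCxIso R hR' ≪≫
    DerivedCategory.Q.mapIso (braidCx R' R) ≪≫ (ltensorCxIso R' hR).symm ≪≫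
    (DCoh.LTensorCx R').mapIso eR ≪≫ (c'.app _).symm⟩

/-- the derived tensor product commutes with shifts -/
theorem nonempty_ltensorCx_shift (E A : CochainComplex X.Modules ℤ) [DCoh.HasLTensorCx E] (n : ℤ) :
    Nonempty ((DCoh.LTensorCx E).obj ((DCoh.toD X A)⟦n⟧) ≅ ((DCoh.LTensorCx E).obj (DCoh.toD X A))⟦n⟧) := by
  obtain ⟨R, hR, ⟨eR⟩⟩ := exists_kFlat_rep (DCoh.toD X E)
  obtain ⟨c⟩ := nonempty_LTensorCx_congr_D (P := E) (E := R) eR.symm
  haveI := fun N => isIso_LTensorCx_counit_of_isKFlat_right R hR N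
  let ct := (DCoh.tensorCxQ R).totalLeftDerivedCounit DerivedCategory.Q (qisX X)
  exact ⟨c.app _ ≪≫ (DCoh.LTensorCx R).mapIso ((DerivedCategory.Q.commShiftIso n).app A).symm ≪≫
    asIso (ct.app (A⟦n⟧)) ≪≫ DerivedCategory.Q.mapIso ((tensorObjShiftIso A n).app R) ≪≫
    (DerivedCategory.Q.commShiftIso n).app _ ≪≫
    (shiftFunctor (DCoh.D X) n).mapIso ((asIso (ct.app A)).symm ≪≫ (c.app _).symm)⟩

/-- derived tensor products of complexes without high cohomology -/
theorem isZero_hd_ltensorCx_of_lt (A : CochainComplex X.Modules ℤ) [DCoh.HasLTensorCx A] (a : ℤ)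
    [(DCoh.toD X A).IsLE a] (K : DCoh.D X) (n : ℤ) [K.IsLE n] (i : ℤ) (hi : a + n < i) :
    IsZero (DCoh.HD ((DCoh.LTensorCx A).obj K) i) := by
  let C := DerivedCategory.Q.objPreimage K
  let eC : DerivedCategory.Q.obj C ≅ K := DerivedCategory.Q.objObjPreimageIso K
  haveI : C.IsLE n := by
    rw [← DerivedCategory.isLE_Q_obj_iff]
    exact DerivedCategory.TStructure.t.isLE_of_iso eC.symm n
  haveI : A.IsLE a := by
    rw [← DerivedCategory.isLE_Q_obj_iff]
    exact inferInstanceAs ((DCoh.toD X A).IsLE a)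
  obtain ⟨R, ρ, hρ, hR, hRf⟩ := exists_flat_rep C n
  obtain ⟨S, σ, hσ, hS, hSf⟩ := exists_flat_rep A a
  haveI := hρ
  haveI := hσ
  haveI := hR
  haveI := hS
  haveI := isIso_Q_map ρ hρ
  haveI := isIso_Q_map σ hσ
  obtain ⟨c⟩ := nonempty_LTensorCx_congr_D (P := A) (E := S) (asIso (DerivedCategory.Q.map σ)).symm
  refine IsZero.of_iso (ShortComplex.isZero_homology_of_isZero_X₂ _
    (isZero_tensorCx_X R S n a i (by omega)) : IsZero (((DCoh.tensorCx.obj R).obj S).homology i)) ?_
  exact (DerivedCategory.homologyFunctor X.Modules i).mapIso (c.app K ≪≫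
    (DCoh.LTensorCx S).mapIso (eC.symm ≪≫ (asIso (DerivedCategory.Q.map ρ)).symm) ≪≫ ltensorCxIso S hRf) ≪≫
    (DerivedCategory.homologyFunctorFactors X.Modules i).app _

/-- the support of a derived tensor product with a complex without positive cohomology -/
theorem support_hd_ltensorCx_subset (L : CochainComplex X.Modules ℤ) [DCoh.HasLTensorCx L]
    [(DCoh.toD X L).IsLE 0] (K : DCoh.D X) (C : Closeds X) (q : ℤ)
    (h : ∀ i, q ≤ i → CohB1.support (DCoh.HD K i) ⊆ C) (i : ℤ) (hi : q ≤ i) :
    CohB1.support (DCoh.HD ((DCoh.LTensorCx L).obj K) i) ⊆ C := by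
  intro x hx
  by_contra hxC
  let W : X.Opens := ⟨(C : Set X)ᶜ, C.isClosed.isOpen_compl⟩
  let r := Scheme.Modules.restrictFunctor W.ι
  have hres : ∀ (M : X.Modules), CohB1.support M ⊆ C → IsZero (M.restrict W.ι) := fun M hM =>
    isZero_of_stalk _ fun w => by
      have hw : Subsingleton ((DerSch.stalkFunctor X (W.ι w)).obj M) := by
        by_contra hne
        exact w.2 (hM hne)
      exact (KFlatLib.isZero_stalk_pullback W.ι w (@ModuleCat.isZero_of_subsingleton _ _ _ hw)).of_iso
        ((DerSch.stalkFunctor _ w).mapIso ((Scheme.Modules.restrictFunctorIsoPullback W.ι).app M))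
  haveI hKW : ((rho W.ι).obj K).IsLE (q - 1) := (DerivedCategory.isLE_iff _ _).2 fun j hj =>
    (hres _ (h j (by omega))).of_iso (hdRhoIso W.ι K j)
  let P := repK ((rho W.ι).obj (DCoh.toD X L))
  haveI : ((rho W.ι).obj (DCoh.toD X L)).IsLE 0 := (DerivedCategory.isLE_iff _ _).2 fun j hj =>
    ((Scheme.Modules.restrictFunctor W.ι).map_isZero (DerivedCategory.isZero_of_isLE _ 0 j hj)).of_iso
      (hdRhoIso W.ι _ j)
  haveI : (DCoh.toD _ P).IsLE 0 :=
    DerivedCategory.TStructure.t.isLE_of_iso (repKIso ((rho W.ι).obj (DCoh.toD X L))).symm 0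
  obtain ⟨t⟩ := PushAmp.nonempty_rho_ltensor W.ι L K P (repKIso _)
  have hz : IsZero ((DCoh.HD ((DCoh.LTensorCx L).obj K) i).restrict W.ι) :=
    (isZero_hd_ltensorCx_of_lt P 0 ((rho W.ι).obj K) (q - 1) i (by omega)).of_iso
      ((hdRhoIso W.ι _ i).symm ≪≫ (DerivedCategory.homologyFunctor _ i).mapIso t)
  exact hx (ModuleCat.subsingleton_of_isZero
    (isZero_stalk_of_restrict W.ι ⟨x, hxC⟩ ((DerSch.stalkFunctor _ _).map_isZero hz)))

/-- the dimension of a closed set is bounded by the dimensions of the closures of its points -/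
theorem krullDim_le_of_points (C : Closeds X) (n : WithBot ℕ∞)
    (h : ∀ x ∈ (C : Set X), topologicalKrullDim ↥(closure ({x} : Set X)) ≤ n) :
    topologicalKrullDim ↥(C : Set X) ≤ n := by
  haveI : QuasiSober ↥(C : Set X) := C.isClosed.isClosedEmbedding_subtypeVal.quasiSober
  rw [DimFormula.topologicalKrullDim_subset]
  refine iSup_le fun p => le_trans ?_ (h p.last.1 p.last.2)
  haveI : QuasiSober ↥(closure ({p.last.1} : Set X)) :=
    isClosed_closure.isClosedEmbedding_subtypeVal.quasiSober
  rw [DimFormula.topologicalKrullDim_subset]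
  let p' : LTSeries ↥(closure ({p.last.1} : Set X)) :=
    LTSeries.mk p.length (fun i => ⟨(p i).1, specializes_iff_mem_closure.1 (p.monotone (Fin.le_last i) :
      (p i).1 ≤ p.last.1)⟩) fun i j hij => p.strictMono hij
  exact Order.LTSeries.length_le_krullDim p'

/-- dimension of the closure of a point plus the dimension of the local ring -/
theorem krullDim_closure_add_stalk_le (y : X) :
    topologicalKrullDim ↥(closure ({y} : Set X)) + ringKrullDim (X.presheaf.stalk y) ≤ topologicalKrullDim X := by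
  haveI : Nonempty X := ⟨y⟩
  rw [BMLib.topologicalKrullDim_closure_singleton, ringKrullDim_stalk_eq_coheight, BMLib.krullDim_points,
    Order.krullDim_eq_iSup_height_add_coheight_of_nonempty]
  exact le_of_eq_of_le (WithBot.coe_add _ _).symm (WithBot.coe_le_coe.2 (le_iSup
    (fun x : X => Order.height x + Order.coheight x) y))

end Groth.Agent.FMBase

end
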