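import Groth.Agent.FMBase.FlatKernelCoh
import Groth.Agent.FMBase.TensorSupport
import Groth.Agent.PushAmp.Tensor
import Groth.Agent.DQGen.Vanish
import Groth.Agent.QCoh.ProperOver2
import Groth.Agent.ValLib.DvrClosure
import Groth.Agent.S1005
import Groth.Agent.S0921

/-!
# Fourier-Mukai transforms with a bounded coherent kernel and regular source
-/

set_option autoImplicit false
set_option linter.style.haveILetI false
set_option backward.isDefEq.respectTransparency false
set_option backward.isDefEq.respectTransparency.types false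
set_option maxHeartbeats 800000
set_option synthInstance.maxHeartbeats 400000

universe u

open CategoryTheory CategoryTheory.Limits AlgebraicGeometry TopologicalSpace CategoryTheory.Pretriangulated

attribute [-instance] CategoryTheory.catToReflQuiver

attribute [local instance] HasDerivedCategory.standard

noncomputable section

namespace Groth.Agent.FMBase

open Groth.Agent.KFlatLib Groth.Agent.DQGen

variable {X Z : Scheme.{u}}

/-- tensoring a bounded complex with a perfect object is bounded -/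
theorem exists_bounds_ltensorCx_perfect [CompactSpace Z] (A : CochainComplex Z.Modules ℤ)
    [DCoh.HasLTensorCx A] (a b : ℤ) [(DCoh.toD Z A).IsGE a] [(DCoh.toD Z A).IsLE b] {L : DCoh.D Z}
    (hL : DCoh.IsPerfect L) :
    ∃ c d : ℤ, ((DCoh.LTensorCx A).obj L).IsGE c ∧ ((DCoh.LTensorCx A).obj L).IsLE d := by
  obtain ⟨R, hR, ⟨eR⟩⟩ := exists_kFlat_rep L
  obtain ⟨A', hA', ⟨eA⟩⟩ := exists_kFlat_rep (DCoh.toD Z A)
  haveI := hasLTensorCx A'
  obtain ⟨cA⟩ := nonempty_LTensorCx_congr_D (P := A) (E := A') eA.symm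
  choose V lo hi hxV hV using PushAmp.exists_nbhd_amplitude hL R eR
  obtain ⟨s, hs⟩ := isCompact_univ.elim_finite_subcover (fun x : Z => (V x : Set Z))
    (fun x => (V x).2) (fun x _ => Set.mem_iUnion.2 ⟨x, hxV x⟩)
  obtain ⟨lo₀, hlo⟩ : ∃ c : ℤ, ∀ x ∈ s, c ≤ lo x := by
    classical
    obtain ⟨c, hc⟩ := (s.image lo).bddBelow
    exact ⟨c, fun x hx => hc (Finset.mem_coe.2 (Finset.mem_image_of_mem lo hx))⟩
  obtain ⟨hi₀, hhi⟩ : ∃ c : ℤ, ∀ x ∈ s, hi x ≤ c := by
    classical
    obtain ⟨c, hc⟩ := (s.image hi).bddAbove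
    exact ⟨c, fun x hx => hc (Finset.mem_coe.2 (Finset.mem_image_of_mem hi hx))⟩
  have hc : ∀ j : ℤ, j < a ∨ b < j → A'.ExactAt j := fun j hj => by
    rw [HomologicalComplex.exactAt_iff_isZero_homology]
    refine IsZero.of_iso ?_ (((DerivedCategory.homologyFunctorFactors _ j).app A').symm ≪≫
      (DerivedCategory.homologyFunctor _ j).mapIso eA)
    rcases hj with h | h
    · exact DerivedCategory.isZero_of_isGE (DCoh.toD Z A) a j h
    · exact DerivedCategory.isZero_of_isLE (DCoh.toD Z A) b j h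
  let W := (DCoh.tensorCx.obj R).obj A'
  let eW : DCoh.toD Z W ≅ (DCoh.LTensorCx A).obj L :=
    (ltensorCxIso A' hR).symm ≪≫ (DCoh.LTensorCx A').mapIso eR ≪≫ (cA.app L).symm
  have hW : ∀ i : ℤ, i < lo₀ + a ∨ hi₀ + b < i → W.ExactAt i := fun i hi => by
    refine (exact_iff_stalk _).2 fun x => ?_
    show ((stalkCx x).obj W).ExactAt i
    refine HomologicalComplex.ExactAt.of_iso ?_ (stalkTensorCxIso x R A')
    rw [HomologicalComplex.exactAt_iff_isZero_homology]
    obtain ⟨z, hz, hxz⟩ := Set.mem_iUnion₂.1 (hs (Set.mem_univ x))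
    exact PushAmp.isZero_homology_tensor_bounded
      (H9Misc.DRingTor.mono (hlo z hz) (hhi z hz) (hV z x hxz)) ((kFlat_iff_stalk A').1 hA' x)
      (fun j hj => (exact_iff_stalk _).1 (hc j hj) x) i hi
  have hz : ∀ i : ℤ, i < lo₀ + a ∨ hi₀ + b < i → IsZero (DCoh.HD ((DCoh.LTensorCx A).obj L) i) :=
    fun i hi => ((HomologicalComplex.exactAt_iff_isZero_homology _ i).1 (hW i hi)).of_iso
      (((DerivedCategory.homologyFunctor Z.Modules i).mapIso eW).symm ≪≫
        (DerivedCategory.homologyFunctorFactors _ i).app W)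
  exact ⟨lo₀ + a, hi₀ + b, (DerivedCategory.isGE_iff _ _).2 fun i hi => hz i (Or.inl hi),
    (DerivedCategory.isLE_iff _ _).2 fun i hi => hz i (Or.inr hi)⟩

/-- a derived tensor product vanishes where the complex does -/
theorem support_hd_ltensorCx_subset_cx (A : CochainComplex Z.Modules ℤ) [DCoh.HasLTensorCx A]
    (L : DCoh.D Z) (n : ℤ) [L.IsLE n] (C : Closeds Z)
    (h : ∀ i, CohB1.support (DCoh.HD (DCoh.toD Z A) i) ⊆ C) (i : ℤ) :
    CohB1.support (DCoh.HD ((DCoh.LTensorCx A).obj L) i) ⊆ C := by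
  let W : Z.Opens := ⟨(C : Set Z)ᶜ, C.isClosed.isOpen_compl⟩
  have hW : (W : Set Z)ᶜ = C := compl_compl _
  have hA : IsZero ((rho W.ι).obj (DCoh.toD Z A)) :=
    (isZero_rho_iff_support W _).2 fun j => (h j).trans hW.ge
  let P := repK ((rho W.ι).obj (DCoh.toD Z A))
  have hP : IsZero (DCoh.toD _ P) := hA.of_iso (repKIso _)
  haveI := hasLTensorCx P
  obtain ⟨t⟩ := PushAmp.nonempty_rho_ltensor W.ι A L P (repKIso _)
  haveI : ((rho W.ι).obj L).IsLE n := (DerivedCategory.isLE_iff _ _).2 fun j hj =>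
    ((Scheme.Modules.restrictFunctor W.ι).map_isZero (DerivedCategory.isZero_of_isLE L n j hj)).of_iso
      (hdRhoIso W.ι _ j)
  have hz : IsZero ((DCoh.HD ((DCoh.LTensorCx A).obj L) i).restrict W.ι) := by
    haveI : (DCoh.toD _ P).IsLE (i - n - 1) := (DerivedCategory.isLE_iff _ _).2 fun j _ =>
      Functor.map_isZero _ hP
    exact (isZero_hd_ltensorCx_of_lt P (i - n - 1) ((rho W.ι).obj L) n i (by omega)).of_iso
      ((hdRhoIso W.ι _ i).symm ≪≫ (DerivedCategory.homologyFunctor _ i).mapIso t)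
  intro x hx
  by_contra hxC
  exact hx (ModuleCat.subsingleton_of_isZero
    (isZero_stalk_of_restrict W.ι ⟨x, hxC⟩ ((DerSch.stalkFunctor _ _).map_isZero hz)))

/-- Fourier-Mukai transforms of bounded coherent objects on a regular source -/
theorem fourierMukai_regular_coh {Y : Scheme.{u}} [IsNoetherian X] [IsNoetherian Y]
    (hreg : ∀ x : X, IsRegularLocalRing (X.presheaf.stalk x)) (p : Z ⟶ X) (q : Z ⟶ Y)
    [LocallyOfFiniteType q] [QuasiCompact q] (K : CochainComplex Z.Modules ℤ)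
    (hK : DCoh.IsCohD (DCoh.toD Z K)) (kl ku : ℤ) (hKge : DerivedCategory.IsGE (DCoh.toD Z K) kl)
    (hKle : DerivedCategory.IsLE (DCoh.toD Z K) ku)
    (hsupp : ∀ i : ℤ, ClSub.IsProperOver q (CohB1.support (DCoh.HD (DCoh.toD Z K) i)))
    [DCoh.HasLpull p] [DCoh.HasLTensorCx K] [DCoh.HasRpush q] (M : DCoh.D X) (hM : DCoh.IsCohD M)
    (m n : ℤ) (hge : DerivedCategory.IsGE M m) (hle : DerivedCategory.IsLE M n) :
    DCoh.IsCohD ((DCoh.Rpush q).obj ((DCoh.LTensorCx K).obj ((DCoh.Lpull p).obj M))) ∧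
      ∃ m' n' : ℤ,
        DerivedCategory.IsGE ((DCoh.Rpush q).obj ((DCoh.LTensorCx K).obj ((DCoh.Lpull p).obj M))) m' ∧
        DerivedCategory.IsLE ((DCoh.Rpush q).obj ((DCoh.LTensorCx K).obj ((DCoh.Lpull p).obj M))) n' := by
  haveI := hge
  haveI := hle
  haveI := hKge
  haveI := hKle
  haveI : CompactSpace Z := QuasiCompact.compactSpace_of_compactSpace q
  haveI : IsLocallyNoetherian Z := LocallyOfFiniteType.isLocallyNoetherian q
  haveI : IsNoetherian Z := { }
  haveI : HasInjectiveResolutions Z.Modules := hasInjectiveResolutions_modules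
  have hMp : DCoh.IsPerfect M := Groth.Agent.S1005.result X hreg M m n hM
  obtain ⟨hL, hLle⟩ := isCohD_lpull p hM n
  haveI := hLle
  let L := (DCoh.Lpull p).obj M
  obtain ⟨c, d, hWge, hWle⟩ := exists_bounds_ltensorCx_perfect K kl ku (Groth.Agent.S0921.result p M hMp)
  let W := (DCoh.LTensorCx K).obj L
  have hWc : DCoh.IsCohD W := (Groth.Agent.S6498.result Z K L hL
    ⟨n, fun j hj => DerivedCategory.isZero_of_isLE L n j hj⟩
    hK ⟨ku, fun j hj => DerivedCategory.isZero_of_isLE (DCoh.toD Z K) ku j hj⟩).1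
  let ι : Type u := ULift.{u} (Set.Icc kl ku)
  let Cs : Set Z := ⋃ j : ι, CohB1.support (DCoh.HD (DCoh.toD Z K) j.down.1)
  haveI : Finite ι := Finite.of_equiv _ Equiv.ulift.symm
  have hCs : ClSub.IsProperOver q Cs := ValLib.isProperOver_iUnion' fun j : ι => hsupp j.down.1
  let C : Closeds Z := ⟨Cs, hCs.1⟩
  have hsub : ∀ i, CohB1.support (DCoh.HD (DCoh.toD Z K) i) ⊆ C := fun i => by
    by_cases hi : kl ≤ i ∧ i ≤ ku
    · exact fun x hx => Set.mem_iUnion.2 ⟨⟨⟨i, hi.1, hi.2⟩⟩, hx⟩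
    · have hz : IsZero (DCoh.HD (DCoh.toD Z K) i) := by
        rcases not_and_or.1 hi with h | h
        · exact DerivedCategory.isZero_of_isGE (DCoh.toD Z K) kl i (by omega)
        · exact DerivedCategory.isZero_of_isLE (DCoh.toD Z K) ku i (by omega)
      rw [QCoh.support_eq_empty_of_isZero hz (hK i).1]
      exact Set.empty_subset _
  have hq : ∀ i, GoodPush q (DCoh.HD W i) := fun i =>
    goodPush_of_properSupport q (hWc i) (isProperOver_mono hCs
      (QCoh.isClosed_support_of_isFT (hWc i).1 (hWc i).2)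
      (support_hd_ltensorCx_subset_cx K L n C hsub i))
  haveI : W.IsGE c := hWge
  haveI : W.IsLE d := hWle
  obtain ⟨n', hn'⟩ := exists_isLE_rpush q W c d hq
  exact ⟨isCohD_rpush_of_isGE q W c hq, c, n',
    (DerivedCategory.isGE_iff _ _).2 fun i hi => isZero_hd_rpush_of_lt q W c i hi, hn'⟩

end Groth.Agent.FMBase

end
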